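import Groth.Agent.SurfInt.Algebra
import Groth.Agent.Snapper.Multi
import Groth.Agent.Snapper.DimVanish
import Groth.Agent.H23.PicMul
import Groth.Prelude.Def_FGA

/-! Intersection numbers `FGA.intNum` as alternating sums over the monoid of classes. -/

noncomputable section

set_option linter.style.haveILetI false
set_option linter.unusedSectionVars false
set_option backward.isDefEq.respectTransparency false
set_option backward.isDefEq.respectTransparency.types false

universe u

open CategoryTheory CategoryTheory.Limits AlgebraicGeometry TopologicalSpace Opposite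

namespace Groth.Agent.SurfInt

open Groth.Agent
open scoped Groth.Agent.H23.PicMul

variable (k : Type u) [Field k] {X : Scheme.{u}} [X.Over (Spec (CommRingCat.of k))]

/-- `x ↦ χ(x ⊗ F)` on isomorphism classes. -/
def chiCl (F : X.Modules) : PicF.Cl X → ℤ :=
  Quot.lift (fun A => Curv2.euler k X (CohB1.tensorMod A F)) fun _ _ ⟨e⟩ =>
    CurveCohLib.euler_congr (k := k) (PicGrp.tensorModIso e (Iso.refl F))

theorem chiCl_cl (F A : X.Modules) : chiCl k F (PicF.cl A) = Curv2.euler k X (CohB1.tensorMod A F) := rfl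

theorem chiCl_one (F : X.Modules) : chiCl k F (1 : PicF.Cl X) = Curv2.euler k X F :=
  CurveCohLib.euler_congr (k := k) (CurveTensor.structureTensorIso F)

theorem cl_congr {A B : X.Modules} (e : A ≅ B) : PicF.cl A = PicF.cl B :=
  (PicGrp.cl_eq_cl_iff A B).2 ⟨e⟩

theorem chiCl_congr {F G : X.Modules} (e : F ≅ G) : chiCl k F = chiCl k G := by
  funext c
  induction c using Quot.ind with
  | mk A => exact CurveCohLib.euler_congr (k := k) (PicGrp.tensorModIso (Iso.refl A) e)

theorem chiCl_tensor (P F : X.Modules) :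
    chiCl k (CohB1.tensorMod P F) = fun x => chiCl k F (PicF.cl P * x) := by
  funext c
  induction c using Quot.ind with
  | mk A =>
    obtain ⟨e⟩ := H23.PicMul.assoc A P F
    show Curv2.euler k X (CohB1.tensorMod A (CohB1.tensorMod P F)) =
      chiCl k F (PicF.cl P * PicF.cl A)
    rw [mul_comm, ← H23.PicMul.cl_tensor, chiCl_cl]
    exact (CurveCohLib.euler_congr (k := k) e).symm

theorem chiCl_structureModule (A : X.Modules) :
    chiCl k (Coh.structureModule X) (PicF.cl A) = Curv2.euler k X A :=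
  CurveCohLib.euler_congr (k := k) (H23.PicMul.unit A).some

theorem cl_tensorList : ∀ l : List X.Modules, PicF.cl (FGA.tensorList l) = (l.map PicF.cl).prod
  | [] => rfl
  | A :: l => by
    rw [List.map_cons, List.prod_cons, ← cl_tensorList l, ← H23.PicMul.cl_tensor]
    rfl

theorem cl_tensorList_sort {r : ℕ} (M : Fin r → X.Modules) (I : Finset (Fin r)) :
    PicF.cl (FGA.tensorList ((I.sort (· ≤ ·)).map M)) = ∏ i ∈ I, PicF.cl (M i) := by
  rw [cl_tensorList, List.map_map, Finset.prod_eq_multiset_prod, ← Finset.sort_eq I (· ≤ ·),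
    Multiset.map_coe, Multiset.prod_coe]
  rfl

theorem cl_multiTwist {r : ℕ} (M : Fin r → X.Modules) (n : Fin r → ℕ) :
    PicF.cl (FGA.multiTwist M n) = ∏ i, PicF.cl (M i) ^ n i := by
  rw [FGA.multiTwist, cl_tensorList, List.map_map, Fin.prod_univ_def]
  exact congrArg List.prod (List.map_congr_left fun i _ => H23.PicMul.cl_tensorPow (M i) (n i))

theorem isInvertibleCl_prod {ι : Type*} (s : Finset ι) (m : ι → PicF.Cl X)
    (h : ∀ i ∈ s, PicF.IsInvertibleCl (m i)) : PicF.IsInvertibleCl (∏ i ∈ s, m i) := by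
  classical
  induction s using Finset.induction_on with
  | empty => rw [Finset.prod_empty]; exact ⟨_, rfl, PicLoc.isInvertible_structureModule X⟩
  | insert a s ha ih =>
    rw [Finset.prod_insert ha]
    exact H23.PicMul.isInvertibleCl_mul (h a (Finset.mem_insert_self a s))
      (ih fun i hi => h i (Finset.mem_insert_of_mem hi))

theorem isCoh_structureModule [IsLocallyNoetherian X] : Coh.IsCoh (Coh.structureModule X) :=
  CurveDeg.isCoh_of_isInvertible (PicLoc.isInvertible_structureModule X)

theorem isCoh_inv_tensor [IsLocallyNoetherian X] {A F : X.Modules} (hA : PicF.IsInvertible A) (hF : Coh.IsCoh F) :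
    Coh.IsCoh (CohB1.tensorMod A F) :=
  AmpleVan.isCoh_tensor (AmpleVan.isCoh_invertible hA) hF

theorem isCoh_congr [IsLocallyNoetherian X] {A B : X.Modules} (e : A ≅ B) (h : Coh.IsCoh A) : Coh.IsCoh B :=
  ParShLib.isCoh_ofIso e h

theorem dim_support_le {d : ℕ} (hd : topologicalKrullDim X ≤ d) (F : X.Modules) :
    topologicalKrullDim (CohB1.support F) ≤ d :=
  le_trans Topology.IsInducing.subtypeVal.topologicalKrullDim_le hd

theorem le_of_lt_succ_dim {T : WithBot ℕ∞} {s : ℕ} (h : T < ((s + 1 : ℕ) : WithBot ℕ∞)) :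
    T ≤ (s : WithBot ℕ∞) := by
  induction T using WithBot.recBotCoe with
  | bot => exact bot_le
  | coe t =>
    induction t using WithTop.recTopCoe with
    | top => exact absurd h (by exact_mod_cast not_top_lt)
    | coe a =>
      have h' : a < s + 1 := WithTop.coe_lt_coe.1 (WithBot.coe_lt_coe.1 h)
      exact WithBot.coe_le_coe.2 (WithTop.coe_le_coe.2 (Nat.lt_succ_iff.1 h'))

theorem eq_empty_of_dim_lt_zero {α : Type*} [TopologicalSpace α] {S : Set α}
    (h : topologicalKrullDim S < 0) : S = ∅ := by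
  by_contra hne
  obtain ⟨x, hx⟩ := Set.nonempty_iff_ne_empty.2 hne
  haveI : Nonempty S := ⟨⟨x, hx⟩⟩
  haveI : Nonempty (TopologicalSpace.IrreducibleCloseds S) :=
    ⟨⟨closure {⟨x, hx⟩}, isIrreducible_singleton.closure, isClosed_closure⟩⟩
  exact absurd h (not_lt.2 Order.krullDim_nonneg)

variable [IsProper (X ↘ Spec (CommRingCat.of k))] {d : ℕ} {r : ℕ}

include k in
theorem noeth : IsNoetherian X := CurveCohLib.isNoetherian_of_proper (k := k) (X := X)

theorem eulerCharLE_eq_euler (hd : topologicalKrullDim X ≤ d) {F : X.Modules} (hF : Coh.IsQCoh F) :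
    FGA.eulerCharLE k X F d = Curv2.euler k X F := by
  haveI := noeth k (X := X)
  haveI : X.IsSeparated := ⟨by
    rw [← Limits.terminal.comp_from (X ↘ Spec (CommRingCat.of k))]
    infer_instance⟩
  exact (Euler.euler_eq_sum k F (d + 1) fun i hi =>
    Snapper.subsingleton_HH_of_dim_le hd hF (Nat.lt_of_succ_le hi)).symm

theorem intNum_eq_dn (hd : topologicalKrullDim X ≤ d) {M : Fin r → X.Modules}
    (hM : ∀ i, PicF.IsInvertible (M i)) {F : X.Modules} (hF : Coh.IsCoh F) :
    FGA.intNum k X d M F = dn (chiCl k F) (fun i => PicF.cl (M i)) := by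
  haveI := noeth k (X := X)
  rw [FGA.intNum, dn, dd, Finset.powerset_univ]
  refine Finset.sum_congr rfl fun I _ => ?_
  congr 1
  rw [← cl_tensorList_sort, chiCl_cl]
  refine eulerCharLE_eq_euler k hd ?_
  obtain ⟨L, hL, hLi⟩ := isInvertibleCl_prod I (fun i => PicF.cl (M i)) fun i _ => ⟨M i, rfl, hM i⟩
  have hiso := (PicGrp.cl_eq_cl_iff _ _).1 (hL.trans (cl_tensorList_sort M I).symm)
  exact (isCoh_congr (PicGrp.tensorModIso hiso.some (Iso.refl F)) (isCoh_inv_tensor hLi hF)).1

/-- The alternating sum vanishes below the dimension of the support. -/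
theorem dn_chiCl_eq_zero {M : Fin r → X.Modules}
    (hM : ∀ i, PicF.IsInvertible (M i)) {F : X.Modules} (hF : Coh.IsCoh F)
    (hr : topologicalKrullDim (CohB1.support F) < r) :
    dn (chiCl k F) (fun i => PicF.cl (M i)) = 0 := by
  haveI := noeth k (X := X)
  have key : ∀ n : Fin r → ℕ, chiCl k F (∏ i, PicF.cl (M i) ^ n i) =
      Curv2.euler k X (Curv2.tensorPows F r M n) := fun n => by
    rw [← cl_multiTwist, chiCl_cl]
    exact CurveCohLib.euler_congr (k := k) (Snapper.multiTwist_iso M n F).some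
  cases r with
  | zero =>
    rw [dn_zero, chiCl_one]
    have h0 := Snapper.χs_eq_zero k (L := M) hM hF
      (eq_empty_of_dim_lt_zero (by simpa using hr)) Fin.elim0
    simpa [Snapper.χs, Curv2.tensorPows] using h0
  | succ s =>
    obtain ⟨P, hP, hPn⟩ := Snapper.exists_mpoly k hM hF (le_of_lt_succ_dim hr)
    exact dn_eq_zero_of_mpoly _ _ (Nat.lt_succ_of_le hP) fun n => by rw [key]; exact hPn n

theorem intNum_eq_zero_of_lt (hd : topologicalKrullDim X ≤ d) {M : Fin r → X.Modules}
    (hM : ∀ i, PicF.IsInvertible (M i)) {F : X.Modules} (hF : Coh.IsCoh F)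
    (hr : topologicalKrullDim (CohB1.support F) < r) : FGA.intNum k X d M F = 0 := by
  rw [intNum_eq_dn k hd hM hF]
  exact dn_chiCl_eq_zero k hM hF hr

theorem intNum_additive (hd : topologicalKrullDim X ≤ d) {M : Fin r → X.Modules}
    (hM : ∀ i, PicF.IsInvertible (M i)) {A B : X.Modules} (hA : PicF.IsInvertible A) (hB : PicF.IsInvertible B)
    {F : X.Modules} (hF : Coh.IsCoh F) (hr : topologicalKrullDim (CohB1.support F) ≤ (r + 1 : ℕ)) :
    FGA.intNum k X d (Fin.cons (CohB1.tensorMod A B) M) F =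
      FGA.intNum k X d (Fin.cons A M) F + FGA.intNum k X d (Fin.cons B M) F := by
  have e : ∀ {s : ℕ} (A : X.Modules) (M : Fin s → X.Modules),
      (fun i => PicF.cl ((Fin.cons A M : Fin (s + 1) → X.Modules) i)) =
        Fin.cons (PicF.cl A) (fun i => PicF.cl (M i)) :=
    fun A M => funext fun i => Fin.cases rfl (fun _ => rfl) i
  have hc : ∀ {s : ℕ} {A : X.Modules} {M : Fin s → X.Modules}, PicF.IsInvertible A →
      (∀ i, PicF.IsInvertible (M i)) → ∀ i, PicF.IsInvertible ((Fin.cons A M : Fin (s + 1) → X.Modules) i) :=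
    fun hA hM => Fin.cases hA hM
  rw [intNum_eq_dn k hd (hc (H23.PicMul.isInvertible_tensor hA hB) hM) hF, intNum_eq_dn k hd (hc hA hM) hF,
    intNum_eq_dn k hd (hc hB hM) hF, e, e, e, H23.PicMul.cl_tensor, dn_cons_mul]
  have h0 := dn_chiCl_eq_zero k (hc hA (hc hB hM)) hF
    (lt_of_le_of_lt hr (by exact_mod_cast Nat.lt_succ_self (r + 1)))
  rw [e, e] at h0
  rw [h0, sub_zero]

end Groth.Agent.SurfInt
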