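import Groth.Agent.SurfInt.Surface
import Groth.Agent.QCoh.PushLin
import Groth.Agent.KFlatLib.Scheme.ProjModule
import Groth.Agent.PicClLib.Basic
import Groth.Agent.Lib.CurveDeg
import Groth.Prelude.Def_Pic13

/-! Euler characteristics on closed subschemes. -/

noncomputable section

set_option linter.style.haveILetI false
set_option linter.unusedSectionVars false
set_option backward.isDefEq.respectTransparency false
set_option backward.isDefEq.respectTransparency.types false

universe u

open CategoryTheory CategoryTheory.Limits AlgebraicGeometry TopologicalSpace Opposite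

namespace Groth.Agent.SurfInt

open Groth.Agent

variable (k : Type u) [Field k] {X : Scheme.{u}} [X.Over (Spec (CommRingCat.of k))]

theorem euler_push {Y : Scheme.{u}} [Y.Over (Spec (CommRingCat.of k))] (i : Y ⟶ X) [IsAffineHom i]
    (hi : i ≫ (X ↘ Spec (CommRingCat.of k)) = Y ↘ Spec (CommRingCat.of k)) {G : Y.Modules} (hG : Coh.IsQCoh G) :
    Curv2.euler k X ((Scheme.Modules.pushforward i).obj G) = Curv2.euler k Y G := by
  have key : ∀ n : ℕ, Module.finrank k (Coh.HH X ((Scheme.Modules.pushforward i).obj G) n) =
      Module.finrank k (Coh.HH Y G n) := fun n => by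
    obtain ⟨e⟩ := QCoh.HH_push_linear i (Coh.toGlobal (X ↘ Spec (CommRingCat.of k)))
      (Coh.toGlobal (Y ↘ Spec (CommRingCat.of k))) (fun a => by rw [← hi]; rfl) hG n
    exact e.finrank_eq.symm
  unfold Curv2.euler
  exact finsum_congr fun n => by rw [key n]

/-- Structure of a scheme over the base on a scheme mapping to `X`. -/
@[reducible] def overComp {Y : Scheme.{u}} (i : Y ⟶ X) : Y.Over (Spec (CommRingCat.of k)) :=
  ⟨i ≫ (X ↘ Spec (CommRingCat.of k))⟩

theorem isProper_comp {Y : Scheme.{u}} [Y.Over (Spec (CommRingCat.of k))] [IsProper (X ↘ Spec (CommRingCat.of k))]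
    (i : Y ⟶ X) [IsClosedImmersion i]
    (hi : i ≫ (X ↘ Spec (CommRingCat.of k)) = Y ↘ Spec (CommRingCat.of k)) :
    IsProper (Y ↘ Spec (CommRingCat.of k)) := by
  rw [← hi]
  infer_instance

variable {Y : Scheme.{u}} [Y.Over (Spec (CommRingCat.of k))] (i : Y ⟶ X) [IsClosedImmersion i]
  (hi : i ≫ (X ↘ Spec (CommRingCat.of k)) = Y ↘ Spec (CommRingCat.of k))

include hi

theorem euler_push_structure :
    Curv2.euler k X ((Scheme.Modules.pushforward i).obj (Coh.structureModule Y)) =
      Curv2.euler k Y (Coh.structureModule Y) :=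
  euler_push k i hi (StMod.isQCoh_structureModule Y)

variable [IsProper (X ↘ Spec (CommRingCat.of k))]

theorem euler_push_tensor {M : X.Modules} (hM : PicF.IsInvertible M) :
    Curv2.euler k X (CohB1.tensorMod ((Scheme.Modules.pushforward i).obj (Coh.structureModule Y)) M) =
      Curv2.euler k Y ((Scheme.Modules.pullback i).obj M) := by
  haveI := isProper_comp k i hi
  haveI := noeth k (X := Y)
  haveI := KFlatLib.isIso_projMod_of_isClosedImmersion i (Coh.structureModule Y) M
  have hq : Coh.IsQCoh ((Scheme.Modules.pullback i).obj M) :=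
    (AmpleVan.isCoh_invertible (PicClLib.isInvertible_pullback i hM)).1
  rw [← euler_push k i hi hq]
  refine CurveCohLib.euler_congr (k := k) ?_
  exact asIso (KFlatLib.projMod i (Coh.structureModule Y) M) ≪≫
    (Scheme.Modules.pushforward i).mapIso (CurveTensor.structureTensorIso _)

/-- The degree of a module on a closed subscheme is measured on its direct image. -/
theorem degOn_push {M : X.Modules} (hM : PicF.IsInvertible M) :
    degOn k ((Scheme.Modules.pushforward i).obj (Coh.structureModule Y)) M =
      Curv2.deg k Y ((Scheme.Modules.pullback i).obj M) 1 := by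
  rw [degOn, euler_push_tensor k i hi hM, euler_push_structure k i hi, Curv2.deg]
  simp

omit hi

/-- A closed immersion is the inclusion of the closed subscheme of its kernel. -/
theorem exists_iso_subscheme : ∃ e : Y ≅ i.ker.subscheme, e.hom ≫ i.ker.subschemeι = i := by
  haveI := IsClosedImmersion.isIso_lift i.ker.subschemeι i i.ker.ker_subschemeι
  exact ⟨asIso (IsClosedImmersion.lift i.ker.subschemeι i i.ker.ker_subschemeι.le),
    IsClosedImmersion.lift_fac _ _ _⟩

theorem nonempty_quotMod_iso :
    Nonempty (ClSub.quotMod i.ker ≅ (Scheme.Modules.pushforward i).obj (Coh.structureModule Y)) := by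
  obtain ⟨e, he⟩ := exists_iso_subscheme i
  have hb : ∀ U, Function.Bijective (e.hom.app U).hom := fun U => ConcreteCategory.bijective_of_isIso (e.hom.app U)
  haveI : IsIso (StMod.unitMap e.hom) := by
    haveI : ∀ U, IsIso ((StMod.unitMap e.hom).app U) := fun U =>
      (ConcreteCategory.isIso_iff_bijective _).2 (hb U)
    exact Scheme.Modules.Hom.isIso_iff_isIso_app.2 inferInstance
  exact ⟨(Scheme.Modules.pushforward i.ker.subschemeι).mapIso (asIso (StMod.unitMap e.hom)) ≪≫
    (Scheme.Modules.pushforwardComp e.hom i.ker.subschemeι).app _ ≪≫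
    eqToIso (by rw [he])⟩

include hi in
theorem degOn_quot_ker {M : X.Modules} (hM : PicF.IsInvertible M) :
    degOn k (ClSub.quotMod i.ker) M = Curv2.deg k Y ((Scheme.Modules.pullback i).obj M) 1 := by
  rw [degOn_congr_left k (nonempty_quotMod_iso i).some, degOn_push k i hi hM]

include hi in
theorem curveDeg_eq (hd : topologicalKrullDim Y ≤ 1) {M : X.Modules} (hM : PicF.IsInvertible M) :
    Pic13.curveDeg k (i ≫ (X ↘ Spec (CommRingCat.of k))) ((Scheme.Modules.pullback i).obj M) =
      degOn k ((Scheme.Modules.pushforward i).obj (Coh.structureModule Y)) M := by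
  haveI := isProper_comp k i hi
  haveI := noeth k (X := Y)
  rw [degOn_push k i hi hM, Pic13.curveDeg]
  have e : (⟨i ≫ (X ↘ Spec (CommRingCat.of k))⟩ : Y.Over (Spec (CommRingCat.of k))) =
      ⟨Y ↘ Spec (CommRingCat.of k)⟩ := by rw [hi]
  rw [e]
  show FGA.eulerCharLE k Y _ 1 - FGA.eulerCharLE k Y _ 1 = _
  rw [eulerCharLE_eq_euler k (d := 1) hd (AmpleVan.isCoh_invertible (PicClLib.isInvertible_pullback i hM)).1,
    eulerCharLE_eq_euler k (d := 1) hd (StMod.isQCoh_structureModule Y), Curv2.deg]
  simp

end Groth.Agent.SurfInt
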