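import Groth.Agent.SurfInt.Basic
import Groth.Agent.CurveCohLib.Nonspecial
import Mathlib.Tactic.Linarith

/-! Intersection pairing of invertible modules on a proper scheme of dimension at most two. -/

noncomputable section

set_option linter.style.haveILetI false
set_option linter.unusedSectionVars false
set_option backward.isDefEq.respectTransparency false
set_option backward.isDefEq.respectTransparency.types false

universe u

open CategoryTheory CategoryTheory.Limits AlgebraicGeometry TopologicalSpace Opposite

namespace Groth.Agent.SurfInt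

open Groth.Agent
open scoped Groth.Agent.H23.PicMul

variable (k : Type u) [Field k] {X : Scheme.{u}} [X.Over (Spec (CommRingCat.of k))]
  [IsProper (X ↘ Spec (CommRingCat.of k))]

/-- The degree of `M` measured on `F`: `χ(F ⊗ M) − χ(F)`. -/
def degOn (F M : X.Modules) : ℤ := Curv2.euler k X (CohB1.tensorMod F M) - Curv2.euler k X F

theorem euler_comm (A B : X.Modules) :
    Curv2.euler k X (CohB1.tensorMod A B) = Curv2.euler k X (CohB1.tensorMod B A) :=
  CurveCohLib.euler_congr (k := k) (H23.PicMul.comm A B).some

theorem euler_assoc (A B C : X.Modules) :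
    Curv2.euler k X (CohB1.tensorMod (CohB1.tensorMod A B) C) =
      Curv2.euler k X (CohB1.tensorMod A (CohB1.tensorMod B C)) :=
  CurveCohLib.euler_congr (k := k) (H23.PicMul.assoc A B C).some

theorem euler_tensor_structure (A : X.Modules) :
    Curv2.euler k X (CohB1.tensorMod A (Coh.structureModule X)) = Curv2.euler k X A :=
  CurveCohLib.euler_congr (k := k) (H23.PicMul.unit A).some

theorem chiCl_eq_degOn (F M : X.Modules) :
    chiCl k F (PicF.cl M) = degOn k F M + Curv2.euler k X F := by
  rw [chiCl_cl, degOn, euler_comm k M F]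
  ring

theorem degOn_congr {F M M' : X.Modules} (e : M ≅ M') : degOn k F M = degOn k F M' := by
  rw [degOn, degOn, CurveCohLib.euler_congr (k := k) (PicGrp.tensorModIso (Iso.refl F) e)]

theorem degOn_congr_left {F F' M : X.Modules} (e : F ≅ F') : degOn k F M = degOn k F' M := by
  rw [degOn, degOn, CurveCohLib.euler_congr (k := k) (PicGrp.tensorModIso e (Iso.refl M)),
    CurveCohLib.euler_congr (k := k) e]

theorem degOn_one (F : X.Modules) : degOn k F (Coh.structureModule X) = 0 := by
  rw [degOn, euler_tensor_structure, sub_self]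

theorem isInvertible_structure : PicF.IsInvertible (Coh.structureModule X) :=
  PicLoc.isInvertible_structureModule X

/-- Degrees on a sheaf with support of dimension at most one are additive. -/
theorem degOn_tensor {F A B : X.Modules} (hF : Coh.IsCoh F)
    (hd : topologicalKrullDim (CohB1.support F) ≤ 1)
    (hA : PicF.IsInvertible A) (hB : PicF.IsInvertible B) :
    degOn k F (CohB1.tensorMod A B) = degOn k F A + degOn k F B := by
  have h := dn_chiCl_eq_zero k (M := ![A, B]) (Fin.cases hA fun i => Fin.cases hB (fun i => i.elim0) i) hF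
    (lt_of_le_of_lt hd (by exact_mod_cast (by norm_num : (1 : ℕ) < 2)))
  have e : (fun i => PicF.cl ((![A, B] : Fin 2 → X.Modules) i)) = ![PicF.cl A, PicF.cl B] :=
    funext fun i => Fin.cases rfl (fun j => Fin.cases rfl (fun i => i.elim0) j) i
  rw [e, dn_two, chiCl_one, ← H23.PicMul.cl_tensor, chiCl_eq_degOn, chiCl_eq_degOn, chiCl_eq_degOn] at h
  linarith

theorem degOn_inv {F A A' : X.Modules} (hF : Coh.IsCoh F) (hd : topologicalKrullDim (CohB1.support F) ≤ 1)
    (hA : PicF.IsInvertible A) (hA' : PicF.IsInvertible A')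
    (e : Nonempty (CohB1.tensorMod A A' ≅ Coh.structureModule X)) : degOn k F A' = - degOn k F A := by
  have h := degOn_tensor k hF hd hA hA'
  rw [degOn_congr k e.some, degOn_one] at h
  omega

theorem degOn_tensorPow {F A : X.Modules} (hF : Coh.IsCoh F) (hd : topologicalKrullDim (CohB1.support F) ≤ 1)
    (hA : PicF.IsInvertible A) (n : ℕ) : degOn k F (CohB1.tensorPow A n) = n * degOn k F A := by
  induction n with
  | zero =>
    show degOn k F (Coh.structureModule X) = _
    rw [degOn_one]; simp
  | succ n ih =>
    show degOn k F (CohB1.tensorMod (CohB1.tensorPow A n) A) = _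
    rw [degOn_tensor k hF hd (H23.PicMul.isInvertible_tensorPow hA n) hA, ih]
    push_cast; ring

theorem degOn_add {S : ShortComplex X.Modules} (hS : S.ShortExact)
    (h1 : Coh.IsCoh S.X₁) (h2 : Coh.IsCoh S.X₂) (h3 : Coh.IsCoh S.X₃) {M : X.Modules} (hM : PicF.IsInvertible M) :
    degOn k S.X₂ M = degOn k S.X₁ M + degOn k S.X₃ M := by
  haveI := noeth k (X := X)
  haveI := AmpleVan.isEquivalence_tw hM
  haveI : (AmpleVan.tw M).Additive := Functor.additive_of_preserves_binary_products _
  obtain ⟨g1, g2, g3, f, g, w, hS'⟩ := Snapper.cohSES_map (AmpleVan.tw M)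
    (fun A h => AmpleVan.isCoh_tensor h (AmpleVan.isCoh_invertible hM)) ⟨h1, h2, h3, S.f, S.g, S.zero, hS⟩
  have e : Curv2.euler k X (CohB1.tensorMod S.X₂ M) =
      Curv2.euler k X (CohB1.tensorMod S.X₁ M) + Curv2.euler k X (CohB1.tensorMod S.X₃ M) :=
    CurveCohLib.euler_additive (k := k) (S := ShortComplex.mk f g w) hS' g1 g2 g3
  rw [degOn, degOn, degOn, e, CurveCohLib.euler_additive (k := k) hS h1 h2 h3]
  ring

theorem intNum_one (hd : topologicalKrullDim X ≤ 2) {F M : X.Modules} (hF : Coh.IsCoh F) (hM : PicF.IsInvertible M) :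
    FGA.intNum k X 2 ![M] F = - degOn k F M := by
  have e : (fun i => PicF.cl ((![M] : Fin 1 → X.Modules) i)) = ![PicF.cl M] :=
    funext fun i => Fin.cases rfl (fun i => i.elim0) i
  rw [intNum_eq_dn k (d := 2) hd (M := ![M]) (Fin.cases hM (fun i => i.elim0)) hF, e, dn_one, chiCl_one, chiCl_eq_degOn]
  ring

/-- The intersection number of two modules, as in the milestones. -/
abbrev dot (A B : X.Modules) : ℤ := FGA.intNum k X 2 ![A, B] (Coh.structureModule X)

variable (hd : topologicalKrullDim X ≤ 2) {A B C : X.Modules}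

include hd

theorem dot_eq (hA : PicF.IsInvertible A) (hB : PicF.IsInvertible B) :
    dot k A B = Curv2.euler k X (Coh.structureModule X) - Curv2.euler k X A - Curv2.euler k X B +
      Curv2.euler k X (CohB1.tensorMod A B) := by
  haveI := noeth k (X := X)
  have e : (fun i => PicF.cl ((![A, B] : Fin 2 → X.Modules) i)) = ![PicF.cl A, PicF.cl B] :=
    funext fun i => Fin.cases rfl (fun j => Fin.cases rfl (fun i => i.elim0) j) i
  rw [dot, intNum_eq_dn k (d := 2) hd (M := ![A, B]) (Fin.cases hA fun i => Fin.cases hB (fun i => i.elim0) i)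
    isCoh_structureModule, e, dn_two, chiCl_one, chiCl_structureModule, chiCl_structureModule,
    ← H23.PicMul.cl_tensor, chiCl_structureModule]
  ring

theorem dot_comm (hA : PicF.IsInvertible A) (hB : PicF.IsInvertible B) : dot k A B = dot k B A := by
  rw [dot_eq k hd hA hB, dot_eq k hd hB hA, euler_comm k A B]
  ring

theorem dot_congr {A' B' : X.Modules} (hA : PicF.IsInvertible A) (hB : PicF.IsInvertible B)
    (eA : A ≅ A') (eB : B ≅ B') : dot k A B = dot k A' B' := by
  rw [dot_eq k hd hA hB, dot_eq k hd (H23.PicMul.isInvertible_of_iso eA hA) (H23.PicMul.isInvertible_of_iso eB hB),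
    CurveCohLib.euler_congr (k := k) eA, CurveCohLib.euler_congr (k := k) eB,
    CurveCohLib.euler_congr (k := k) (PicGrp.tensorModIso eA eB)]

theorem dot_one_left (hB : PicF.IsInvertible B) : dot k (Coh.structureModule X) B = 0 := by
  rw [dot_eq k hd isInvertible_structure hB, euler_comm k, euler_tensor_structure]
  ring

theorem dot_one_right (hA : PicF.IsInvertible A) : dot k A (Coh.structureModule X) = 0 := by
  rw [dot_comm k hd hA isInvertible_structure, dot_one_left k hd hA]

theorem dot_tensor_left (hA : PicF.IsInvertible A) (hB : PicF.IsInvertible B) (hC : PicF.IsInvertible C) :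
    dot k (CohB1.tensorMod A B) C = dot k A C + dot k B C := by
  haveI := noeth k (X := X)
  exact intNum_additive k (d := 2) hd (M := ![C]) (Fin.cases hC (fun i => i.elim0)) hA hB isCoh_structureModule
    (dim_support_le hd _)

theorem dot_tensor_right (hA : PicF.IsInvertible A) (hB : PicF.IsInvertible B) (hC : PicF.IsInvertible C) :
    dot k C (CohB1.tensorMod A B) = dot k C A + dot k C B := by
  rw [dot_comm k hd hC (H23.PicMul.isInvertible_tensor hA hB), dot_tensor_left k hd hA hB hC,
    dot_comm k hd hA hC, dot_comm k hd hB hC]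

theorem dot_inv_left {A' : X.Modules} (hA : PicF.IsInvertible A) (hA' : PicF.IsInvertible A') (hB : PicF.IsInvertible B)
    (e : Nonempty (CohB1.tensorMod A A' ≅ Coh.structureModule X)) : dot k A' B = - dot k A B := by
  have h := dot_tensor_left k hd hA hA' hB
  rw [dot_congr k hd (H23.PicMul.isInvertible_tensor hA hA') hB e.some (Iso.refl B), dot_one_left k hd hB] at h
  omega

theorem dot_inv_right {B' : X.Modules} (hB : PicF.IsInvertible B) (hB' : PicF.IsInvertible B') (hA : PicF.IsInvertible A)
    (e : Nonempty (CohB1.tensorMod B B' ≅ Coh.structureModule X)) : dot k A B' = - dot k A B := by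
  rw [dot_comm k hd hA hB', dot_comm k hd hA hB, dot_inv_left k hd hB hB' hA e]

theorem dot_inv_inv {A' B' : X.Modules} (hA : PicF.IsInvertible A) (hA' : PicF.IsInvertible A')
    (hB : PicF.IsInvertible B) (hB' : PicF.IsInvertible B')
    (eA : Nonempty (CohB1.tensorMod A A' ≅ Coh.structureModule X))
    (eB : Nonempty (CohB1.tensorMod B B' ≅ Coh.structureModule X)) : dot k A' B' = dot k A B := by
  rw [dot_inv_left k hd hA hA' hB' eA, dot_inv_right k hd hB hB' hA eB]
  ring

theorem dot_tensorPow_left (hA : PicF.IsInvertible A) (hB : PicF.IsInvertible B) (n : ℕ) :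
    dot k (CohB1.tensorPow A n) B = n * dot k A B := by
  induction n with
  | zero =>
    show dot k (Coh.structureModule X) B = _
    rw [dot_one_left k hd hB]; simp
  | succ n ih =>
    show dot k (CohB1.tensorMod (CohB1.tensorPow A n) A) B = _
    rw [dot_tensor_left k hd (H23.PicMul.isInvertible_tensorPow hA n) hA hB, ih]
    push_cast; ring

theorem euler_tensor_eq (hA : PicF.IsInvertible A) (hB : PicF.IsInvertible B) :
    Curv2.euler k X (CohB1.tensorMod A B) = Curv2.euler k X A + Curv2.euler k X B -
      Curv2.euler k X (Coh.structureModule X) + dot k A B := by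
  rw [dot_eq k hd hA hB]
  ring

/-- `2 χ(L^n)` is a quadratic polynomial in `n`. -/
theorem two_mul_euler_tensorPow (hA : PicF.IsInvertible A) (n : ℕ) :
    2 * Curv2.euler k X (CohB1.tensorPow A n) =
      (n : ℤ) ^ 2 * dot k A A + (n : ℤ) * (2 * (Curv2.euler k X A - Curv2.euler k X (Coh.structureModule X)) - dot k A A) +
        2 * Curv2.euler k X (Coh.structureModule X) := by
  induction n with
  | zero =>
    show 2 * Curv2.euler k X (Coh.structureModule X) = _
    push_cast; ring
  | succ n ih =>
    show 2 * Curv2.euler k X (CohB1.tensorMod (CohB1.tensorPow A n) A) = _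
    rw [euler_tensor_eq k hd (H23.PicMul.isInvertible_tensorPow hA n) hA, dot_tensorPow_left k hd hA hA]
    push_cast
    linear_combination ih

omit hd

theorem shortExact_ideal (Z : X.IdealSheafData) :
    (ShortComplex.mk (ClSub.idealModι Z) (ClSub.toSubscheme Z) (kernel.condition _)).ShortExact := by
  haveI : Epi (ClSub.toSubscheme Z) := by
    refine Preadditive.epi_of_isZero_cokernel _ (CurveCohLib.isZero_of_subsingleton_stalks fun x => ?_)
    haveI : Epi ((DerSch.stalkFunctor X x).map (ClSub.toSubscheme Z)) := by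
      refine (ModuleCat.epi_iff_surjective _).2 fun q => ?_
      obtain ⟨V, hxV, s, rfl⟩ := (ClSub.quotMod Z).presheaf.germ_exist q
      obtain ⟨_, ⟨W, hW, rfl⟩, hxW, hWV⟩ :=
        X.isBasis_affineOpens.exists_subset_of_mem_open (show x ∈ V from hxV) V.2
      have hle : W ≤ V := hWV
      obtain ⟨r, hr⟩ := Z.subschemeι_app_surjective ⟨W, hW⟩
        (show Γ(Z.subscheme, Z.subschemeι ⁻¹ᵁ W) from (ClSub.quotMod Z).presheaf.map (homOfLE hle).op s)
      refine ⟨(Coh.structureModule X).presheaf.germ W x hxW r, ?_⟩
      rw [← (ClSub.quotMod Z).presheaf.germ_res_apply (homOfLE hle) x hxW s]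
      refine Eq.trans ?_ (congrArg ((ClSub.quotMod Z).presheaf.germ W x hxW) hr)
      exact TopCat.Presheaf.stalkFunctor_map_germ_apply W x hxW ((Scheme.Modules.toPresheaf X).map (ClSub.toSubscheme Z)) r
    exact ModuleCat.subsingleton_of_isZero ((isZero_cokernel_of_epi
      ((DerSch.stalkFunctor X x).map (ClSub.toSubscheme Z))).of_iso
        (PreservesCokernel.iso (DerSch.stalkFunctor X x) (ClSub.toSubscheme Z)))
  exact CurveSlope.shortExact_kernel_of_epi _

include k in
theorem isCoh_quotMod (Z : X.IdealSheafData) : Coh.IsCoh (ClSub.quotMod Z) := by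
  haveI := noeth k (X := X)
  exact ParShLib.isCoh_quotMod Z

include k in
theorem isCoh_idealMod (Z : X.IdealSheafData) : Coh.IsCoh (ClSub.idealMod Z) := by
  haveI := noeth k (X := X)
  exact QCoh.isCoh_kernel QCoh.isCoh_structureModule' (isCoh_quotMod k Z) _

theorem euler_quotMod (Z : X.IdealSheafData) :
    Curv2.euler k X (ClSub.quotMod Z) = Curv2.euler k X (Coh.structureModule X) - Curv2.euler k X (ClSub.idealMod Z) := by
  haveI := noeth k (X := X)
  have h : Curv2.euler k X (Coh.structureModule X) =
      Curv2.euler k X (ClSub.idealMod Z) + Curv2.euler k X (ClSub.quotMod Z) :=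
    CurveCohLib.euler_additive (k := k)
      (S := ShortComplex.mk (ClSub.idealModι Z) (ClSub.toSubscheme Z) (kernel.condition _))
      (shortExact_ideal Z) (isCoh_idealMod k Z) isCoh_structureModule (isCoh_quotMod k Z)
  omega

theorem degOn_ideal_add (Z : X.IdealSheafData) {M : X.Modules} (hM : PicF.IsInvertible M) :
    degOn k (Coh.structureModule X) M = degOn k (ClSub.idealMod Z) M + degOn k (ClSub.quotMod Z) M := by
  haveI := noeth k (X := X)
  exact degOn_add k (S := ShortComplex.mk (ClSub.idealModι Z) (ClSub.toSubscheme Z) (kernel.condition _))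
    (shortExact_ideal Z) (isCoh_idealMod k Z) isCoh_structureModule (isCoh_quotMod k Z) hM

include hd in
/-- Pairing with the ideal of a divisor is minus the degree on the divisor. -/
theorem dot_ideal_left (Z : X.IdealSheafData) {M : X.Modules} (hZ : PicF.IsInvertible (ClSub.idealMod Z))
    (hM : PicF.IsInvertible M) : dot k (ClSub.idealMod Z) M = - degOn k (ClSub.quotMod Z) M := by
  have h := degOn_ideal_add k Z hM
  have hq := euler_quotMod k Z
  rw [degOn, degOn, euler_comm k (Coh.structureModule X) M, euler_tensor_structure] at h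
  rw [dot_eq k hd hZ hM, euler_comm k (ClSub.idealMod Z) M]
  rw [euler_comm k (ClSub.idealMod Z) M] at h
  linarith

theorem support_quotMod_subset (Z : X.IdealSheafData) : CohB1.support (ClSub.quotMod Z) ⊆ (Z.support : Set X) :=
  fun _ hx => not_not.1 fun h => hx (ParShLib.subsingleton_stalk_quotMod Z h)

theorem dim_support_quotMod {Z : X.IdealSheafData} {n : ℕ} (h : topologicalKrullDim (Z.support : Set X) ≤ n) :
    topologicalKrullDim (CohB1.support (ClSub.quotMod Z)) ≤ n :=
  le_trans (H23.TopDim.dim_le_dim_of_subset (support_quotMod_subset Z)) h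

end Groth.Agent.SurfInt
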