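import Groth.Agent.SurfInt.Positive
import Groth.Agent.ZeroSchX.Basic
import Groth.Agent.OmegaLib.IdealMod
import Groth.Agent.InvX.Tensor
import Groth.Agent.DivX.MeroMod
import Groth.Agent.S8914

/-! The effective divisor of a non-zero section of an invertible module. -/

noncomputable section

set_option linter.style.haveILetI false
set_option linter.unusedSectionVars false
set_option backward.isDefEq.respectTransparency false
set_option backward.isDefEq.respectTransparency.types false

universe u

open CategoryTheory CategoryTheory.Limits AlgebraicGeometry TopologicalSpace Opposite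

namespace Groth.Agent.SurfInt

open Groth.Agent

variable {X : Scheme.{u}} [IsIntegral X] {L : X.Modules}

theorem sv_coord_cancel (hL : PicF.IsInvertible L) (s : Coh.structureModule X ⟶ L) (hs : s ≠ 0)
    {W : X.Opens} {f : Γ(L, W)} {c : Γ(X, W)} (hc : ZeroSchX.sv s W = c • f) (r : Γ(X, W))
    (hr : r * c = 0) : r = 0 := by
  refine InvEnd.app_injective_of_ne_zero InvX.isInvertible_structureModule hL s hs W ?_
  have h : s.app W (r • (show Γ(Coh.structureModule X, W) from (1 : Γ(X, W)))) = r • ZeroSchX.sv s W :=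
    Scheme.Modules.Hom.app_smul _ _ _
  rw [hc, smul_smul, hr, zero_smul] at h
  rw [map_zero, ← h]
  exact congrArg (s.app W) (mul_one r).symm

/-- The zero scheme of a non-zero section is an effective divisor whose ideal is inverse to the module. -/
theorem isInverseOf_zeroScheme (hL : PicF.IsInvertible L) (s : Coh.structureModule X ⟶ L) (hs : s ≠ 0) :
    BlowUp.IsEffCartierIdeal (PicF2.zeroScheme L s) ∧
      ClSub.IsInverseOf L (ClSub.idealMod (PicF2.zeroScheme L s)) := by
  classical
  set D := PicF2.zeroScheme L s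
  have hdata : ∀ p : X, ∃ (V : X.affineOpens) (_ : p ∈ (V : X.Opens)) (f : Γ(L, V.1)) (c : Γ(X, V.1)),
      InvX.IsFrame f ∧ ZeroSchX.sv s V.1 = c • f := fun p => by
    obtain ⟨W, hpW, f, hf⟩ := InvX.exists_frame hL p
    obtain ⟨_, ⟨V, hV, rfl⟩, hpV, hVW⟩ :=
      X.isBasis_affineOpens.exists_subset_of_mem_open hpW W.isOpen
    obtain ⟨c, hc⟩ := (hf V hVW).2 (ZeroSchX.sv s V)
    exact ⟨⟨V, hV⟩, hpV, _, c, hf.res hVW, hc.symm⟩
  choose V hpV f c hf hc using hdata
  have hideal : ∀ p, D.ideal (V p) = Ideal.span {c p} := fun p => by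
    rw [ZeroSchX.ideal_zeroScheme hL, ZeroSchX.zeroIdealOn_eq_span s (hf p) (hc p)]
  have hnzd : ∀ p, c p ∈ nonZeroDivisors Γ(X, (V p).1) := fun p =>
    mem_nonZeroDivisors_iff_right.2 fun r hr => sv_coord_cancel hL s hs (hc p) r hr
  have hcar : BlowUp.IsEffCartierIdeal D := fun p => ⟨V p, hpV p, c p, hnzd p, hideal p⟩
  refine ⟨hcar, ?_⟩
  have hI := (S8914.result D).2 hcar
  have hdata' : ∀ p : X, ∃ (W : X.Opens) (_ : p ∈ W) (h : W ≤ (V p).1) (n : Γ(ClSub.idealMod D, W)),
      InvX.IsFrame n ∧ OmegaSh.idealSect D W n = AModX.resR h (c p) := fun p => by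
    obtain ⟨U, hpU, e, he⟩ := InvX.exists_frame hI p
    obtain ⟨W, hW, hpW, hWU⟩ := exists_isAffineOpen_mem_and_subset (X := X) (U := U ⊓ (V p).1) ⟨hpU, hpV p⟩
    have hWV : W ≤ (V p).1 := le_trans hWU inf_le_right
    have hWU' : W ≤ U := le_trans hWU inf_le_left
    have hsv : ZeroSchX.sv s W = AModX.resR hWV (c p) • AModX.res L hWV (f p) := by
      rw [← AModX.res_smul, ← hc]
      exact (ZeroSchX.res_sv s hWV).symm
    have hid : D.ideal ⟨W, hW⟩ = Ideal.span {AModX.resR hWV (c p)} := by
      rw [ZeroSchX.ideal_zeroScheme hL, ZeroSchX.zeroIdealOn_eq_span s ((hf p).res hWV) hsv]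
    obtain ⟨k, hk⟩ := OmegaLib.exists_of_mem D ⟨W, hW⟩ (AModX.resR hWV (c p))
      (hid ▸ Ideal.mem_span_singleton_self _)
    have he' := he.res hWU'
    obtain ⟨b, hb⟩ := he'.exists_coord le_rfl k
    rw [AModX.res_self] at hb
    have hm := OmegaLib.idealSect_mem D ⟨W, hW⟩ (AModX.res _ hWU' e)
    rw [hid, Ideal.mem_span_singleton'] at hm
    obtain ⟨a, ha⟩ := hm
    have hu : IsUnit b := by
      refine IsUnit.of_mul_eq_one a (sub_eq_zero.1 ?_)
      refine sv_coord_cancel hL s hs hsv _ ?_
      rw [sub_mul, one_mul, mul_assoc, ha, sub_eq_zero]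
      rw [← OmegaLib.idealSect_smul, ← hb]
      exact hk
    refine ⟨W, hpW, hWV, k, ?_, hk⟩
    rw [hb]
    exact he'.isUnit_smul hu
  choose W hpW hWV n hn hns using hdata'
  let e : ∀ p, Γ(CohB1.tensorMod L (ClSub.idealMod D), W p) :=
    fun p => InvX.tmul (AModX.res L (hWV p) (f p)) (n p)
  have he : ∀ p, InvX.IsFrame (e p) := fun p => InvX.isFrame_tmul ((hf p).res _) (hn p)
  let one : ∀ U : X.Opens, Γ(Coh.structureModule X, U) := fun U => (show Γ(Coh.structureModule X, U) from (1 : Γ(X, U)))
  have hcomp : ∀ (a b : X) (U : X.Opens) (ha : U ≤ W a) (hb : U ≤ W b) (g : Γ(X, U)),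
      AModX.res _ hb (e b) = g • AModX.res _ ha (e a) →
        AModX.res _ hb (one (W b)) = g • AModX.res _ ha (one (W a)) := by
    intro a b U ha hb g hg
    have ha' : U ≤ (V a).1 := ha.trans (hWV a)
    have hb' : U ≤ (V b).1 := hb.trans (hWV b)
    obtain ⟨p, hp⟩ := ((hf a).res ha').exists_coord le_rfl (AModX.res L hb' (f b))
    rw [AModX.res_self] at hp
    obtain ⟨q, hq⟩ := ((hn a).res ha).exists_coord le_rfl (AModX.res _ hb (n b))
    rw [AModX.res_self] at hq
    have hg' : g = p * q := by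
      refine (he a).coord_unique ha ?_
      rw [← hg]
      simp only [e, InvX.res_tmul, AModX.res_res]
      rw [hp, hq, InvX.tmul_smul_left, InvX.tmul_smul_right, smul_smul]
    -- the two generators of the ideal
    have h1 : AModX.resR hb' (c b) = q * AModX.resR ha' (c a) := by
      have := congrArg (OmegaSh.idealSect D U) hq
      rw [OmegaLib.idealSect_smul,
        show OmegaSh.idealSect D U (AModX.res _ hb (n b)) = _ from OmegaLib.idealSect_map D hb (n b),
        show OmegaSh.idealSect D U (AModX.res _ ha (n a)) = _ from OmegaLib.idealSect_map D ha (n a),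
        hns, hns] at this
      refine Eq.trans ?_ (this.trans ?_)
      · exact (AModX.resR_resR (hWV b) hb (c b)).symm
      · exact congrArg (q * ·) (AModX.resR_resR (hWV a) ha (c a))
    have hsa : ZeroSchX.sv s U = AModX.resR ha' (c a) • AModX.res L ha' (f a) := by
      rw [← AModX.res_smul, ← hc]
      exact (ZeroSchX.res_sv s ha').symm
    have h2 : AModX.resR ha' (c a) = AModX.resR hb' (c b) * p := by
      refine ((hf a).res ha').coord_unique le_rfl ?_
      rw [AModX.res_self, mul_smul, ← hp, ← hsa, ← AModX.res_smul, ← hc]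
      exact (ZeroSchX.res_sv s hb').symm
    have h3 : g = 1 := by
      refine sub_eq_zero.1 (sv_coord_cancel hL s hs hsa _ ?_)
      rw [hg', sub_mul, one_mul, sub_eq_zero]
      conv_rhs => rw [h2, h1]
      ring
    rw [h3, one_smul]
    show AModX.resR hb (1 : Γ(X, W b)) = AModX.resR ha (1 : Γ(X, W a))
    rw [map_one, map_one]
  let φ := InvX.ofFrames (U := W) (e := e) (n := fun p => one (W p)) (fun x => ⟨x, hpW x⟩) he hcomp
  haveI : IsIso φ := DivX.isIso_of_frames φ fun x =>
    ⟨W x, hpW x, e x, he x, by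
      rw [show φ.app (W x) (e x) = one (W x) from InvX.ofFrames_app _ _ _ x]
      exact InvX.isFrame_one _⟩
  exact ⟨asIso φ⟩

end Groth.Agent.SurfInt
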