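import Groth.Agent.SurfInt.Push
import Groth.Agent.SmoothReg.Scheme
import Groth.Agent.DivX.CodimOne
import Groth.Agent.RegUFD.Basic
import Groth.Agent.S8914
import Groth.Agent.S1519
import Groth.Agent.AmpleVan.Pull
import Groth.Agent.AlgSpLib.CartierRegular
import Groth.Agent.PnCoh.Chow.Proper
import Groth.Agent.KFlatLib.Scheme.Pullback

/-! Curves on a regular proper surface. -/

noncomputable section

set_option linter.style.haveILetI false
set_option linter.unusedSectionVars false
set_option backward.isDefEq.respectTransparency false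
set_option backward.isDefEq.respectTransparency.types false

universe u

open CategoryTheory CategoryTheory.Limits AlgebraicGeometry TopologicalSpace Opposite

namespace Groth.Agent.SurfInt

open Groth.Agent

variable (k : Type u) [Field k] {X : Scheme.{u}} [X.Over (Spec (CommRingCat.of k))]

theorem isRegular_of_smooth [Smooth (X ↘ Spec (CommRingCat.of k))] (x : X) :
    IsRegularLocalRing (X.presheaf.stalk x) :=
  SmoothReg.isRegularLocalRing_stalk_of_mem_smoothLocus (X ↘ Spec (CommRingCat.of k))
    (by rw [Scheme.Hom.smoothLocus_eq_top]; trivial)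

theorem isProper_of_proj
    (hproj : ∃ (n : ℕ) (ι : X ⟶ CohB1.ProjSpace n k),
      IsClosedImmersion ι ∧ ι ≫ CohB1.ProjSpace.toSpec n k = (X ↘ Spec (CommRingCat.of k))) :
    IsProper (X ↘ Spec (CommRingCat.of k)) := by
  obtain ⟨n, ι, h, e⟩ := hproj
  haveI := h
  haveI : IsProper (CohB1.ProjSpace.toSpec n k) := PnCoh.Chow.isProper_toSpec n k
  rw [← e]
  infer_instance

theorem exists_isAmple_of_proj
    (hproj : ∃ (n : ℕ) (ι : X ⟶ CohB1.ProjSpace n k),
      IsClosedImmersion ι ∧ ι ≫ CohB1.ProjSpace.toSpec n k = (X ↘ Spec (CommRingCat.of k))) :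
    ∃ L : X.Modules, CohB1.IsAmple L := by
  obtain ⟨n, ι, h, -⟩ := hproj
  haveI := h
  exact AmpleVan.exists_ample_of_closedImmersion_projSpace ι

/-- The generic point of a closed subscheme, as a point of the ambient scheme. -/
def genC (C : X.IdealSheafData) [IsIntegral C.subscheme] : X := C.subschemeι (genericPoint C.subscheme)

section

variable (C : X.IdealSheafData) [IsIntegral C.subscheme]

theorem genC_mem : genC C ∈ (C.support : Set X) := by
  rw [← C.range_subschemeι]
  exact ⟨_, rfl⟩

theorem closure_genC : closure {genC C} = (C.support : Set X) := by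
  rw [← C.range_subschemeι, genC, ← Set.image_singleton]
  have h := C.subschemeι.isClosedEmbedding.closure_image_eq {genericPoint C.subscheme}
  rw [h, (genericPoint_spec C.subscheme).def, Set.image_univ]

theorem support_subset_iff {Z : Closeds X} : (C.support : Set X) ⊆ Z ↔ genC C ∈ Z :=
  ⟨fun h => h (genC_mem C), fun h => by
    rw [← closure_genC C]
    exact closure_minimal (Set.singleton_subset_iff.2 h) Z.isClosed⟩

theorem dim_subscheme : topologicalKrullDim C.subscheme = topologicalKrullDim (C.support : Set X) := by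
  refine IsHomeomorph.topologicalKrullDim_eq _
    (Homeomorph.isHomeomorph ((C.subschemeι.isClosedEmbedding.isEmbedding.toHomeomorph).trans
      (Homeomorph.setCongr C.range_subschemeι)))

theorem eq_of_support_eq (D : X.IdealSheafData) [IsIntegral D.subscheme]
    (h : C.support = D.support) : C = D := by
  rw [AlgSpLib.CartierRegular.eq_vanishingIdeal_support C, AlgSpLib.CartierRegular.eq_vanishingIdeal_support D, h]

end

variable [IsProper (X ↘ Spec (CommRingCat.of k))] [IsIntegral X]

theorem deg_genC (C : X.IdealSheafData) [IsIntegral C.subscheme]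
    (hC : topologicalKrullDim (C.support : Set X) = 1) :
    VarDim.deg (X ↘ Spec (CommRingCat.of k)) (genC C) = 1 := by
  have h := VarDim.topologicalKrullDim_closure_singleton (X ↘ Spec (CommRingCat.of k)) (genC C)
  rw [closure_genC C, hC] at h
  exact_mod_cast h.symm

include k in
/-- Distinct curves: the generic point of one is off the other. -/
theorem genC_notMem {C D : X.IdealSheafData} [IsIntegral C.subscheme] [IsIntegral D.subscheme]
    (hC : topologicalKrullDim (C.support : Set X) = 1) (hD : topologicalKrullDim (D.support : Set X) = 1)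
    (hne : C ≠ D) :
    genC C ∉ (D.support : Set X) := by
  intro hmem
  refine hne (eq_of_support_eq C D ?_)
  have hsp : genC D ⤳ genC C := specializes_iff_mem_closure.2 ((closure_genC D).symm ▸ hmem)
  have heq : genC D = genC C := by
    by_contra hne'
    have hlt : genC C < genC D := lt_iff_le_not_ge.2 ⟨hsp, fun h' =>
      hne' (hsp.antisymm h').eq⟩
    have := VarDim.deg_strictMono (X ↘ Spec (CommRingCat.of k)) hlt
    rw [deg_genC k C hC, deg_genC k D hD] at this
    exact lt_irrefl _ this
  apply SetLike.coe_injective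
  rw [← closure_genC C, ← closure_genC D, heq]

variable (hdim : topologicalKrullDim X = 2)

include hdim

include k in
theorem ringKrullDim_stalk_genC (C : X.IdealSheafData) [IsIntegral C.subscheme]
    (hC : topologicalKrullDim (C.support : Set X) = 1) :
    ringKrullDim (X.presheaf.stalk (genC C)) = 1 := by
  obtain ⟨b, hb, ⟨η, -, hη⟩, hle⟩ := VarDim.exists_deg_add_stalk (X ↘ Spec (CommRingCat.of k)) (genC C)
  have hgen := VarDim.topologicalKrullDim_eq_deg_genericPoint (X ↘ Spec (CommRingCat.of k))
  rw [hdim] at hgen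
  have h2 : VarDim.deg (X ↘ Spec (CommRingCat.of k)) (genericPoint X) = 2 := by
    have h := WithBot.coe_injective (hgen.symm.trans (rfl : (2 : WithBot ℕ∞) = ((2 : ℕ∞) : WithBot ℕ∞)))
    exact_mod_cast h
  have h1 := hle (genericPoint X) (genericPoint_specializes _)
  have h3 : VarDim.deg (X ↘ Spec (CommRingCat.of k)) η ≤ 2 :=
    h2 ▸ VarDim.deg_le_of_specializes _ (genericPoint_specializes η)
  rw [deg_genC k C hC] at h1 hη
  rw [hb, show b = 1 by omega]
  rfl

variable (hreg : ∀ x : X, IsRegularLocalRing (X.presheaf.stalk x))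

include hreg

include k in
theorem isEffCartier_curve (C : X.IdealSheafData) [IsIntegral C.subscheme]
    (hC : topologicalKrullDim (C.support : Set X) = 1) : BlowUp.IsEffCartierIdeal C := by
  haveI := noeth k (X := X)
  exact DivX.isEffCartier_of_codim_one C (ringKrullDim_stalk_genC k hdim C hC)
    fun x _ => by haveI := hreg x; exact RegUFD.ufd _

include k in
theorem isInvertible_curve (C : X.IdealSheafData) [IsIntegral C.subscheme]
    (hC : topologicalKrullDim (C.support : Set X) = 1) : PicF.IsInvertible (ClSub.idealMod C) :=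
  (S8914.result C).2 (isEffCartier_curve k hdim hreg C hC)

omit hdim hreg

omit [IsIntegral X]

omit [IsProper (X ↘ Spec (CommRingCat.of k))] in
theorem isInvertible_of_effCartier {F : X.IdealSheafData} (hF : FGA.IsEffCartier F) :
    PicF.IsInvertible (ClSub.idealMod F) := (S8914.result F).2 hF

/-- A map of modules that is invertible at the generic point of a closed integral curve. -/
theorem degOn_le_of_hom (C : X.IdealSheafData) [IsIntegral C.subscheme]
    (hC : topologicalKrullDim (C.support : Set X) = 1) {A B : X.Modules}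
    (hA : PicF.IsInvertible A) (hB : PicF.IsInvertible B) (φ : A ⟶ B)
    (h : IsIso ((DerSch.stalkFunctor X (genC C)).map φ)) :
    degOn k (ClSub.quotMod C) A ≤ degOn k (ClSub.quotMod C) B := by
  letI := overComp k C.subschemeι
  haveI := isProper_comp k C.subschemeι rfl
  have hA' := PicClLib.isInvertible_pullback C.subschemeι hA
  have hB' := PicClLib.isInvertible_pullback C.subschemeι hB
  rw [degOn_push k C.subschemeι rfl hA, degOn_push k C.subschemeι rfl hB]
  refine (CurveDeg.deg_le_and_isIso k (by rw [dim_subscheme C, hC]) hA' hB'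
    ((Scheme.Modules.pullback C.subschemeι).map φ) fun h0 => ?_).1
  let η := genericPoint C.subscheme
  haveI : IsIso ((DerSch.stalkFunctor X (C.subschemeι.base η)).map φ) := h
  have this : IsIso ((DerSch.stalkFunctor C.subscheme η).map ((Scheme.Modules.pullback C.subschemeι).map φ)) := by
    refine (NatIso.isIso_map_iff (KFlatLib.stalkPullbackIso C.subschemeι η) φ).2 ?_
    exact Functor.map_isIso (ModuleCat.extendScalars (C.subschemeι.stalkMap η).hom)
      ((DerSch.stalkFunctor X (C.subschemeι.base η)).map φ)
  rw [h0, Functor.map_zero] at this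
  have hz : IsZero ((DerSch.stalkFunctor C.subscheme η).obj ((Scheme.Modules.pullback C.subschemeι).obj B)) :=
    (IsZero.iff_id_eq_zero _).2 ((cancel_epi (0 : (DerSch.stalkFunctor C.subscheme η).obj
      ((Scheme.Modules.pullback C.subschemeι).obj A) ⟶ _)).1 (by rw [zero_comp, zero_comp]))
  obtain ⟨U, hU, ⟨e⟩⟩ := hB' η
  obtain ⟨U', hU', t, ht⟩ : ∃ (U' : C.subscheme.Opens) (_ : η ∈ U') (t : Γ((Scheme.Modules.pullback C.subschemeι).obj B, U')),
      InvX.IsFrame t := by
    obtain ⟨V, hV, t, t', ht, -⟩ := InvX.exists_frame₂ hB' hB' η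
    exact ⟨V, hV, t, ht⟩
  have hsub : Subsingleton (((Scheme.Modules.pullback C.subschemeι).obj B).presheaf.stalk η) :=
    ModuleCat.subsingleton_of_isZero hz
  haveI : Nontrivial (C.subscheme.presheaf.stalk η) := inferInstance
  exact not_subsingleton (C.subscheme.presheaf.stalk η)
    (Function.Injective.subsingleton (ht.germ_bijective hU').1)

omit [IsProper (X ↘ Spec (CommRingCat.of k))] in
theorem isIso_stalk_idealModι (Z : X.IdealSheafData) {x : X} (hx : x ∉ (Z.support : Set X)) :
    IsIso ((DerSch.stalkFunctor X x).map (ClSub.idealModι Z)) := by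
  have hS := (shortExact_ideal Z).map_of_exact (DerSch.stalkFunctor X x)
  haveI : Mono ((DerSch.stalkFunctor X x).map (ClSub.idealModι Z)) := hS.mono_f
  have hz : IsZero ((DerSch.stalkFunctor X x).obj (ClSub.quotMod Z)) :=
    @ModuleCat.isZero_of_subsingleton _ _ _ (ParShLib.subsingleton_stalk_quotMod Z hx)
  haveI : Epi ((DerSch.stalkFunctor X x).map (ClSub.idealModι Z)) :=
    hS.exact.epi_f (hz.eq_of_tgt _ _)
  exact isIso_of_mono_of_epi _

/-- The ideal of a divisor has non-positive degree on a curve outside it. -/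
theorem degOn_curve_ideal_nonpos (C : X.IdealSheafData) [IsIntegral C.subscheme]
    (hC : topologicalKrullDim (C.support : Set X) = 1) {F : X.IdealSheafData}
    (hF : PicF.IsInvertible (ClSub.idealMod F)) (hCF : genC C ∉ (F.support : Set X)) :
    degOn k (ClSub.quotMod C) (ClSub.idealMod F) ≤ 0 := by
  have := degOn_le_of_hom k C hC hF isInvertible_structure (ClSub.idealModι F) (isIso_stalk_idealModι F hCF)
  rwa [degOn_one] at this

theorem dot_ideal_nonneg (hd : topologicalKrullDim X ≤ 2) (C : X.IdealSheafData) [IsIntegral C.subscheme]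
    (hC : topologicalKrullDim (C.support : Set X) = 1) (hCi : PicF.IsInvertible (ClSub.idealMod C))
    {F : X.IdealSheafData} (hF : PicF.IsInvertible (ClSub.idealMod F)) (hCF : genC C ∉ (F.support : Set X)) :
    0 ≤ dot k (ClSub.idealMod C) (ClSub.idealMod F) := by
  rw [dot_ideal_left k hd C hCi hF]
  have := degOn_curve_ideal_nonpos k C hC hF hCF
  omega

theorem dim_support_quot_curve {C : X.IdealSheafData} (hC : topologicalKrullDim (C.support : Set X) = 1) :
    topologicalKrullDim (CohB1.support (ClSub.quotMod C)) ≤ 1 :=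
  dim_support_quotMod (n := 1) hC.le

omit [IsProper (X ↘ Spec (CommRingCat.of k))] in
theorem dim_zero_of_affine_proper {Y : Scheme.{u}} [IsIntegral Y] (f : Y ⟶ Spec (CommRingCat.of k)) [IsProper f]
    [IsAffine Y] : topologicalKrullDim Y ≤ 0 := by
  haveI : IsFinite f := IsFinite.iff_isProper_and_isAffineHom.2 ⟨inferInstance, inferInstance⟩
  letI : Algebra k Γ(Y, ⊤) := (Coh.toGlobal f).toAlgebra
  haveI : Module.Finite k Γ(Y, ⊤) := by
    have h1 : (f.appTop.hom).Finite := IsFinite.finite_app f ⊤ (isAffineOpen_top _)
    exact RingHom.finite_algebraMap.1 (h1.comp (RingHom.Finite.of_surjective _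
      (Scheme.ΓSpecIso (CommRingCat.of k)).commRingCatIsoToRingEquiv.symm.surjective))
  haveI : IsArtinianRing Γ(Y, ⊤) := IsArtinianRing.of_finite k Γ(Y, ⊤)
  rw [IsHomeomorph.topologicalKrullDim_eq _ (Scheme.homeoOfIso Y.isoSpec).isHomeomorph]
  exact (PrimeSpectrum.topologicalKrullDim_eq_ringKrullDim Γ(Y, ⊤)).le.trans
    (Order.KrullDimLE.krullDim_le (n := 0) (α := PrimeSpectrum Γ(Y, ⊤)))

/-- An ample module has positive degree on every curve. -/
theorem degOn_ample_pos (C : X.IdealSheafData) [IsIntegral C.subscheme]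
    (hC : topologicalKrullDim (C.support : Set X) = 1) {H : X.Modules} (hH : CohB1.IsAmple H) :
    0 < degOn k (ClSub.quotMod C) H := by
  letI := overComp k C.subschemeι
  haveI := isProper_comp k C.subschemeι rfl
  haveI := noeth k (X := C.subscheme)
  have hA := AmpleVan.isAmple_pullback_of_isEmbedding C.subschemeι C.subschemeι.isClosedEmbedding.isEmbedding hH
  haveI := AmpleX.isSeparated_of_isAmple hA
  obtain ⟨m, hm, s, hxs, -, haff⟩ := AmpleX.exists_genLocus_le hA
    (show genericPoint C.subscheme ∈ (⊤ : C.subscheme.Opens) from trivial)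
  have hd1 : topologicalKrullDim C.subscheme = 1 := by rw [dim_subscheme C, hC]
  obtain ⟨x, hx⟩ : ∃ x, x ∉ CohB1.genLocus _ s := by
    by_contra hne
    simp only [not_exists, not_not] at hne
    haveI : IsAffine C.subscheme := by
      have e : CohB1.genLocus _ s = ⊤ := top_le_iff.1 fun y _ => hne y
      rw [e] at haff
      haveI : IsAffine (⊤ : C.subscheme.Opens).toScheme := haff
      exact IsAffine.of_isIso C.subscheme.topIso.inv
    have := dim_zero_of_affine_proper k (C.subscheme ↘ Spec (CommRingCat.of k))
    rw [hd1] at this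
    exact absurd this (by norm_num)
  have hs : s ≠ 0 := fun h0 => by
    obtain ⟨U, hxU, hU⟩ := InvX.mem_genLocus hxs
    have h1 : InvX.one s = 0 := by
      subst h0
      rfl
    rw [h1, map_zero] at hU
    refine zero_ne_one' (C.subscheme.presheaf.stalk (genericPoint C.subscheme)) ((hU.germ_bijective hxU).1 ?_)
    simp only [map_zero, smul_zero]
  have hpos := S1519.result k C.subscheme hd1 _ (InvX.isInvertible_tensorPow hA.1 m) s hs x hx
  have key : Curv2.deg k C.subscheme (CohB1.tensorPow ((Scheme.Modules.pullback C.subschemeι).obj H) m) 1 =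
      degOn k (ClSub.quotMod C) (CohB1.tensorPow H m) := by
    rw [degOn_push k C.subschemeι rfl (InvX.isInvertible_tensorPow hH.1 m)]
    rw [Curv2.deg, Curv2.deg]
    congr 1
    refine CurveCohLib.euler_congr (k := k) ((PicGrp.cl_eq_cl_iff _ _).1 ?_).some
    open scoped Groth.Agent.H23.PicMul in
    rw [H23.PicMul.cl_tensorPow]
    show _ = PicF.pullCl C.subschemeι (PicF.cl (CohB1.tensorPow H m))
    rw [H23.PicMul.cl_tensorPow, H23.PicMul.pullCl_pow]
    rfl
  rw [key, degOn_tensorPow k (isCoh_quotMod k C) (dim_support_quot_curve hC) hH.1] at hpos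
  exact pos_of_mul_pos_right hpos (by positivity)

/-- A module with finite support has degree zero. -/
theorem degOn_eq_zero_of_dim {F M : X.Modules} (hF : Coh.IsCoh F)
    (hd : topologicalKrullDim (CohB1.support F) ≤ 0) (hM : PicF.IsInvertible M) : degOn k F M = 0 := by
  have e : (fun i => PicF.cl ((![M] : Fin 1 → X.Modules) i)) = ![PicF.cl M] :=
    funext fun i => Fin.cases rfl (fun i => i.elim0) i
  have h := dn_chiCl_eq_zero k (M := ![M]) (Fin.cases hM (fun i => i.elim0)) hF
    (lt_of_le_of_lt hd (by exact_mod_cast Nat.one_pos))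
  open scoped Groth.Agent.H23.PicMul in
  rw [e, dn_one, chiCl_one, chiCl_eq_degOn] at h
  omega

end Groth.Agent.SurfInt
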