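import Groth.Agent.SurfInt.CMInter
import Groth.Agent.KFlatLib.Scheme.Exact

/-! `(C.D) = h⁰(O_{C ∩ D})` for divisors meeting in finitely many points. -/

noncomputable section

set_option linter.style.haveILetI false
set_option linter.unusedSectionVars false
set_option backward.isDefEq.respectTransparency false
set_option backward.isDefEq.respectTransparency.types false

universe u

open CategoryTheory CategoryTheory.Limits AlgebraicGeometry TopologicalSpace Opposite

namespace Groth.Agent.SurfInt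

open Groth.Agent Groth.Agent.AModX Groth.Agent.InvX

variable {X : Scheme.{u}}

theorem germ_one_eq {V : X.Opens} {x : X} (hx : x ∈ V) :
    (Coh.structureModule X).presheaf.germ V x hx (show Γ(Coh.structureModule X, V) from (1 : Γ(X, V))) = oneSt x := by
  rw [oneSt, ← InvX.germ_res' (M := Coh.structureModule X) (le_top : V ≤ ⊤) hx]
  congr 1
  exact (map_one (AModX.resR (le_top : V ≤ ⊤))).symm

theorem st_idealModι_germ {C : X.IdealSheafData} {V : X.Opens} {x : X} (hx : x ∈ V) (n : Γ(ClSub.idealMod C, V)) :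
    st (ClSub.idealModι C) x ((ClSub.idealMod C).presheaf.germ V x hx n) =
      X.presheaf.germ V x hx (OmegaSh.idealSect C V n) • oneSt x := by
  have hv : (ClSub.idealModι C).app V n =
      OmegaSh.idealSect C V n • (show Γ(Coh.structureModule X, V) from (1 : Γ(X, V))) := (mul_one (show Γ(X, V) from OmegaSh.idealSect C V n)).symm
  rw [st_germ, hv, QCoh.germ_smul', germ_one_eq]

/-- Stalk kernel of `O → O_{C ∩ D}`. -/
theorem stalk_sup_eq_zero {C D : X.IdealSheafData} {V : X.affineOpens} {c d : Γ(X, V.1)}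
    (hc : ArSurfX.IsGen C V c) (hd : ArSurfX.IsGen D V d) {x : X} (hx : x ∈ V.1) {a : X.presheaf.stalk x}
    (h : st (ClSub.toSubscheme (C ⊔ D)) x (a • oneSt x) = 0) :
    ∃ u v, a = u * X.presheaf.germ V.1 x hx c + v * X.presheaf.germ V.1 x hx d := by
  have hS := (shortExact_ideal (C ⊔ D)).map_of_exact (DerSch.stalkFunctor X x)
  obtain ⟨l, hl⟩ := (ShortComplex.moduleCat_exact_iff _).1 hS.exact (a • oneSt x) h
  obtain ⟨W, hW, n, rfl⟩ := TopCat.Presheaf.exists_germ_eq (ClSub.idealMod (C ⊔ D)).presheaf l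
  obtain ⟨_, ⟨V', hV', rfl⟩, hxV', hle⟩ := X.isBasis_affineOpens.exists_subset_of_mem_open
    (show x ∈ W ⊓ V.1 from ⟨hW, hx⟩) (W ⊓ V.1).2
  have hle1 : V' ≤ W := fun z hz => (hle hz).1
  have hle2 : V' ≤ V.1 := fun z hz => (hle hz).2
  change st (ClSub.idealModι (C ⊔ D)) x _ = _ at hl
  rw [← InvX.germ_res' hle1 hxV' n, st_idealModι_germ] at hl
  have hm := OmegaLib.idealSect_mem (C ⊔ D) ⟨V', hV'⟩ (res _ hle1 n)
  rw [Scheme.IdealSheafData.ideal_sup, Pi.sup_apply, (hc.res (V := ⟨V', hV'⟩) hle2).2,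
    (hd.res (V := ⟨V', hV'⟩) hle2).2] at hm
  obtain ⟨g₁, h₁, g₂, h₂, hg⟩ := Submodule.mem_sup.1 hm
  obtain ⟨u, rfl⟩ := Ideal.mem_span_singleton'.1 h₁
  obtain ⟨v, rfl⟩ := Ideal.mem_span_singleton'.1 h₂
  refine ⟨X.presheaf.germ V' x hxV' u, X.presheaf.germ V' x hxV' v, ?_⟩
  have hh : X.presheaf.germ V' x hxV' (OmegaSh.idealSect (C ⊔ D) V' (res _ hle1 n)) = a :=
    ((InvX.isFrame_one (X := X) ⊤).germ_bijective (x := x) trivial).1 hl
  rw [← hh, ← hg, map_add, map_mul, map_mul, InvX.germ_resR' hle2 hxV', InvX.germ_resR' hle2 hxV']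

theorem mono_of_st_injective {F G : X.Modules} (φ : F ⟶ G) (h : ∀ x, Function.Injective (st φ x)) : Mono φ := by
  refine Preadditive.mono_of_kernel_zero ?_
  refine VBCurvesLib.hom_ext_stalk _ _ fun x => LinearMap.ext fun z => h x ?_
  show st φ x (st (kernel.ι φ) x z) = st φ x (st (0 : kernel φ ⟶ F) x z)
  rw [← st_comp, ← st_comp, kernel.condition, zero_comp]

set_option maxHeartbeats 1000000 in
/-- `0 → O_C(-D) → O_C → O_{C ∩ D} → 0`. -/
theorem exists_inter_seq {C D : X.IdealSheafData} (hC : BlowUp.IsEffCartierIdeal C)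
    (hD : BlowUp.IsEffCartierIdeal D)
    (hreg : ∀ (V : X.affineOpens) (c d : Γ(X, V.1)), ArSurfX.IsGen C V c → ArSurfX.IsGen D V d →
      ∀ (x : X) (hx : x ∈ V.1) (a : X.presheaf.stalk x),
      X.presheaf.germ V.1 x hx d * a ∈ Ideal.span {X.presheaf.germ V.1 x hx c} →
        a ∈ Ideal.span {X.presheaf.germ V.1 x hx c}) :
    ∃ (i : CohB1.tensorMod (ClSub.quotMod C) (ClSub.idealMod D) ⟶ ClSub.quotMod C)
      (q : ClSub.quotMod C ⟶ ClSub.quotMod (C ⊔ D)) (w : i ≫ q = 0), (ShortComplex.mk i q w).ShortExact := by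
  choose U hU c d hc hd using ArSurfX.exists_isGen₂ hC hD
  choose n hn hn' using fun x => ArSurfX.exists_frame_of_isGen (hc x)
  choose k hk hk' using fun x => ArSurfX.exists_frame_of_isGen (hd x)
  have iD := ArSurfX.isInvertible_idealMod hD
  obtain ⟨u, hu⟩ := exists_unit_iso iD
  let ID := ClSub.idealMod D
  haveI := AmpleVan.isEquivalence_tw iD
  haveI : (AmpleVan.tw ID).Additive := Functor.additive_of_preserves_binary_products _
  have hcov : ∀ z : X, ∃ x, z ∈ (U x).1 := fun z => ⟨z, hU z⟩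
  let f : ∀ x, Γ((AmpleVan.tw ID).obj (Coh.structureModule X), (U x).1) :=
    fun x => tmul (show Γ(Coh.structureModule X, (U x).1) from (1 : Γ(X, (U x).1))) (k x)
  let f' : ∀ x, Γ((AmpleVan.tw ID).obj (ClSub.idealMod C), (U x).1) := fun x => tmul (n x) (k x)
  have hf : ∀ x, IsFrame (f x) := fun x => isFrame_tmul (isFrame_one _) (hk' x)
  have hf' : ∀ x, IsFrame (f' x) := fun x => isFrame_tmul (hn' x) (hk' x)
  let v : (AmpleVan.tw ID).obj (Coh.structureModule X) ⟶ Coh.structureModule X := u.hom ≫ ClSub.idealModι D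
  have hv : ∀ x, v.app (U x).1 (f x) = (show Γ(Coh.structureModule X, (U x).1) from d x) := fun x => by
    show (ClSub.idealModι D).app _ (u.hom.app (U x).1 (f x)) = _
    rw [hu _ _ (hk' x)]
    exact hk x
  let ι' := (AmpleVan.tw ID).map (ClSub.idealModι C)
  have hι' : ∀ x, ι'.app (U x).1 (f' x) = c x • f x := fun x => by
    show ((AmpleVan.tw ID).map _).app _ (tmul _ _) = _
    rw [AmpleVan.map_tmul_left, ← tmul_smul_left]
    exact congrArg (fun z => tmul z (k x)) ((hn x).trans (mul_one _).symm)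
  have hw : ι' ≫ v ≫ ClSub.toSubscheme C = 0 := hom_ext_of_frames _ hcov f' hf' fun x => by
    show (ClSub.toSubscheme C).app _ (v.app (U x).1 (ι'.app (U x).1 (f' x))) = 0
    rw [hι', Scheme.Modules.Hom.app_smul, hv]
    show C.subschemeι.app (U x).1 (c x * d x) = 0
    rw [map_mul, ← hn x, OmegaLib.subschemeι_app_idealSect, zero_mul]
  have hS := (shortExact_ideal C).map_of_exact (AmpleVan.tw ID)
  let π := (AmpleVan.tw ID).map (ClSub.toSubscheme C)
  haveI := hS.epi_g
  haveI : Epi π := hS.epi_g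
  let i : CohB1.tensorMod (ClSub.quotMod C) ID ⟶ ClSub.quotMod C := hS.exact.desc (v ≫ ClSub.toSubscheme C) hw
  have hπ : π ≫ i = v ≫ ClSub.toSubscheme C := hS.exact.g_desc _ _
  obtain ⟨q, hqe, hq⟩ := exists_quotMod_epi (le_sup_left : C ≤ C ⊔ D)
  have hiq : i ≫ q = 0 := by
    rw [← cancel_epi π, ← Category.assoc, hπ, Category.assoc, hq, comp_zero]
    refine hom_ext_of_frames _ hcov f hf fun x => ?_
    show (C ⊔ D).subschemeι.app (U x).1 (v.app (U x).1 (f x)) = 0
    rw [hv]
    show (C ⊔ D).subschemeι.app (U x).1 (d x) = 0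
    have : d x ∈ (C ⊔ D).ideal (U x) := by
      rw [Scheme.IdealSheafData.ideal_sup, Pi.sup_apply, (hd x).2]
      exact Submodule.mem_sup_right (Ideal.mem_span_singleton_self _)
    rw [← (C ⊔ D).ker_subschemeι_app] at this
    exact this
  haveI : Epi (ClSub.toSubscheme C) := (shortExact_ideal C).epi_g
  have hstf : ∀ (y : X) (b : X.presheaf.stalk y) (x : X) (hy : y ∈ (U x).1),
      st i y (st π y (b • ((AmpleVan.tw ID).obj (Coh.structureModule X)).presheaf.germ (U x).1 y hy (f x))) =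
        st (ClSub.toSubscheme C) y ((b * X.presheaf.germ (U x).1 y hy (d x)) • oneSt y) := by
    intro y b x hy
    refine (st_comp π i _).symm.trans ?_
    rw [hπ, st_comp, map_smul (st v y), st_germ v hy (f x), hv,
      show (show Γ(Coh.structureModule X, (U x).1) from d x) = d x •
        (show Γ(Coh.structureModule X, (U x).1) from (1 : Γ(X, (U x).1))) from (mul_one (d x)).symm,
      QCoh.germ_smul', germ_one_eq, smul_smul]
  have hmono : Mono i := mono_of_st_injective i fun y => by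
    rw [← LinearMap.ker_eq_bot, LinearMap.ker_eq_bot']
    intro z hz
    obtain ⟨w, rfl⟩ := st_surjective π z
    obtain ⟨x, hy⟩ := hcov y
    obtain ⟨b, rfl⟩ := ((hf x).germ_bijective hy).2 w
    dsimp only at hz ⊢
    rw [hstf] at hz
    have h1 := stalk_toSubscheme_eq_zero (hc x) hy hz
    rw [mul_comm] at h1
    obtain ⟨e, rfl⟩ := Ideal.mem_span_singleton'.1 (hreg _ _ _ (hc x) (hd x) y hy b h1)
    have h2 : (e * X.presheaf.germ (U x).1 y hy (c x)) •
        ((AmpleVan.tw ID).obj (Coh.structureModule X)).presheaf.germ (U x).1 y hy (f x) =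
        st ι' y (e • ((AmpleVan.tw ID).obj (ClSub.idealMod C)).presheaf.germ (U x).1 y hy (f' x)) := by
      rw [map_smul, st_germ, hι', QCoh.germ_smul', smul_smul]
    rw [h2, ← st_comp, show ι' ≫ π = 0 from ((ShortComplex.mk (ClSub.idealModι C) (ClSub.toSubscheme C)
      (kernel.condition _)).map (AmpleVan.tw ID)).zero]
    simp [st]
    rfl
  refine ⟨i, q, hiq, { exact := ?_, mono_f := hmono, epi_g := hqe }⟩
  rw [KFlatLib.exact_iff_stalk]
  intro y
  rw [ShortComplex.moduleCat_exact_iff]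
  intro z hz
  change st q y z = 0 at hz
  obtain ⟨x, hy⟩ := hcov y
  obtain ⟨w, rfl⟩ := st_surjective (ClSub.toSubscheme C) z
  obtain ⟨a, rfl⟩ := ((InvX.isFrame_one (X := X) ⊤).germ_bijective (x := y) trivial).2 w
  rw [← st_comp, hq] at hz
  obtain ⟨s, t, hst⟩ := stalk_sup_eq_zero (hc x) (hd x) hy hz
  refine ⟨st π y (t • ((AmpleVan.tw ID).obj (Coh.structureModule X)).presheaf.germ (U x).1 y hy (f x)), ?_⟩
  show st i y _ = st (ClSub.toSubscheme C) y (a • oneSt y)
  rw [hstf, hst, add_smul, map_add]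
  refine (zero_add _).symm.trans (congrArg (· + _) ?_)
  rw [show (s * X.presheaf.germ (U x).1 y hy (c x)) • oneSt y =
      s • st (ClSub.idealModι C) y ((ClSub.idealMod C).presheaf.germ (U x).1 y hy (n x)) by
    rw [st_idealModι_germ, hn, smul_smul], map_smul, ← st_comp,
    show ClSub.idealModι C ≫ ClSub.toSubscheme C = 0 from kernel.condition _]
  simp [st]
  exact ((congrArg (s • ·) (LinearMap.zero_apply _)).trans (smul_zero s)).symm

end Groth.Agent.SurfInt

namespace Groth.Agent.SurfInt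

open Groth.Agent

variable (k : Type u) [Field k] {X : Scheme.{u}} [X.Over (Spec (CommRingCat.of k))]
  [IsProper (X ↘ Spec (CommRingCat.of k))]

include k in
theorem dim_le_two_of_components (hdim : ∀ Z ∈ irreducibleComponents (X : Type u), topologicalKrullDim Z = 2) :
    topologicalKrullDim X ≤ 2 := by
  let f := X ↘ Spec (CommRingCat.of k)
  rw [VarDim.topologicalKrullDim_eq_iSup_deg f]
  refine iSup_le fun z => ?_
  obtain ⟨η, hη⟩ := QuasiSober.sober (isIrreducible_irreducibleComponent (x := z)) isClosed_irreducibleComponent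
  have h := VarDim.topologicalKrullDim_closure_singleton f η
  rw [hη.def, hdim _ (irreducibleComponent_mem_irreducibleComponents z)] at h
  have h' := WithBot.coe_injective (h.symm.trans (rfl : (2 : WithBot ℕ∞) = ((2 : ℕ∞) : WithBot ℕ∞)))
  have hle : VarDim.deg f z ≤ VarDim.deg f η :=
    VarDim.deg_le_of_specializes f (hη.specializes mem_irreducibleComponent)
  have h2 : VarDim.deg f η = 2 := by exact_mod_cast h'
  have h3 : ((VarDim.deg f z : ℕ) : ℕ∞) ≤ (2 : ℕ∞) := Nat.cast_le.2 (show VarDim.deg f z ≤ 2 by omega)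
  exact WithBot.coe_le_coe.2 h3

theorem finrank_of_inter_seq {Q Q' P : X.Modules} (hP : Coh.IsCoh P) (hQ : Coh.IsCoh Q) (hQ' : Coh.IsCoh Q')
    (h : ∃ (i : P ⟶ Q) (q : Q ⟶ Q') (w : i ≫ q = 0), (ShortComplex.mk i q w).ShortExact)
    (hpts : ∀ x ∈ CohB1.support Q', IsClosed ({x} : Set X)) :
    Curv2.euler k X Q - Curv2.euler k X P = Module.finrank k (Coh.HH X Q' 0) := by
  haveI := noeth k (X := X)
  obtain ⟨i, q, w, hS⟩ := h
  have h := CurveCohLib.euler_additive (k := k) (S := ShortComplex.mk i q w) hS hP hQ hQ'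
  dsimp only at h
  rw [← CurveCohLib.euler_eq_finrank_zero (k := k) hQ' hpts]
  omega

/-- Divisors meeting in finitely many points on a Cohen–Macaulay surface meet in `h⁰(O_{C ∩ D})` points. -/
theorem dot_eq_finrank_inter (hdim : ∀ Z ∈ irreducibleComponents (X : Type u), topologicalKrullDim Z = 2)
    (hCM : ∀ x : X, LocCoh.IsCohenMacaulayLocalRing (X.presheaf.stalk x)) {C D : X.IdealSheafData}
    (hC : BlowUp.IsEffCartierIdeal C) (hD : BlowUp.IsEffCartierIdeal D)
    (hfin : ((C ⊔ D).support : Set X).Finite) :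
    dot k (ClSub.idealMod C) (ClSub.idealMod D) =
      (Module.finrank k (Coh.HH X (ClSub.quotMod (C ⊔ D)) 0) : ℤ) := by
  have iC := ArSurfX.isInvertible_idealMod hC
  have iD := ArSurfX.isInvertible_idealMod hD
  rw [dot_ideal_left k (dim_le_two_of_components k hdim) C iC iD, degOn, neg_sub]
  exact finrank_of_inter_seq k (isCoh_twist_quot k C iD) (isCoh_quotMod k C) (isCoh_quotMod k _)
    (exists_inter_seq hC hD fun V c d hc hd x hx a h => injective_mult k hdim hCM hfin hc hd hx h)
    fun x hx => isClosed_of_mem_finite k (C ⊔ D).support.isClosed hfin (support_quotMod_subset _ hx)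

end Groth.Agent.SurfInt
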