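import Groth.Agent.SurfInt.AffCompl

/-! Complements of affine opens on regular proper surfaces carry ample divisors. -/

noncomputable section

set_option linter.style.haveILetI false
set_option linter.unusedSectionVars false
set_option backward.isDefEq.respectTransparency false
set_option backward.isDefEq.respectTransparency.types false

universe u

open CategoryTheory CategoryTheory.Limits AlgebraicGeometry TopologicalSpace Opposite

namespace Groth.Agent.SurfInt

open Groth.Agent

variable (k : Type u) [Field k] {X : Scheme.{u}} [X.Over (Spec (CommRingCat.of k))]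
  [IsProper (X ↘ Spec (CommRingCat.of k))] [IsIntegral X] (hdim : topologicalKrullDim X = 2)
  (hreg : ∀ x : X, IsRegularLocalRing (X.presheaf.stalk x))

include k in
/-- A closed point in a non-empty open. -/
theorem exists_closed_in {U : X.Opens} (hU : (U : Set X).Nonempty) : ∃ q ∈ U, IsClosed ({q} : Set X) := by
  haveI : JacobsonSpace X := LocallyOfFiniteType.jacobsonSpace (X ↘ Spec (CommRingCat.of k))
  obtain ⟨q, hq, hqc⟩ := nonempty_inter_closedPoints hU U.2.isLocallyClosed
  exact ⟨q, hq, hqc⟩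

include hdim in
theorem ne_genericPoint_of_isClosed {q : X} (hq : IsClosed ({q} : Set X)) : q ≠ genericPoint X := fun h => by
  subst h
  have hu : ({genericPoint X} : Set X) = Set.univ := hq.closure_eq.symm.trans (genericPoint_spec X).def
  haveI : Subsingleton X := Set.subsingleton_univ_iff.1 (hu ▸ Set.subsingleton_singleton)
  haveI : Subsingleton (IrreducibleCloseds X) := ⟨fun A B => SetLike.coe_injective (by
    obtain ⟨a, ha⟩ := A.isIrreducible.nonempty
    obtain ⟨b, hb⟩ := B.isIrreducible.nonempty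
    ext z
    exact ⟨fun _ => Subsingleton.elim b z ▸ hb, fun _ => Subsingleton.elim a z ▸ ha⟩)⟩
  have h0 : topologicalKrullDim X ≤ 0 := Order.krullDim_nonpos_of_subsingleton
  rw [hdim] at h0
  exact absurd h0 (by norm_num)

include k hdim hreg in
theorem exists_ample_compl_affine {U : X.Opens} (hU : IsAffineOpen U) (hUne : (U : Set X).Nonempty) :
    ∃ I : X.IdealSheafData, BlowUp.IsEffCartierIdeal I ∧ (I.support : Set X) = (U : Set X)ᶜ ∧
      ∀ L : X.Modules, PicF.IsInvertible L → ClSub.IsInverseOf L (ClSub.idealMod I) → CohB1.IsAmple L := by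
  classical
  haveI := noeth k (X := X)
  haveI : X.IsSeparated := ⟨by
    rw [← Limits.terminal.comp_from (X ↘ Spec (CommRingCat.of k))]
    infer_instance⟩
  haveI : Nonempty U := hUne.to_subtype
  have hη : genericPoint X ∈ U := ((genericPoint_spec X).mem_open_set_iff U.2).2 (by simpa using hUne)
  obtain ⟨D₁, hD₁, hD₁s⟩ := S1572.result X U hU (U.2.dense hUne)
    fun x _ => by haveI := hreg x; exact RegUFD.ufd _
  obtain ⟨P, hP, hPI⟩ := H23.PicInv.exists_inverse ((S8914.result D₁).2 hD₁)
  obtain ⟨s, hs0, hs⟩ := AVAmple.exists_divisor_section_ne_zero D₁ hD₁ hP (isInverseOf_comm hPI)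
  have hloc : AmpleX.locus s = U := by
    refine Opens.ext (Set.ext fun x => ?_)
    have h := hs x
    rw [show H23.TrivBasic.locus s = AmpleX.locus s from by
      rw [H23.TrivBasic.locus, AmpleX.genLocus_eq_locus, InvX.one_ofSect]] at h
    rw [SetLike.mem_coe, SetLike.mem_coe, h, ← SetLike.mem_coe, hD₁s, Set.mem_compl_iff, not_not, SetLike.mem_coe]
  have hs' : InvX.ofSect s ≠ 0 := fun h => hs0 (by rw [← InvX.one_ofSect s, h]; rfl)
  obtain ⟨hD₀, -⟩ := isInverseOf_zeroScheme hP _ hs'
  set D₀ := PicF2.zeroScheme P (InvX.ofSect s)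
  have hD₀s : (D₀.support : Set X) = (U : Set X)ᶜ := by rw [support_zeroScheme hP, hloc]
  obtain ⟨r, f, hf⟩ := (finite_curves_through (k := k) D₀.support (dim_support_effCartier k hdim hD₀)).fin_embedding
  let C : Fin r → X.IdealSheafData := fun i => f i
  have hmem : ∀ i, IsIntegral (C i).subscheme ∧ topologicalKrullDim ((C i).support : Set X) = 1 ∧
      ((C i).support : Set X) ⊆ D₀.support := fun i => (hf ▸ Set.mem_range_self i : C i ∈ _)
  haveI : ∀ i, IsIntegral (C i).subscheme := fun i => (hmem i).1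
  have hC := fun i => (hmem i).2.1
  have hCc : ∀ i, BlowUp.IsEffCartierIdeal (C i) := fun i => isEffCartier_curve k hdim hreg (C i) (hC i)
  have hsurj : ∀ K : X.IdealSheafData, IsIntegral K.subscheme → topologicalKrullDim (K.support : Set X) = 1 →
      (K.support : Set X) ⊆ D₀.support → ∃ i, C i = K := fun K h1 h2 h3 => by
    have h : K ∈ Set.range f := hf ▸ ⟨h1, h2, h3⟩
    exact h
  have hoff : ∀ i l, i ≠ l → genC (C i) ∉ ((C l).support : Set X) := fun i l h =>
    genC_notMem k (hC i) (hC l) fun e => h (f.injective e)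
  obtain ⟨d, E₀, hE₀, hD, hE₀C⟩ := exists_decomp C hCc (fun i h => by
    have hm := genC_mem (C i)
    have hb : ((C i).support : Set X) = ∅ := by simp [h]
    exact absurd hm (by rw [hb]; exact Set.notMem_empty _)) D₀ hD₀
  have hE₀top : E₀ = ⊤ := by
    by_contra h
    obtain ⟨K, hK1, hK2, hK3⟩ := exists_curve_le k hdim hE₀ h
    have hle : D₀ ≤ K := le_trans (by rw [hD]; intro V; simp only [Scheme.IdealSheafData.ideal_mul, Pi.mul_apply]; exact Ideal.mul_le_right) hK3
    obtain ⟨i, rfl⟩ := hsurj K hK1 hK2 (SetLike.coe_subset_coe.2 (Scheme.IdealSheafData.support_antitone hle))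
    exact hE₀C i hK3
  rw [hE₀top, show (⊤ : X.IdealSheafData) = 1 from rfl, mul_one] at hD
  have hnotU : ∀ i x, x ∈ ((C i).support : Set X) → x ∉ U := fun i x hx hxU => by
    have h := (hmem i).2.2 hx
    rw [SetLike.mem_coe] at h
    exact (hD₀s ▸ h : x ∈ (U : Set X)ᶜ) hxU
  have hξU : ∀ i, genC (C i) ∉ U := fun i => hnotU i _ (genC_mem (C i))
  -- points of `U` specializing to closed points of the curves
  have hpts : ∀ i, ∃ x p, x ∈ ((C i).support : Set X) ∧ p ⤳ x ∧ p ∈ U ∧ p ≠ genericPoint X := by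
    intro i
    obtain ⟨x, hx, hxc⟩ := exists_closed_on_curve k (C i) (hC i)
    obtain ⟨p, hp, hpη, hpn⟩ := exists_generization_notMem (fun j => genC (C j))
      (fun j => genC_ne_genericPoint hdim (C j) (hC j)) ⟨i, (mem_support_curve_iff k (C i) x).1 hx⟩
      fun j _ h => not_isClosed_genC k (C j) (hC j) (h ▸ hxc)
    refine ⟨x, p, hx, hp, ?_, hpη⟩
    by_contra hpU
    have h : p ∈ (D₀.support : Set X) := hD₀s ▸ hpU
    rw [hD, SetLike.mem_coe, mem_support_prod] at h
    obtain ⟨j, -, -, hj⟩ := h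
    exact hpn j ((mem_support_curve_iff k (C j) p).1 hj)
  choose xc pt hxc hpx hptU hptη using hpts
  obtain ⟨q₀, hq₀U, hq₀c⟩ := exists_closed_in k hUne
  obtain ⟨gq, hgq0, hgq⟩ := exists_vanish hU hq₀U (ne_genericPoint_of_isClosed hdim hq₀c)
  choose gi hgi0 hgi using fun i => exists_vanish hU (hptU i) (hptη i)
  let g₀ := gq * ∏ i, gi i
  have hg₀ : g₀ ≠ 0 := mul_ne_zero hgq0 (Finset.prod_ne_zero_iff.2 fun i _ => hgi0 i)
  have hg₀q : ¬ IsUnit g₀ := fun h => by
    have h' : q₀ ∈ X.basicOpen g₀ := by rw [X.basicOpen_of_isUnit h]; exact hq₀U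
    rw [Scheme.basicOpen_mul] at h'
    exact hgq h'.1
  have hg₀p : ∀ i, pt i ∉ X.basicOpen g₀ := fun i h => by
    rw [show g₀ = gq * (gi i * ∏ j ∈ Finset.univ.erase i, gi j) by
      rw [Finset.mul_prod_erase _ _ (Finset.mem_univ i)], Scheme.basicOpen_mul, Scheme.basicOpen_mul] at h
    exact hgi i h.2.1
  -- for each curve, a combination of the curves with positive coefficient on it
  have hvec : ∀ j, ∃ w : Fin r → ℤ, 0 < w j ∧
      ∀ i, 0 < ∑ l, w l * dot k (ClSub.idealMod (C i)) (ClSub.idealMod (C l)) := by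
    intro j
    obtain ⟨h, N, hh, n, T, e, E, hT, hE, hZ, hEC, hsum, hlt⟩ : ∃ (h : Γ(X, U)) (N : ℕ) (_ : g₀ * h ^ N ≠ 0)
        (n : ℕ) (T : Γ(CohB1.tensorMod P (CohB1.tensorPow P n), ⊤)) (e : Fin r → ℕ) (E : X.IdealSheafData),
        AModX.res _ (le_top : U ≤ ⊤) T = (g₀ * h ^ N) • AModX.res _ (le_top : U ≤ ⊤) (twistSect s n) ∧
        BlowUp.IsEffCartierIdeal E ∧
        PicF2.zeroScheme _ (InvX.ofSect T) = (∏ i, C i ^ e i) * E ∧
        (∀ i, genC (C i) ∉ (E.support : Set X)) ∧
        (∀ i, ∑ l, (((n + 1 : ℕ) : ℤ) * d l - e l) * dot k (ClSub.idealMod (C i)) (ClSub.idealMod (C l)) =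
          dot k (ClSub.idealMod (C i)) (ClSub.idealMod E)) ∧ e j < (n + 1) * d j := by
      by_contra hcon
      push Not at hcon
      refine hξU j (mem_of_regular hU hη (genC (C j)) fun h => ?_)
      by_cases hh0 : h = 0
      · exact ⟨0, by rw [map_zero, hh0, map_zero]⟩
      haveI := hreg (genC (C j))
      haveI := (RegUFD.ufd (X.presheaf.stalk (genC (C j)))).2
      have hc0 : X.presheaf.germ U (genericPoint X) hη g₀ ≠ 0 := fun h0 =>
        hg₀ (X.germToFunctionField_injective U (h0.trans (map_zero _).symm))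
      refine mem_range_of_pow_bounded (R := X.presheaf.stalk (genC (C j))) (K := X.functionField) hc0 fun N => ?_
      have hh : g₀ * h ^ N ≠ 0 := mul_ne_zero hg₀ (pow_ne_zero N hh0)
      obtain ⟨n, T, e, E, hT, hE, hZ, hEC, hsum⟩ :=
        exists_sect_decomp k hP hloc hUne hdim.le C hC hCc d hD (g₀ * h ^ N) hh
      have := germ_mem_range_of_exponent hP hloc hη C d e E hD (g₀ * h ^ N) hT hZ j
        (fun i hi => hoff j i (Ne.symm hi)) (hcon h N hh n T e E hT hE hZ hEC hsum)
      rw [map_mul, map_pow] at this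
      exact this
    refine ⟨fun l => ((n + 1 : ℕ) : ℤ) * d l - e l, ?_, fun i => ?_⟩
    · have : ((e j : ℕ) : ℤ) < (((n + 1) * d j : ℕ) : ℤ) := by exact_mod_cast hlt
      push_cast at this ⊢
      linarith
    · rw [hsum i, dot_ideal_left k hdim.le _ ((S8914.result _).2 (hCc i)) ((S8914.result _).2 hE), Left.neg_pos_iff]
      refine degOn_curve_ideal_neg k (C i) (hC i) ((S8914.result _).2 hE) (hEC i) ⟨xc i, hxc i, ?_⟩
      refine (hpx i).mem_closed E.support.isClosed ?_
      have hN := InvX.isInvertible_tensorMod hP (H23.PicMul.isInvertible_tensorPow hP n)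
      have h1 : pt i ∈ ((PicF2.zeroScheme _ (InvX.ofSect T)).support : Set X) := by
        rw [support_zeroScheme hN]
        intro hl
        have h2 := AmpleX.locus_inf T le_top (isFrame_res_twistSect s hloc.ge n) hT
        have h3 : pt i ∈ X.basicOpen (g₀ * h ^ N) := h2 ▸ ⟨hl, hptU i⟩
        rw [Scheme.basicOpen_mul] at h3
        exact hg₀p i h3.1
      rw [hZ, Scheme.IdealSheafData.support_mul, Closeds.coe_sup] at h1
      refine h1.resolve_left fun h4 => ?_
      rw [SetLike.mem_coe, mem_support_prod] at h4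
      obtain ⟨l, -, -, hl⟩ := h4
      exact hnotU l _ hl (hptU i)
  choose w hw hwpos using hvec
  obtain ⟨W, hW, hWpos⟩ := exists_pos_combination
    (fun i l => dot k (ClSub.idealMod (C i)) (ClSub.idealMod (C l)))
    (fun i l hil => dot_ideal_nonneg k hdim.le (C i) (hC i) ((S8914.result _).2 (hCc i))
      ((S8914.result _).2 (hCc l)) (hoff i l hil)) w hw hwpos
  let D := ∏ i, C i ^ W i
  have hDc : BlowUp.IsEffCartierIdeal D := isEffCartier_prod _ _ fun i _ => isEffCartier_pow (hCc i) _
  have hDs : (D.support : Set X) = (U : Set X)ᶜ := by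
    rw [← hD₀s]
    ext x
    rw [SetLike.mem_coe, mem_support_prod, SetLike.mem_coe]
    refine ⟨fun ⟨i, _, _, hi⟩ => (hmem i).2.2 hi, fun hx => ?_⟩
    rw [hD, mem_support_prod] at hx
    obtain ⟨i, hi, -, hxi⟩ := hx
    exact ⟨i, hi, (hW i).ne', hxi⟩
  refine ⟨D, hDc, hDs, fun L hL hLD => ?_⟩
  have hDI := (S8914.result D).2 hDc
  have hdeg : ∀ K : X.IdealSheafData, IsIntegral K.subscheme → topologicalKrullDim (K.support : Set X) = 1 →
      0 < degOn k (ClSub.quotMod K) L := by
    intro K hK1 hK2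
    haveI := hK1
    have key : degOn k (ClSub.quotMod K) (ClSub.idealMod D) < 0 := by
      by_cases hK : genC K ∈ U
      · refine degOn_curve_ideal_neg k K hK2 hDI ?_ ?_
        · rw [hDs]; exact fun h => h hK
        · rw [hDs, ← Set.diff_eq, Set.sdiff_nonempty]
          intro hsub
          haveI : IsAffine K.subscheme := by
            have h1 := hU.preimage K.subschemeι
            have htop : K.subschemeι ⁻¹ᵁ U = ⊤ := top_le_iff.1 fun y _ => hsub (K.range_subschemeι.le ⟨y, rfl⟩)
            rw [htop] at h1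
            haveI : IsAffine ((⊤ : K.subscheme.Opens) : Scheme.{u}) := h1
            exact IsAffine.of_isIso K.subscheme.topIso.inv
          have h0 := dim_zero_of_affine_proper (k := k) (K.subschemeι ≫ (X ↘ Spec (CommRingCat.of k)))
          rw [dim_subscheme, hK2] at h0
          exact absurd h0 (by norm_num)
      · obtain ⟨i, rfl⟩ := hsurj K hK1 hK2 ((support_subset_iff K).2 (show genC K ∈ (D₀.support : Set X) by
          rw [hD₀s]; exact hK))
        have h := hWpos i
        rw [← dot_idealMod_prod k hdim.le ((S8914.result _).2 (hCc i)) _ _ hCc,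
          dot_ideal_left k hdim.le _ ((S8914.result _).2 (hCc i)) hDI] at h
        exact Left.neg_pos_iff.1 h
    rw [degOn_inv k (isCoh_quotMod k K) (dim_support_quot_curve hK2) hL hDI hLD] at key
    omega
  obtain ⟨σ, hσ0, hσ⟩ := AVAmple.exists_divisor_section_ne_zero D hDc hL hLD
  have hσU : AmpleX.locus σ = U := by
    refine Opens.ext (Set.ext fun x => ?_)
    have h := hσ x
    rw [show H23.TrivBasic.locus σ = AmpleX.locus σ from by
      rw [H23.TrivBasic.locus, AmpleX.genLocus_eq_locus, InvX.one_ofSect]] at h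
    rw [SetLike.mem_coe, SetLike.mem_coe, h, ← SetLike.mem_coe, hDs, Set.mem_compl_iff, not_not, SetLike.mem_coe]
  exact isAmple_of_growth k hdim hL (fun Z i _ hiZ hZ => isAmple_of_curves k hL hdeg Z i hZ) hσ0
    (exists_growth_affine k hL hσU hg₀ hg₀q)

end Groth.Agent.SurfInt
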