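import Groth.Agent.SurfInt.Positive

/-! Configurations of curves with negative definite intersection matrix. -/

noncomputable section

set_option linter.style.haveILetI false
set_option linter.unusedSectionVars false
set_option backward.isDefEq.respectTransparency false
set_option backward.isDefEq.respectTransparency.types false

universe u

open CategoryTheory CategoryTheory.Limits AlgebraicGeometry TopologicalSpace Opposite

namespace Groth.Agent.SurfInt

open Groth.Agent

section Algebra

variable {ι : Type*} [Fintype ι] (G : ι → ι → ℤ)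

/-- The bilinear form of an integer matrix. -/
def mform (a b : ι → ℤ) : ℤ := ∑ i, ∑ j, a i * b j * G i j

theorem mform_sub_left (a a' b : ι → ℤ) : mform G (a - a') b = mform G a b - mform G a' b := by
  simp only [mform, Pi.sub_apply, ← Finset.sum_sub_distrib]
  exact Finset.sum_congr rfl fun i _ => Finset.sum_congr rfl fun j _ => by ring

theorem mform_nonneg_of_disjoint (hG : ∀ i j, i ≠ j → 0 ≤ G i j) {a b : ι → ℤ} (ha : ∀ i, 0 ≤ a i)
    (hb : ∀ i, 0 ≤ b i) (hab : ∀ i, a i * b i = 0) : 0 ≤ mform G a b := by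
  refine Finset.sum_nonneg fun i _ => Finset.sum_nonneg fun j _ => ?_
  rcases eq_or_ne i j with rfl | h
  · rw [hab i, zero_mul]
  · exact mul_nonneg (mul_nonneg (ha i) (hb j)) (hG i j h)

theorem mform_eq_zero_of_row {a b : ι → ℤ} (h : ∀ j, ∑ i, a i * G i j = 0) : mform G a b = 0 := by
  rw [mform, Finset.sum_comm]
  refine Finset.sum_eq_zero fun j _ => ?_
  have : ∑ i, a i * b j * G i j = b j * ∑ i, a i * G i j := by
    rw [Finset.mul_sum]; exact Finset.sum_congr rfl fun i _ => by ring
  rw [this, h j, mul_zero]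

/-- Positive part. -/
def pp (a : ι → ℤ) : ι → ℤ := fun i => max (a i) 0

/-- Negative part. -/
def np (a : ι → ℤ) : ι → ℤ := fun i => max (-a i) 0

omit [Fintype ι] in
theorem pp_sub_np (a : ι → ℤ) : pp a - np a = a := funext fun i => by
  simp only [pp, np, Pi.sub_apply]; omega

omit [Fintype ι] in
theorem pp_mul_np (a : ι → ℤ) (i : ι) : pp a i * np a i = 0 := by
  rcases le_total (a i) 0 with h | h
  · rw [show pp a i = 0 from max_eq_right h, zero_mul]
  · rw [show np a i = 0 from max_eq_right (by omega), mul_zero]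

omit [Fintype ι] in
theorem pp_nonneg (a : ι → ℤ) (i : ι) : 0 ≤ pp a i := le_max_right _ _

omit [Fintype ι] in
theorem np_nonneg (a : ι → ℤ) (i : ι) : 0 ≤ np a i := le_max_right _ _

end Algebra

variable (k : Type u) [Field k] {X : Scheme.{u}} [X.Over (Spec (CommRingCat.of k))]
  [IsProper (X ↘ Spec (CommRingCat.of k))] [IsIntegral X]

variable (hdim : topologicalKrullDim X = 2) (hreg : ∀ x : X, IsRegularLocalRing (X.presheaf.stalk x))
  {r : ℕ} (C : Fin r → X.IdealSheafData) (hC : Function.Injective C)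
  (hCi : ∀ i, IsIntegral (C i).subscheme) (hCd : ∀ i, topologicalKrullDim ((C i).support : Set X) = 1)

include hdim hreg hCi hCd

theorem dot_curves_nonneg (hC : Function.Injective C) (i j : Fin r) (h : i ≠ j) :
    0 ≤ dot k (ClSub.idealMod (C i)) (ClSub.idealMod (C j)) := by
  haveI := hCi i
  haveI := hCi j
  exact dot_ideal_nonneg k hdim.le (C i) (hCd i) (isInvertible_curve k hdim hreg (C i) (hCd i))
    (isInvertible_curve k hdim hreg (C j) (hCd j)) (genC_notMem k (hCd i) (hCd j) fun e => h (hC e))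

theorem dot_curve_ample_neg {H : X.Modules} (hH : CohB1.IsAmple H) (i : Fin r) :
    dot k (ClSub.idealMod (C i)) H < 0 := by
  haveI := hCi i
  rw [dot_ideal_left k hdim.le (C i) (isInvertible_curve k hdim hreg (C i) (hCd i)) hH.1]
  have := degOn_ample_pos k (C i) (hCd i) hH
  omega

theorem dot_curve_effCartier_nonneg {F : X.IdealSheafData} (hF : FGA.IsEffCartier F) (i : Fin r)
    (hFC : ¬ ((C i).support : Set X) ⊆ (F.support : Set X)) :
    0 ≤ dot k (ClSub.idealMod (C i)) (ClSub.idealMod F) := by
  haveI := hCi i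
  exact dot_ideal_nonneg k hdim.le (C i) (hCd i) (isInvertible_curve k hdim hreg (C i) (hCd i))
    (isInvertible_of_effCartier hF) fun h => hFC ((support_subset_iff (C i) (Z := F.support)).2 h)

theorem sum_mul_dot_neg {H : X.Modules} (hH : CohB1.IsAmple H) {b : Fin r → ℤ} (hb : ∀ i, 0 ≤ b i) (hb0 : b ≠ 0) :
    ∑ i, b i * dot k (ClSub.idealMod (C i)) H < 0 := by
  obtain ⟨i₀, hi₀⟩ := Function.ne_iff.1 hb0
  refine Finset.sum_neg' (fun i _ => mul_nonpos_of_nonneg_of_nonpos (hb i)
    (dot_curve_ample_neg k hdim hreg C hCi hCd hH i).le) ⟨i₀, Finset.mem_univ _, ?_⟩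
  exact mul_neg_of_pos_of_neg (lt_of_le_of_ne (hb i₀) (Ne.symm hi₀)) (dot_curve_ample_neg k hdim hreg C hCi hCd hH i₀)

end Groth.Agent.SurfInt
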