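import Groth.Agent.SurfInt.BigNef
import Groth.Agent.SurfInt.NegDef
import Groth.Agent.SurfInt.AffComplMain

/-! Hodge-index consequences on regular proper surfaces: nef classes, numerical connectedness. -/

noncomputable section

set_option linter.style.haveILetI false
set_option linter.unusedSectionVars false
set_option backward.isDefEq.respectTransparency false
set_option backward.isDefEq.respectTransparency.types false

universe u

open CategoryTheory CategoryTheory.Limits AlgebraicGeometry TopologicalSpace Opposite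

namespace Groth.Agent.SurfInt

open Groth.Agent

variable (k : Type u) [Field k] {X : Scheme.{u}} [X.Over (Spec (CommRingCat.of k))]
  [IsProper (X ↘ Spec (CommRingCat.of k))] [IsIntegral X] (hdim : topologicalKrullDim X = 2)
  (hreg : ∀ x : X, IsRegularLocalRing (X.presheaf.stalk x))

include k hdim hreg

/-- A regular proper surface has an ample module. -/
theorem exists_ample : ∃ H : X.Modules, CohB1.IsAmple H := by
  obtain ⟨U, hU, hη, -⟩ := exists_isAffineOpen_mem_and_subset
    (X := X) (x := genericPoint X) (U := ⊤) trivial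
  obtain ⟨I, hI, -, h⟩ := exists_ample_compl_affine k hdim hreg hU ⟨_, hη⟩
  obtain ⟨L, hL, e⟩ := H23.PicInv.exists_inverse (isInvertible_of_effCartier hI)
  exact ⟨L, h L hL (isInverseOf_comm e)⟩

/-- A module of non-negative degree on every curve has non-negative square. -/
theorem dot_self_nonneg_of_nef {N : X.Modules} (hN : PicF.IsInvertible N)
    (h : ∀ C : X.IdealSheafData, IsIntegral C.subscheme → topologicalKrullDim (C.support : Set X) = 1 →
      0 ≤ degOn k (ClSub.quotMod C) N) : 0 ≤ dot k N N := by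
  have hd := hdim.le
  obtain ⟨H, hH⟩ := exists_ample k hdim hreg
  have eff : ∀ L : X.Modules, PicF.IsInvertible L → ∀ s : Coh.structureModule X ⟶ L, s ≠ 0 →
      0 ≤ dot k L N := fun L hL s hs => by
    rw [dot_section_eq k hd hL hN s hs]
    exact degOn_nonneg_of_curves k hN h (isCoh_quotMod k _)
      (dim_support_quotMod (dim_support_effCartier k hdim (isInverseOf_zeroScheme hL s hs).1))
  have pos : ∀ L : X.Modules, PicF.IsInvertible L → 0 < dot k L H → 0 < dot k L L → 0 ≤ dot k L N := by
    intro L hL h1 h2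
    obtain ⟨n, hn⟩ := exists_sections_of_pos k hdim hL hH h1 h2
    obtain ⟨s, hs⟩ := exists_section_ne_zero (hn (n + 1) (Nat.le_succ n))
    have := eff _ (H23.PicMul.isInvertible_tensorPow hL (n + 1)) s hs
    rw [dot_tensorPow_left k hd hL hN] at this
    exact nonneg_of_mul_nonneg_right this (by exact_mod_cast n.succ_pos)
  have hhh := dot_self_pos_of_isAmple k hdim hH
  have hp := pos H hH.1 hhh hhh
  by_contra hneg
  push Not at hneg
  set a := dot k N N
  set p := dot k H N
  set hh := dot k H H
  obtain ⟨W, hW, hW'⟩ := exists_comb k hd hN hH.1 (2 * p + 1) (-2 * a)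
  have e1 : dot k W H = (2 * p + 1) * p + -2 * a * hh := by rw [hW' H hH.1, dot_comm k hd hN hH.1]
  have e2 : dot k W N = (2 * p + 1) * a + -2 * a * p := hW' N hN
  have e3 : dot k W W = (2 * p + 1) * dot k W N + -2 * a * dot k W H := by
    rw [hW' W hW, dot_comm k hd hN hW, dot_comm k hd hH.1 hW]
  have h1 : 0 < dot k W H := by rw [e1]; nlinarith
  have h2 : 0 < dot k W W := by
    rw [e3, e1, e2]
    nlinarith [mul_le_mul_of_nonneg_left (show 1 ≤ -a by omega) (show 0 ≤ -a by omega),
      mul_le_mul_of_nonneg_left (show 1 ≤ hh by omega) (mul_self_nonneg a),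
      mul_nonneg (neg_nonneg.2 hneg.le) (mul_self_nonneg p)]
  have := pos W hW h1 h2
  rw [e2] at this
  linarith

/-- A non-trivial effective divisor has negative ideal degree against an ample module. -/
theorem dot_ideal_ample_neg {F : X.IdealSheafData} (hF : FGA.IsEffCartier F) (hne : F ≠ ⊤) {H : X.Modules}
    (hH : CohB1.IsAmple H) : dot k (ClSub.idealMod F) H < 0 := by
  rw [dot_ideal_left k hdim.le F (isInvertible_of_effCartier hF) hH.1, Left.neg_neg_iff]
  exact degOn_effCartier_ample_pos k hdim hF hne hH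

/-- Numerically positive divisors are numerically connected. -/
theorem dot_pos_of_numPos {D D₁ D₂ : X.IdealSheafData} (hD : FGA.IsEffCartier D)
    (hD₁ : FGA.IsEffCartier D₁) (hD₂ : FGA.IsEffCartier D₂) (hne₁ : D₁ ≠ ⊤) (hne₂ : D₂ ≠ ⊤)
    (hsum : D = D₁ * D₂) (hpos : 0 < dot k (ClSub.idealMod D) (ClSub.idealMod D))
    (hnef : ∀ C : X.IdealSheafData, IsIntegral C.subscheme → topologicalKrullDim (C.support : Set X) = 1 →
      degOn k (ClSub.quotMod C) (ClSub.idealMod D) ≤ 0) :
    0 < dot k (ClSub.idealMod D₁) (ClSub.idealMod D₂) := by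
  have hd := hdim.le
  obtain ⟨H, hH⟩ := exists_ample k hdim hreg
  have i0 := isInvertible_of_effCartier hD
  have i1 := isInvertible_of_effCartier hD₁
  have i2 := isInvertible_of_effCartier hD₂
  obtain ⟨L, hL, e⟩ := H23.PicInv.exists_inverse i0
  have split : ∀ A : X.Modules, PicF.IsInvertible A → dot k A (ClSub.idealMod D) =
      dot k A (ClSub.idealMod D₁) + dot k A (ClSub.idealMod D₂) := fun A hA => by
    rw [hsum]; exact dot_idealMod_mul k hd hA hD₁ hD₂
  have nn : ∀ F : X.IdealSheafData, FGA.IsEffCartier F → 0 ≤ dot k (ClSub.idealMod F) (ClSub.idealMod D) := by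
    intro F hF
    have hFd : topologicalKrullDim (CohB1.support (ClSub.quotMod F)) ≤ 1 :=
      dim_support_quotMod (dim_support_effCartier k hdim hF)
    have h1 : 0 ≤ degOn k (ClSub.quotMod F) L :=
      degOn_nonneg_of_curves k hL (fun C hC hC1 => by
        rw [degOn_inv k (isCoh_quotMod k C) (dim_support_quot_curve hC1) i0 hL e]
        have := hnef C hC hC1
        omega) (isCoh_quotMod k F) hFd
    rw [degOn_inv k (isCoh_quotMod k F) hFd i0 hL e] at h1
    rw [dot_ideal_left k hd F (isInvertible_of_effCartier hF) i0]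
    omega
  have h1 := nn D₁ hD₁
  have h2 := nn D₂ hD₂
  rw [split _ i1] at h1
  rw [split _ i2, dot_comm k hd i2 i1] at h2
  rw [split _ i0, dot_comm k hd i0 i1, dot_comm k hd i0 i2, split _ i1, split _ i2, dot_comm k hd i2 i1] at hpos
  set a := dot k (ClSub.idealMod D₁) (ClSub.idealMod D₁)
  set b := dot k (ClSub.idealMod D₂) (ClSub.idealMod D₂)
  set c := dot k (ClSub.idealMod D₁) (ClSub.idealMod D₂)
  by_contra hc
  push Not at hc
  obtain ⟨M, hM, hM'⟩ := exists_comb k hd i1 i2 (c + b) (-(a + c))
  have m1 : dot k M (ClSub.idealMod D₁) = (c + b) * a + -(a + c) * c := by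
    rw [hM' _ i1, dot_comm k hd i2 i1]
  have m2 : dot k M (ClSub.idealMod D₂) = (c + b) * c + -(a + c) * b := hM' _ i2
  have hPM : dot k (ClSub.idealMod D) M = 0 := by
    rw [dot_comm k hd i0 hM, split M hM, m1, m2]
    ring
  have hpos' : 0 < dot k (ClSub.idealMod D) (ClSub.idealMod D) := by
    rw [split _ i0, dot_comm k hd i0 i1, dot_comm k hd i0 i2, split _ i1, split _ i2, dot_comm k hd i2 i1]
    exact hpos
  obtain ⟨hMM, heq⟩ := index_theorem k hdim i0 hM hH hpos' hPM
  have m3 : dot k M M = (a + 2 * c + b) * (a * b - c * c) := by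
    rw [hM' M hM, dot_comm k hd i1 hM, dot_comm k hd i2 hM, m1, m2]
    ring
  have hdet : a * b - c * c = 0 := by
    rcases lt_trichotomy (a * b - c * c) 0 with h | h | h
    · nlinarith [mul_le_mul_of_nonneg_left (show -c ≤ a by omega) (show 0 ≤ -c by omega),
        mul_le_mul_of_nonneg_left (show -c ≤ b by omega) (show 0 ≤ a by omega)]
    · exact h
    · rw [m3] at hMM
      nlinarith [mul_pos (show 0 < a + 2 * c + b by omega) h]
  have hMH := heq (by rw [m3, hdet, mul_zero]) H hH.1
  rw [hM' H hH.1] at hMH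
  have hA := dot_ideal_ample_neg k hdim hreg hD₁ hne₁ hH
  have hB := dot_ideal_ample_neg k hdim hreg hD₂ hne₂ hH
  have hc0 : c = 0 := by
    by_contra hc'
    have e1 : 0 ≤ (a + c) * b := mul_nonneg h1 (by omega)
    have e2 : 0 ≤ -c * (c + b) := mul_nonneg (by omega) (by omega)
    have e3 : (a + c) * b = 0 := by linarith
    have e4 : -c * (c + b) = 0 := by linarith
    rcases mul_eq_zero.1 e3 with h | h <;> rcases mul_eq_zero.1 e4 with h' | h' <;> omega
  rcases mul_eq_zero.1 (show a * b = 0 by rw [hc0] at hdet; linarith) with h | h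
  · rw [h, hc0] at hMH
    have : b * dot k (ClSub.idealMod D₁) H = 0 := by linarith
    rcases mul_eq_zero.1 this with h' | h' <;> omega
  · rw [h, hc0] at hMH
    have : a * dot k (ClSub.idealMod D₂) H = 0 := by linarith
    rcases mul_eq_zero.1 this with h' | h' <;> omega

/-- A nef module orthogonal to a class of positive square is numerically trivial. -/
theorem degOn_eq_zero_of_nef_orth {D N : X.Modules} (hD : PicF.IsInvertible D) (hN : PicF.IsInvertible N)
    (hD2 : 0 < dot k D D) (hDN : dot k D N = 0)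
    (h : ∀ C : X.IdealSheafData, IsIntegral C.subscheme → topologicalKrullDim (C.support : Set X) = 1 →
      0 ≤ degOn k (ClSub.quotMod C) N)
    (C : X.IdealSheafData) (hC : IsIntegral C.subscheme) (hC1 : topologicalKrullDim (C.support : Set X) = 1) :
    degOn k (ClSub.quotMod C) N = 0 := by
  haveI := hC
  obtain ⟨H, hH⟩ := exists_ample k hdim hreg
  obtain ⟨hle, heq⟩ := index_theorem k hdim hD hN hH hD2 hDN
  have hI := isInvertible_curve k hdim hreg C hC1
  have h1 := heq (le_antisymm hle (dot_self_nonneg_of_nef k hdim hreg hN h)) _ hI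
  rw [dot_comm k hdim.le hN hI, dot_ideal_left k hdim.le C hI hN] at h1
  omega

/-- Negative definite curves are exactly the curves orthogonal to a suitable nef and big module. -/
theorem exists_nef_big_orth {r : ℕ} (C : Fin r → X.IdealSheafData) (hC : Function.Injective C)
    (hCi : ∀ i, IsIntegral (C i).subscheme) (hCd : ∀ i, topologicalKrullDim ((C i).support : Set X) = 1)
    (hneg : ∀ a : Fin r → ℤ, a ≠ 0 →
      ∑ i, ∑ j, a i * a j * dot k (ClSub.idealMod (C i)) (ClSub.idealMod (C j)) < 0) :
    ∃ L : X.Modules, PicF.IsInvertible L ∧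
      (∀ D : X.IdealSheafData, IsIntegral D.subscheme → topologicalKrullDim (D.support : Set X) = 1 →
        0 ≤ degOn k (ClSub.quotMod D) L) ∧ 0 < dot k L L ∧
      ∀ D : X.IdealSheafData, IsIntegral D.subscheme → topologicalKrullDim (D.support : Set X) = 1 →
        (degOn k (ClSub.quotMod D) L = 0 ↔ ∃ i, D = C i) := by
  classical
  have hd := hdim.le
  obtain ⟨H, hH⟩ := exists_ample k hdim hreg
  haveI := hCi
  have hCc := fun i => isEffCartier_curve k hdim hreg (C i) (hCd i)
  have hCI := fun i => isInvertible_curve k hdim hreg (C i) (hCd i)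
  set M : Matrix (Fin r) (Fin r) ℤ := fun i j => dot k (ClSub.idealMod (C i)) (ClSub.idealMod (C j)) with hM
  set s : Fin r → ℤ := fun i => degOn k (ClSub.quotMod (C i)) H with hs
  have hspos : ∀ i, 0 < s i := fun i => by
    have := dot_ideal_ample_neg k hdim hreg (hCc i) (fun h => by
      have hm := genC_mem (C i)
      have hb : ((C i).support : Set X) = ∅ := by simp [h]
      exact absurd hm (by rw [hb]; exact Set.notMem_empty _)) hH
    rw [dot_ideal_left k hd _ (hCI i) hH.1] at this
    exact Left.neg_neg_iff.1 this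
  have hdet : M.det ≠ 0 := fun h => by
    obtain ⟨v, hv, hv'⟩ := Matrix.exists_mulVec_eq_zero_iff.2 h
    have := hneg v hv
    have h0 : ∑ i, ∑ j, v i * v j * dot k (ClSub.idealMod (C i)) (ClSub.idealMod (C j)) = 0 :=
      Finset.sum_eq_zero fun i _ => by
        have h3 : ∑ j, M i j * v j = 0 := congrFun hv' i
        rw [← mul_zero (v i), ← h3, Finset.mul_sum]
        exact Finset.sum_congr rfl fun j _ => by rw [hM]; ring
    omega
  obtain ⟨m, hm, b, hb⟩ : ∃ m : ℕ, 0 < m ∧ ∃ b : Fin r → ℤ, ∀ i, ∑ l, M i l * b l = -((m : ℤ) * s i) := by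
    refine ⟨M.det.natAbs, Int.natAbs_pos.2 hdet, (-M.det.sign) • M.cramer s, fun i => ?_⟩
    have h3 : ∑ l, M i l * M.cramer s l = M.det * s i := congrFun (Matrix.mulVec_cramer M s) i
    calc ∑ l, M i l * ((-M.det.sign) • M.cramer s) l
        = -M.det.sign * ∑ l, M i l * M.cramer s l := by
          rw [Finset.mul_sum]; exact Finset.sum_congr rfl fun l _ => by simp only [Pi.smul_apply, smul_eq_mul]; ring
      _ = -(M.det.sign * M.det * s i) := by rw [h3]; ring
      _ = _ := by rw [Int.sign_mul_self_eq_natAbs]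
  have hbnn : ∀ i, 0 ≤ b i := by
    by_contra hcon
    push Not at hcon
    obtain ⟨i₀, hi₀⟩ := hcon
    have hn0 : np b ≠ 0 := fun h => by
      have := congrFun h i₀
      simp only [np, Pi.zero_apply] at this
      omega
    have h1 : ∑ i, ∑ j, np b i * np b j * M i j < 0 := hneg (np b) hn0
    have h2 : ∑ i, ∑ l, np b i * (pp b l - np b l) * M i l ≤ 0 := Finset.sum_nonpos fun i _ => by
      have h3 : ∑ l, np b i * (pp b l - np b l) * M i l = np b i * -((m : ℤ) * s i) := by
        rw [← hb i, Finset.mul_sum]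
        exact Finset.sum_congr rfl fun l _ => by
          rw [show pp b l - np b l = b l from congrFun (pp_sub_np b) l]; ring
      rw [h3]
      exact mul_nonpos_of_nonneg_of_nonpos (np_nonneg b i)
        (neg_nonpos.2 (mul_nonneg (Nat.cast_nonneg m) (hspos i).le))
    have h4 : 0 ≤ ∑ i, ∑ l, np b i * pp b l * M i l := Finset.sum_nonneg fun i _ => Finset.sum_nonneg fun l _ => by
      by_cases hil : i = l
      · subst hil
        rw [mul_comm (np b i), pp_mul_np, zero_mul]
      · exact mul_nonneg (mul_nonneg (np_nonneg b i) (pp_nonneg b l))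
          (dot_ideal_nonneg k hd (C i) (hCd i) (hCI i) (hCI l) (genC_notMem k (hCd i) (hCd l) fun e => hil (hC e)))
    simp only [mul_sub, sub_mul, Finset.sum_sub_distrib] at h2
    omega
  lift b to Fin r → ℕ using hbnn
  set F := ∏ i, C i ^ b i with hF
  have hFc : FGA.IsEffCartier F := isEffCartier_prod _ _ fun i _ => isEffCartier_pow (hCc i) _
  have hFI := isInvertible_of_effCartier hFc
  obtain ⟨P, hP, eP⟩ := H23.PicInv.exists_inverse hFI
  have hHm := H23.PicMul.isInvertible_tensorPow hH.1 m
  set L := CohB1.tensorMod (CohB1.tensorPow H m) P with hLdef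
  have hL : PicF.IsInvertible L := H23.PicMul.isInvertible_tensor hHm hP
  have deg : ∀ D : X.IdealSheafData, ∀ hD : IsIntegral D.subscheme, topologicalKrullDim (D.support : Set X) = 1 →
      degOn k (ClSub.quotMod D) L = m * degOn k (ClSub.quotMod D) H +
        ∑ l, (b l : ℤ) * dot k (ClSub.idealMod D) (ClSub.idealMod (C l)) := by
    intro D hD hD1
    haveI := hD
    have hDI := isInvertible_curve k hdim hreg D hD1
    have hDd := dim_support_quot_curve hD1
    rw [hLdef, degOn_tensor k (isCoh_quotMod k D) hDd hHm hP, degOn_tensorPow k (isCoh_quotMod k D) hDd hH.1,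
      degOn_inv k (isCoh_quotMod k D) hDd hFI hP eP, ← dot_idealMod_prod k hd hDI Finset.univ C hCc b, ← hF,
      dot_ideal_left k hd D hDI hFI]
  have degC : ∀ i, degOn k (ClSub.quotMod (C i)) L = 0 := fun i => by
    rw [deg (C i) (hCi i) (hCd i)]
    have h := hb i
    have h5 : ∑ l, (b l : ℤ) * dot k (ClSub.idealMod (C i)) (ClSub.idealMod (C l)) = ∑ l, M i l * (b l : ℤ) :=
      Finset.sum_congr rfl fun l _ => mul_comm _ _
    rw [h5, h]
    ring
  have degD : ∀ D : X.IdealSheafData, IsIntegral D.subscheme → topologicalKrullDim (D.support : Set X) = 1 →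
      (¬ ∃ i, D = C i) → 0 < degOn k (ClSub.quotMod D) L := by
    intro D hD hD1 hne
    haveI := hD
    rw [deg D hD hD1]
    have hDI := isInvertible_curve k hdim hreg D hD1
    refine add_pos_of_pos_of_nonneg (mul_pos (by exact_mod_cast hm) ?_) (Finset.sum_nonneg fun l _ =>
      mul_nonneg (Nat.cast_nonneg _) (dot_ideal_nonneg k hd D hD1 hDI (hCI l)
        (genC_notMem k hD1 (hCd l) fun e => hne ⟨l, e⟩)))
    exact degOn_ample_pos k D hD1 hH
  refine ⟨L, hL, fun D hD hD1 => ?_, ?_, fun D hD hD1 => ⟨fun h0 => ?_, ?_⟩⟩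
  · by_cases h : ∃ i, D = C i
    · obtain ⟨i, rfl⟩ := h; rw [degC]
    · exact (degD D hD hD1 h).le
  · have key : ∀ A, PicF.IsInvertible A → dot k L A = m * dot k H A +
        ∑ l, (b l : ℤ) * degOn k (ClSub.quotMod (C l)) A := by
      intro A hA
      rw [hLdef, dot_tensor_left k hd hHm hP hA, dot_tensorPow_left k hd hH.1 hA,
        dot_inv_left k hd hFI hP hA eP, dot_comm k hd hFI hA, hF, dot_idealMod_prod k hd hA Finset.univ C hCc b,
        ← Finset.sum_neg_distrib]
      refine congrArg _ (Finset.sum_congr rfl fun l _ => ?_)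
      rw [dot_comm k hd hA (hCI l), dot_ideal_left k hd _ (hCI l) hA]
      ring
    rw [key L hL, Finset.sum_eq_zero (fun l _ => by rw [degC l, mul_zero]), add_zero, dot_comm k hd hH.1 hL,
      key H hH.1]
    have hmz : (0 : ℤ) < m := by exact_mod_cast hm
    exact mul_pos hmz (add_pos_of_pos_of_nonneg (mul_pos hmz (dot_self_pos_of_isAmple k hdim hH))
      (Finset.sum_nonneg fun l _ => mul_nonneg (Nat.cast_nonneg _) (hspos l).le))
  · by_contra h
    exact (degD D hD hD1 h).ne' h0
  · rintro ⟨i, rfl⟩
    exact degC i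

end Groth.Agent.SurfInt
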