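import Groth.Agent.SurfInt.Surface
import Groth.Agent.QCoh.FlatBC
import Groth.Agent.FibDim.BaseField
import Groth.Agent.PicClLib.Basic
import Groth.Agent.ZeroSchX.Basic

/-! Euler characteristics and intersection numbers under extension of the base field. -/

noncomputable section

set_option linter.style.haveILetI false
set_option linter.unusedSectionVars false
set_option backward.isDefEq.respectTransparency false
set_option backward.isDefEq.respectTransparency.types false

universe u

open CategoryTheory CategoryTheory.Limits AlgebraicGeometry TopologicalSpace Opposite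

namespace Groth.Agent.SurfInt

open Groth.Agent
open scoped Groth.Agent.H23.PicMul

variable (k : Type u) [Field k] (K : Type u) [Field K] [Algebra k K]
  {X X' : Scheme.{u}} [X.Over (Spec (CommRingCat.of k))] [X'.Over (Spec (CommRingCat.of K))]
  [IsProper (X ↘ Spec (CommRingCat.of k))] (g : X' ⟶ X)
  (h : IsPullback g (X' ↘ Spec (CommRingCat.of K)) (X ↘ Spec (CommRingCat.of k))
    (Spec.map (CommRingCat.ofHom (algebraMap k K))))

include h

include k in
theorem isProper_bc : IsProper (X' ↘ Spec (CommRingCat.of K)) := MorphismProperty.of_isPullback h inferInstance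

theorem dim_bc : topologicalKrullDim X' = topologicalKrullDim X := by
  haveI := isProper_bc k K g h
  exact FibDim.topologicalKrullDim_baseChange (q := X' ↘ Spec (CommRingCat.of K)) h

theorem finrank_bc {F : X.Modules} (hF : Coh.IsQCoh F) (n : ℕ) :
    Module.finrank K (Coh.HH X' ((Scheme.Modules.pullback g).obj F) n) = Module.finrank k (Coh.HH X F n) := by
  haveI := noeth k (X := X)
  obtain ⟨e⟩ := QCoh.HH_flatBaseChange (A := k) (B := K) (φ := g) h hF n
  exact e.finrank_eq.symm.trans (Module.finrank_baseChange ..)

theorem euler_bc {F : X.Modules} (hF : Coh.IsQCoh F) :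
    Curv2.euler K X' ((Scheme.Modules.pullback g).obj F) = Curv2.euler k X F := by
  unfold Curv2.euler
  exact finsum_congr fun n => by rw [finrank_bc k K g h hF n]

theorem subsingleton_bc_iff {F : X.Modules} (hF : Coh.IsCoh F) (n : ℕ) :
    Subsingleton (Coh.HH X' ((Scheme.Modules.pullback g).obj F) n) ↔ Subsingleton (Coh.HH X F n) := by
  haveI := noeth k (X := X)
  haveI := CurveCohLib.finite_HH (k := k) hF n
  obtain ⟨e⟩ := QCoh.HH_flatBaseChange (A := k) (B := K) (φ := g) h hF.1 n
  haveI : Module.Finite K (Coh.HH X' ((Scheme.Modules.pullback g).obj F) n) := Module.Finite.equiv e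
  rw [← Module.finrank_zero_iff (R := K), ← Module.finrank_zero_iff (R := k), finrank_bc k K g h hF.1 n]

theorem euler_structure_bc :
    Curv2.euler K X' (Coh.structureModule X') = Curv2.euler k X (Coh.structureModule X) := by
  rw [← euler_bc k K g h QCoh.isQCoh_structureModule]
  exact (CurveCohLib.euler_congr (k := K) (PicClLib.nonempty_pullback_structureModule g).some).symm

theorem dot_bc (hd : topologicalKrullDim X ≤ 2) {A B : X.Modules} (hA : PicF.IsInvertible A) (hB : PicF.IsInvertible B) :
    dot K ((Scheme.Modules.pullback g).obj A) ((Scheme.Modules.pullback g).obj B) = dot k A B := by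
  haveI := isProper_bc k K g h
  have hAB := H23.PicMul.isInvertible_tensor hA hB
  have e : Nonempty (CohB1.tensorMod ((Scheme.Modules.pullback g).obj A) ((Scheme.Modules.pullback g).obj B) ≅
      (Scheme.Modules.pullback g).obj (CohB1.tensorMod A B)) :=
    H23.PicMul.cl_eq_iff.1 (H23.PicMul.pullCl_mul g (PicF.cl A) (PicF.cl B)).symm
  rw [dot_eq K (le_of_eq_of_le (dim_bc k K g h) hd) (PicClLib.isInvertible_pullback g hA)
      (PicClLib.isInvertible_pullback g hB), dot_eq k hd hA hB, euler_structure_bc k K g h,
    euler_bc k K g h (ZeroSchX.isQCoh_inv hA), euler_bc k K g h (ZeroSchX.isQCoh_inv hB),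
    CurveCohLib.euler_congr (k := K) e.some, euler_bc k K g h (ZeroSchX.isQCoh_inv hAB)]

end Groth.Agent.SurfInt
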