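import Groth.Agent.SurfInt.Curves
import Groth.Agent.AmpleVan.Uniform
import Groth.Agent.QCoh.Devissage
import Groth.Agent.AlgSpLib.CartierDepth

/-! Effective divisors on a proper surface: positivity against ample modules. -/

noncomputable section

set_option linter.style.haveILetI false
set_option linter.unusedSectionVars false
set_option backward.isDefEq.respectTransparency false
set_option backward.isDefEq.respectTransparency.types false

universe u

open CategoryTheory CategoryTheory.Limits AlgebraicGeometry TopologicalSpace Opposite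

namespace Groth.Agent.SurfInt

open Groth.Agent

variable (k : Type u) [Field k] {X : Scheme.{u}} [X.Over (Spec (CommRingCat.of k))]
  [IsProper (X ↘ Spec (CommRingCat.of k))]

theorem euler_tensorPow_linear {F H : X.Modules} (hF : Coh.IsCoh F)
    (hd : topologicalKrullDim (CohB1.support F) ≤ 1) (hH : PicF.IsInvertible H) (n : ℕ) :
    Curv2.euler k X (CohB1.tensorMod F (CohB1.tensorPow H n)) = Curv2.euler k X F + n * degOn k F H := by
  have h := degOn_tensorPow k hF hd hH n
  rw [degOn] at h
  omega

/-- An ample module has non-negative degree on every sheaf of dimension at most one. -/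
theorem degOn_ample_nonneg {F H : X.Modules} (hF : Coh.IsCoh F)
    (hd : topologicalKrullDim (CohB1.support F) ≤ 1) (hH : CohB1.IsAmple H) : 0 ≤ degOn k F H := by
  obtain ⟨N, hN⟩ := AmpleVan.exists_vanishing (A := k) hH hF
  by_contra hneg
  let n := max N ((Curv2.euler k X F).toNat + 1)
  have h1 : 0 ≤ Curv2.euler k X (CohB1.tensorMod F (CohB1.tensorPow H n)) := by
    rw [Euler.euler_eq_sum k _ 1 fun i hi => ?_]
    · simp
    · obtain ⟨q, rfl⟩ : ∃ q, i = q + 1 := ⟨i - 1, by omega⟩
      exact hN n (le_max_left _ _) q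
  rw [euler_tensorPow_linear k hF hd hH.1] at h1
  have h2 : (Curv2.euler k X F).toNat + 1 ≤ n := le_max_right _ _
  have h3 : Curv2.euler k X F < n := by omega
  have h4 : (n : ℤ) * degOn k F H ≤ -(n : ℤ) := by
    have : degOn k F H ≤ -1 := by omega
    nlinarith
  omega

omit [IsProper (X ↘ Spec (CommRingCat.of k))] in
theorem exists_factor_unitMap {W Z : Scheme.{u}} (g : W ⟶ Z) (i : Z ⟶ X) (j : W ⟶ X) (h : g ≫ i = j) :
    ∃ q : (Scheme.Modules.pushforward i).obj (Coh.structureModule Z) ⟶
        (Scheme.Modules.pushforward j).obj (Coh.structureModule W), StMod.unitMap i ≫ q = StMod.unitMap j := by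
  subst h
  exact ⟨(Scheme.Modules.pushforward i).map (StMod.unitMap g) ≫
    (Scheme.Modules.pushforwardComp g i).hom.app (Coh.structureModule W), (StMod.unitMap_comp g i).symm⟩

omit [IsProper (X ↘ Spec (CommRingCat.of k))] in
theorem exists_quotMod_epi {F C : X.IdealSheafData} (h : F ≤ C) :
    ∃ q : ClSub.quotMod F ⟶ ClSub.quotMod C, Epi q ∧ ClSub.toSubscheme F ≫ q = ClSub.toSubscheme C := by
  obtain ⟨q, e⟩ := exists_factor_unitMap (Scheme.IdealSheafData.inclusion h) F.subschemeι C.subschemeι
    (Scheme.IdealSheafData.inclusion_subschemeι h)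
  haveI : Epi (ClSub.toSubscheme F ≫ q) := by
    have hc : Epi (ClSub.toSubscheme C) := (shortExact_ideal C).epi_g
    rw [← (show ClSub.toSubscheme F ≫ q = ClSub.toSubscheme C from e)] at hc
    exact hc
  exact ⟨q, epi_of_epi (ClSub.toSubscheme F) q, e⟩

variable [IsIntegral X] (hdim : topologicalKrullDim X = 2)

include hdim

include k in
theorem dim_support_effCartier {F : X.IdealSheafData} (hF : BlowUp.IsEffCartierIdeal F) :
    topologicalKrullDim (F.support : Set X) ≤ 1 := by
  rw [VarDim.topologicalKrullDim_set_eq_iSup_deg (X ↘ Spec (CommRingCat.of k)) F.support.isClosed]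
  refine iSup_le fun z => ?_
  have hgen := VarDim.topologicalKrullDim_eq_deg_genericPoint (X ↘ Spec (CommRingCat.of k))
  rw [hdim] at hgen
  have h2 : VarDim.deg (X ↘ Spec (CommRingCat.of k)) (genericPoint X) = 2 := by
    have h := WithBot.coe_injective (hgen.symm.trans (rfl : (2 : WithBot ℕ∞) = ((2 : ℕ∞) : WithBot ℕ∞)))
    exact_mod_cast h
  have hne : z.1 ≠ genericPoint X := fun h => ParShLib.genericPoint_notMem_support F hF (h ▸ z.2)
  have hlt : z.1 < genericPoint X := lt_iff_le_not_ge.2 ⟨genericPoint_specializes _, fun h' =>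
    hne ((genericPoint_specializes z.1).antisymm h').eq.symm⟩
  have := VarDim.deg_strictMono (X ↘ Spec (CommRingCat.of k)) hlt
  exact_mod_cast (show VarDim.deg (X ↘ Spec (CommRingCat.of k)) z.1 ≤ 1 by omega)

include k in
/-- A non-trivial effective divisor on a surface contains a curve. -/
theorem exists_curve_le {F : X.IdealSheafData} (hF : BlowUp.IsEffCartierIdeal F) (hne : F ≠ ⊤) :
    ∃ C : X.IdealSheafData, IsIntegral C.subscheme ∧ topologicalKrullDim (C.support : Set X) = 1 ∧ F ≤ C := by
  haveI := noeth k (X := X)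
  let f := X ↘ Spec (CommRingCat.of k)
  have hgen := VarDim.topologicalKrullDim_eq_deg_genericPoint f
  rw [hdim] at hgen
  have h2 : VarDim.deg f (genericPoint X) = 2 := by
    have h := WithBot.coe_injective (hgen.symm.trans (rfl : (2 : WithBot ℕ∞) = ((2 : ℕ∞) : WithBot ℕ∞)))
    exact_mod_cast h
  haveI : Nonempty F.subscheme := by
    by_contra hempty
    apply hne
    rw [← Scheme.IdealSheafData.support_eq_bot_iff]
    apply SetLike.coe_injective
    rw [← F.range_subschemeι]
    rw [not_nonempty_iff] at hempty
    exact Set.range_eq_empty _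
  obtain ⟨d₁⟩ := ‹Nonempty F.subscheme›
  obtain ⟨d, hd⟩ := QuasiSober.sober (isIrreducible_irreducibleComponent (x := d₁)) isClosed_irreducibleComponent
  have hmin : ∀ e, e ⤳ d → e = d := fun e he => by
    refine (Specializes.antisymm he ?_).eq
    rw [specializes_iff_mem_closure, hd.def]
    have hsub : irreducibleComponent d₁ ⊆ closure {e} := by
      rw [← hd.def]
      exact closure_minimal (Set.singleton_subset_iff.2 (specializes_iff_mem_closure.1 he)) isClosed_closure
    rw [← eq_irreducibleComponent isIrreducible_singleton.closure.isPreirreducible hsub]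
    exact subset_closure rfl
  obtain ⟨b, hb, ⟨η, hη, hηd⟩, -⟩ := VarDim.exists_deg_add_stalk (F.subschemeι ≫ f) d
  rw [hmin η hη] at hηd
  have hb0 : b = 0 := by omega
  obtain ⟨-, hst⟩ := AlgSpLib.CartierDepth.depth_dim_subscheme hF d
  rw [hb, hb0, Nat.cast_zero, zero_add] at hst
  obtain ⟨c, hc, ⟨η', -, hη'⟩, hle⟩ := VarDim.exists_deg_add_stalk f (F.subschemeι d)
  rw [← hst] at hc
  have hc1 : c = 1 := by exact_mod_cast hc.symm
  have h1 := hle (genericPoint X) (genericPoint_specializes _)
  have h3 : VarDim.deg f η' ≤ 2 := h2 ▸ VarDim.deg_le_of_specializes _ (genericPoint_specializes η')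
  have hdeg : VarDim.deg f (F.subschemeι d) = 1 := by omega
  refine ⟨Scheme.IdealSheafData.vanishingIdeal (Closeds.closure {F.subschemeι d}),
    QCoh.isIntegral_closure_point _, ?_, ?_⟩
  · have : ((Scheme.IdealSheafData.vanishingIdeal (Closeds.closure {F.subschemeι d})).support : Set X) =
        closure {F.subschemeι d} := by rw [← Scheme.IdealSheafData.range_subschemeι]; exact H23.RedSub.range_vanishingIdeal _
    rw [this, VarDim.topologicalKrullDim_closure_singleton f, hdeg]
    rfl
  · refine Scheme.IdealSheafData.le_support_iff_le_vanishingIdeal.1 ?_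
    show closure {F.subschemeι d} ⊆ (F.support : Set X)
    exact closure_minimal (Set.singleton_subset_iff.2 (by rw [← F.range_subschemeι]; exact ⟨d, rfl⟩))
      F.support.isClosed

/-- An ample module has positive degree on a non-trivial effective divisor. -/
theorem degOn_effCartier_ample_pos {F : X.IdealSheafData} (hF : BlowUp.IsEffCartierIdeal F) (hne : F ≠ ⊤)
    {H : X.Modules} (hH : CohB1.IsAmple H) : 0 < degOn k (ClSub.quotMod F) H := by
  haveI := noeth k (X := X)
  obtain ⟨C, hCi, hC, hle⟩ := exists_curve_le k hdim hF hne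
  haveI := hCi
  obtain ⟨q, hq, -⟩ := exists_quotMod_epi hle
  haveI := hq
  have hK : Coh.IsCoh (kernel q) := QCoh.isCoh_kernel (isCoh_quotMod k F) (isCoh_quotMod k C) _
  have hdK : topologicalKrullDim (CohB1.support (kernel q)) ≤ 1 := by
    refine le_trans (H23.TopDim.dim_le_dim_of_subset ?_) (dim_support_effCartier k hdim hF)
    intro x hx
    by_contra hxF
    refine hx ?_
    have hS := (CurveSlope.shortExact_kernel_of_epi q).map_of_exact (DerSch.stalkFunctor X x)
    exact @Function.Injective.subsingleton _ _ _ ((ModuleCat.mono_iff_injective _).1 hS.mono_f)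
      (ParShLib.subsingleton_stalk_quotMod F hxF)
  have hsum := degOn_add k (S := ShortComplex.mk (kernel.ι q) q (kernel.condition q))
    (CurveSlope.shortExact_kernel_of_epi q) hK (isCoh_quotMod k F) (isCoh_quotMod k C) hH.1
  have h1 : degOn k (ClSub.quotMod F) H = degOn k (kernel q) H + degOn k (ClSub.quotMod C) H := hsum
  have h2 := degOn_ample_nonneg k hK hdK hH
  have h3 := degOn_ample_pos k C hC hH
  omega

end Groth.Agent.SurfInt
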