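import Groth.Agent.SurfInt.Divisor
import Groth.Agent.CurveEmbed.Pow
import Groth.Agent.Lib.CurveSpecial
import Groth.Agent.GeomField.GlobalFunctions

/-! Sections of invertible modules on integral proper schemes. -/

noncomputable section

set_option linter.style.haveILetI false
set_option linter.unusedSectionVars false
set_option backward.isDefEq.respectTransparency false
set_option backward.isDefEq.respectTransparency.types false

universe u

open CategoryTheory CategoryTheory.Limits AlgebraicGeometry TopologicalSpace Opposite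

namespace Groth.Agent.SurfInt

open Groth.Agent
open scoped Groth.Agent.H23.PicMul

variable {X : Scheme.{u}}

theorem exists_section_ne_zero {F : X.Modules} (h : Nontrivial (Coh.HH X F 0)) :
    ∃ s : Coh.structureModule X ⟶ F, s ≠ 0 := by
  obtain ⟨t, ht⟩ := exists_ne (0 : Coh.HH X F 0)
  exact ⟨CurveSpecial.homOfClass t, CurveSpecial.homOfClass_ne_zero ht⟩

theorem isInvertible_of_isInverse {A B : X.Modules} (hA : PicF.IsInvertible A) (h : ClSub.IsInverseOf A B) :
    PicF.IsInvertible B := by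
  obtain ⟨D, hD, e⟩ := H23.PicInv.exists_inverse hA
  have h1 : PicF.cl A * PicF.cl B = 1 := H23.PicMul.cl_eq_iff.2 h
  have h2 : PicF.cl A * PicF.cl D = 1 := H23.PicMul.cl_eq_iff.2 e
  obtain ⟨e'⟩ := H23.PicMul.cl_eq_iff.1 ((H23.PicMul.isUnit_cl hA).mul_left_cancel (h2.trans h1.symm))
  exact H23.PicMul.isInvertible_of_iso e' hD

theorem isInverseOf_comm {A B : X.Modules} (h : ClSub.IsInverseOf A B) : ClSub.IsInverseOf B A :=
  H23.PicMul.cl_eq_iff.1 (by rw [H23.PicMul.cl_tensor, mul_comm, ← H23.PicMul.cl_tensor]; exact H23.PicMul.cl_eq_iff.2 h)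

variable [IsIntegral X]

theorem exists_tensor_section {A B : X.Modules} (hA : PicF.IsInvertible A) (hB : PicF.IsInvertible B)
    (s : Coh.structureModule X ⟶ A) (hs : s ≠ 0) (t : Coh.structureModule X ⟶ B) (ht : t ≠ 0) :
    ∃ r : Coh.structureModule X ⟶ CohB1.tensorMod A B, r ≠ 0 := by
  let σ : Γ(B, ⊤) := t.app ⊤ (show Γ(Coh.structureModule X, ⊤) from (1 : Γ(X, ⊤)))
  have hσ : σ ≠ 0 := fun h => ht (AmpleX.eq_zero_of_one_eq_zero t h)
  refine ⟨s ≫ AmpleVan.mulSec σ A, fun h => hs ?_⟩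
  have hm := CurveEmbed.mulSec_ne_zero hB hA hσ
  haveI : Mono (AmpleVan.mulSec σ A) :=
    InvEnd.mono_of_ne_zero hA (InvX.isInvertible_tensorMod hA hB) _ hm
  exact (cancel_mono (AmpleVan.mulSec σ A)).1 (h.trans zero_comp.symm)

theorem exists_tensorPow_section {A : X.Modules} (hA : PicF.IsInvertible A)
    (s : Coh.structureModule X ⟶ A) (hs : s ≠ 0) :
    ∀ n : ℕ, ∃ r : Coh.structureModule X ⟶ CohB1.tensorPow A n, r ≠ 0
  | 0 => ⟨𝟙 _, fun h => hs (by rw [← Category.id_comp s, show 𝟙 (Coh.structureModule X) = 0 from h, zero_comp])⟩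
  | n + 1 => by
    obtain ⟨r, hr⟩ := exists_tensorPow_section hA s hs n
    exact exists_tensor_section (H23.PicMul.isInvertible_tensorPow hA n) hA r hr s hs

/-- An invertible module with a section whose inverse has a section is trivial. -/
theorem nonempty_iso_of_sections (hfield : IsField (Γ(X, ⊤) : Type u)) {A B : X.Modules}
    (hA : PicF.IsInvertible A) (hB : PicF.IsInvertible B) (hAB : ClSub.IsInverseOf A B)
    (s : Coh.structureModule X ⟶ A) (hs : s ≠ 0) (t : Coh.structureModule X ⟶ B) (ht : t ≠ 0) :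
    Nonempty (A ≅ Coh.structureModule X) := by
  obtain ⟨e⟩ := hAB
  let σ : Γ(B, ⊤) := t.app ⊤ (show Γ(Coh.structureModule X, ⊤) from (1 : Γ(X, ⊤)))
  have hσ : σ ≠ 0 := fun h => ht (AmpleX.eq_zero_of_one_eq_zero t h)
  have hm := CurveEmbed.mulSec_ne_zero hB hA hσ
  haveI : Mono (AmpleVan.mulSec σ A) :=
    InvEnd.mono_of_ne_zero hA (InvX.isInvertible_tensorMod hA hB) _ hm
  haveI : IsIso (s ≫ AmpleVan.mulSec σ A ≫ e.hom) := by
    letI := hfield.toField
    refine H23.ModLoc.isIso_of_isUnit_coeff _ (Ne.isUnit fun h0 => hs ?_)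
    have h1 : s ≫ AmpleVan.mulSec σ A ≫ e.hom = 0 :=
      H23.ModLoc.coeff_injective (h0.trans H23.ModLoc.coeff_zero.symm)
    rw [← cancel_mono (AmpleVan.mulSec σ A ≫ e.hom), h1, zero_comp]
  haveI : IsSplitEpi (AmpleVan.mulSec σ A ≫ e.hom) :=
    IsSplitEpi.mk' ⟨inv (s ≫ AmpleVan.mulSec σ A ≫ e.hom) ≫ s, by simp⟩
  haveI := isIso_of_mono_of_isSplitEpi (AmpleVan.mulSec σ A ≫ e.hom)
  exact ⟨asIso (AmpleVan.mulSec σ A ≫ e.hom)⟩

theorem isAmple_pullback_O1 {Y : Scheme.{u}} {A : Type u} [CommRing A] {n : ℕ}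
    (i : Y ⟶ CohB1.ProjSpace n A) [IsClosedImmersion i] :
    CohB1.IsAmple ((Scheme.Modules.pullback i).obj (Twist.twistProjSpace n A 1)) := by
  classical
  let T := Finset.image (fun j : Fin (n + 1) => (MvPolynomial.X j : MvPolynomial (Fin (n + 1)) A)) Finset.univ
  have hT : CohB1.IsAmple (Twist.twist (CohB1.polyGrading n A) 1) := by
    refine AmpleX.isAmple_twist_one (CohB1.polyGrading n A) T (fun f hf => ?_) (top_le_iff.1 fun y _ => ?_)
    · obtain ⟨j, -, rfl⟩ := Finset.mem_image.1 hf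
      exact ProjPt.X_mem j
    · obtain ⟨j, hj⟩ := ProjUPX.cov_X y
      exact Opens.mem_iSup.2 ⟨⟨_, Finset.mem_image.2 ⟨j, Finset.mem_univ _, rfl⟩⟩, hj⟩
  haveI : CompactSpace (CohB1.ProjSpace n A) := hT.2.1
  haveI : CompactSpace Y := i.isClosedEmbedding.compactSpace
  exact AmpleVan.isAmple_pullback_of_isEmbedding i i.isClosedEmbedding.isEmbedding hT

variable (k : Type u) [Field k] [X.Over (Spec (CommRingCat.of k))] [IsProper (X ↘ Spec (CommRingCat.of k))]

include k in
/-- Pairing an invertible module having a non-zero section is the degree on its divisor of zeros. -/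
theorem dot_section_eq (hd : topologicalKrullDim X ≤ 2) {L M : X.Modules} (hL : PicF.IsInvertible L)
    (hM : PicF.IsInvertible M) (s : Coh.structureModule X ⟶ L) (hs : s ≠ 0) :
    dot k L M = degOn k (ClSub.quotMod (PicF2.zeroScheme L s)) M := by
  obtain ⟨hc, hi⟩ := isInverseOf_zeroScheme hL s hs
  have hI := (S8914.result _).2 hc
  have h1 := dot_inv_left k hd hL hI hM hi
  have h2 := dot_ideal_left k hd (PicF2.zeroScheme L s) hI hM
  omega

theorem nonempty_iso_of_zeroScheme_eq_top {L : X.Modules} (hL : PicF.IsInvertible L)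
    (s : Coh.structureModule X ⟶ L) (hs : s ≠ 0) (h : PicF2.zeroScheme L s = ⊤) :
    Nonempty (L ≅ Coh.structureModule X) := by
  obtain ⟨-, hi⟩ := isInverseOf_zeroScheme hL s hs
  rw [h] at hi
  haveI : IsIso (ClSub.idealModι (⊤ : X.IdealSheafData)) :=
    KFlatLib.isIso_of_stalk _ fun x => isIso_stalk_idealModι ⊤ (by simp)
  exact H23.PicMul.cl_eq_iff.1 (by
    have h1 : PicF.cl L * PicF.cl (ClSub.idealMod (⊤ : X.IdealSheafData)) = 1 := H23.PicMul.cl_eq_iff.2 hi
    rwa [H23.PicMul.cl_eq_iff.2 ⟨asIso (ClSub.idealModι (⊤ : X.IdealSheafData))⟩, ← H23.PicMul.one_def,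
      mul_one] at h1)

end Groth.Agent.SurfInt
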