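import Groth.Agent.SurfInt.GenCurve
import Groth.Agent.SurfInt.GenBC
import Groth.Agent.SurfInt.Sections
import Groth.Agent.SurfInt.Positive
import Groth.Agent.AmpleX.Generated
import Groth.Agent.Lib.CurveVanish
import Groth.Agent.CurveCohLib.Nonspecial

/-! Vanishing of second cohomology and the index theorem on a projective surface. -/

noncomputable section

set_option linter.style.haveILetI false
set_option linter.unusedSectionVars false
set_option backward.isDefEq.respectTransparency false
set_option backward.isDefEq.respectTransparency.types false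

universe u

open CategoryTheory CategoryTheory.Limits AlgebraicGeometry TopologicalSpace Opposite

namespace Groth.Agent.SurfInt

open Groth.Agent
open scoped Groth.Agent.H23.PicMul

theorem ofSect_one' {X : Scheme.{u}} {M : X.Modules} (s : Coh.structureModule X ⟶ M) :
    InvX.ofSect (InvX.one s) = s := by
  refine sub_eq_zero.1 (AmpleX.eq_zero_of_one_eq_zero _ ?_)
  show InvX.one (InvX.ofSect (InvX.one s)) - InvX.one s = 0
  rw [InvX.one_ofSect, sub_self]

theorem zeroScheme_ne_top {X : Scheme.{u}} {G : X.Modules} (hG : PicF.IsInvertible G)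
    (s : Coh.structureModule X ⟶ G) (h : CohB1.genLocus G s ≠ ⊤) : PicF2.zeroScheme G s ≠ ⊤ := by
  intro htop
  refine h (eq_top_iff.2 fun x _ => ?_)
  obtain ⟨W, hxW, f, hf⟩ := InvX.exists_frame hG x
  obtain ⟨V, hV, hxV, hVW⟩ := exists_isAffineOpen_mem_and_subset (X := X) (U := W) hxW
  obtain ⟨c, hc⟩ := (hf.res hVW).exists_coord le_rfl (ZeroSchX.sv s V)
  rw [AModX.res_self] at hc
  have hid := ZeroSchX.ideal_zeroScheme hG s ⟨V, hV⟩
  rw [ZeroSchX.zeroIdealOn_eq_span s (hf.res hVW) hc, htop] at hid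
  have hu : IsUnit c := Ideal.span_singleton_eq_top.1 (hid.symm.trans (by rfl))
  refine InvX.le_genLocus s ?_ hxV
  have h1 := (hf.res hVW).isUnit_smul hu
  rw [← hc] at h1
  have h2 : AModX.res G (le_top : V ≤ ⊤) (InvX.one s) = ZeroSchX.sv s V := ZeroSchX.res_sv s le_top
  rw [h2]
  exact h1

variable (k : Type u) [Field k] {X : Scheme.{u}} [X.Over (Spec (CommRingCat.of k))]
  [IsProper (X ↘ Spec (CommRingCat.of k))]

/-- Twisting the sequence of a closed subscheme. -/
theorem subsingleton_H2_step (C : X.IdealSheafData) {M N : X.Modules} (hM : PicF.IsInvertible M)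
    (hN : PicF.cl M * PicF.cl (ClSub.idealMod C) = PicF.cl N)
    (h1 : Subsingleton (Coh.HH X (CohB1.tensorMod M (ClSub.quotMod C)) 1))
    (h2 : Subsingleton (Coh.HH X M 2)) : Subsingleton (Coh.HH X N 2) := by
  have hS := CurveTensor.shortExact_tensor (E := M) (H23.PullPush.isFinLocFree_of_isInvertible hM) _ _ _
    (shortExact_ideal C)
  have h := CurveVanish.subsingleton_HH_X₁ hS 1 ?_ h1
  · obtain ⟨e⟩ := (H23.PicMul.cl_eq_iff (A := CohB1.tensorMod M (ClSub.idealMod C)) (B := N)).1
      (by rw [H23.PicMul.cl_tensor, hN])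
    exact QCoh.subsingleton_HH_of_iso e 2 h
  · obtain ⟨e⟩ := H23.PicMul.unit M
    exact QCoh.subsingleton_HH_of_iso e.symm 2 h2

/-- Line bundles of large degree on an integral curve in `X` have no `H¹`. -/
theorem exists_h1_bound (C : X.IdealSheafData) [IsIntegral C.subscheme]
    (hC : topologicalKrullDim (C.support : Set X) = 1) :
    ∃ n₁ : ℤ, ∀ M : X.Modules, PicF.IsInvertible M → n₁ ≤ degOn k (ClSub.quotMod C) M →
      Subsingleton (Coh.HH X (CohB1.tensorMod M (ClSub.quotMod C)) 1) := by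
  letI := overComp k C.subschemeι
  haveI := isProper_comp k C.subschemeι rfl
  haveI := noeth k (X := C.subscheme)
  refine ⟨(Curv2.genus k C.subscheme : ℤ) - Curv2.euler k C.subscheme (Coh.structureModule C.subscheme),
    fun M hM hdeg => ?_⟩
  have hMi := PicClLib.isInvertible_pullback C.subschemeι hM
  have hMc := CurveDeg.isCoh_of_isInvertible hMi
  have hd : topologicalKrullDim C.subscheme = 1 := (dim_subscheme C).trans hC
  rw [show degOn k (ClSub.quotMod C) M = _ from degOn_push k C.subschemeι rfl hM, Curv2.deg] at hdeg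
  have h := CurveCohLib.Nonspecial.h1_of_euler k hd hMc
    (fun φ hφ => CurveCohLib.Nonspecial.section_of_sub k hMc hMi (𝟙 _) φ hφ) (by simp at hdeg; omega)
  haveI := KFlatLib.isIso_projMod_of_isClosedImmersion C.subschemeι (Coh.structureModule C.subscheme) M
  obtain ⟨ec⟩ := H23.PicMul.comm M (ClSub.quotMod C)
  refine QCoh.subsingleton_HH_of_iso (ec ≪≫ asIso (KFlatLib.projMod C.subschemeι (Coh.structureModule C.subscheme) M) ≪≫
    (Scheme.Modules.pushforward C.subschemeι).mapIso (CurveTensor.structureTensorIso _)).symm 1 ?_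
  obtain ⟨e⟩ := QCoh.HH_push_linear C.subschemeι (Coh.toGlobal (X ↘ Spec (CommRingCat.of k)))
    (Coh.toGlobal (C.subscheme ↘ Spec (CommRingCat.of k))) (fun a => rfl) hMc.1 1
  haveI := h
  exact e.toEquiv.symm.subsingleton

variable [IsIntegral X] (hdim : topologicalKrullDim X = 2)

include hdim

/-- An ample module has a power `G` of positive square generated by sections with affine loci. -/
theorem exists_power {H : X.Modules} (hH : CohB1.IsAmple H) :
    ∃ (a : ℕ) (_ : 0 < a) (κ : Type u) (_ : Fintype κ) (σ : κ → Γ(CohB1.tensorPow H a, ⊤)),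
      (∀ j, IsAffineOpen (H23.TrivBasic.locus (σ j))) ∧ (∀ x, ∃ j, x ∈ H23.TrivBasic.locus (σ j)) ∧
      0 < dot k (CohB1.tensorPow H a) (CohB1.tensorPow H a) := by
  haveI := noeth k (X := X)
  haveI : X.IsSeparated := ⟨by
    rw [← Limits.terminal.comp_from (X ↘ Spec (CommRingCat.of k))]
    infer_instance⟩
  obtain ⟨a, ha, κ, hκ, σ, haff, -, hcov⟩ := AmpleX.exists_cover_genLocus hH
  have he : ∀ j, H23.TrivBasic.locus (InvX.one (σ j)) = CohB1.genLocus _ (σ j) := fun j => by
    show CohB1.genLocus _ (InvX.ofSect (InvX.one (σ j))) = _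
    rw [ofSect_one']
  refine ⟨a, ha, κ, hκ, fun j => InvX.one (σ j), fun j => (he j).symm ▸ haff j,
    fun x => (hcov x).imp fun j hj => (he j).symm ▸ hj, ?_⟩
  have hA := AmpleX.isAmple_tensorPow hH ha
  obtain ⟨j, hj⟩ := hcov (genericPoint X)
  have hne : CohB1.genLocus _ (σ j) ≠ ⊤ := fun htop => by
    haveI : IsAffine ((⊤ : X.Opens) : Scheme.{u}) := htop ▸ haff j
    haveI : IsAffine X := IsAffine.of_isIso X.topIso.inv
    have := dim_zero_of_affine_proper k (X ↘ Spec (CommRingCat.of k))
    rw [hdim] at this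
    exact absurd this (by decide)
  have hs : σ j ≠ 0 := fun h0 => by
    obtain ⟨W, hW, hfr⟩ := InvX.mem_genLocus hj
    rw [h0] at hfr
    have hz : (AModX.res (CohB1.tensorPow H a) (le_top : W ≤ ⊤) (InvX.one (0 : Coh.structureModule X ⟶ CohB1.tensorPow H a))) = 0 :=
      map_zero _
    rw [hz] at hfr
    haveI : Nonempty W := ⟨⟨_, hW⟩⟩
    exact one_ne_zero (hfr.coord_unique le_rfl (r := (1 : Γ(X, W))) (r' := 0) (by simp))
  rw [dot_section_eq k hdim.le hA.1 hA.1 (σ j) hs]
  exact degOn_effCartier_ample_pos k hdim (isInverseOf_zeroScheme hA.1 (σ j) hs).1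
    (zeroScheme_ne_top hA.1 (σ j) hne) hA

/-- `H²` vanishes on modules of large degree against an ample module. -/
theorem exists_bound_h2 {H : X.Modules} (hH : CohB1.IsAmple H) :
    ∃ n₀ : ℤ, ∀ L : X.Modules, PicF.IsInvertible L → n₀ < dot k L H → Subsingleton (Coh.HH X L 2) := by
  classical
  haveI := noeth k (X := X)
  obtain ⟨a, ha, κ, hκ, σ, haff, hcov, hsq⟩ := exists_power k hdim hH
  have hA := AmpleX.isAmple_tensorPow hH ha
  let K := FractionRing (MvPolynomial κ k)
  let X' := pullback (X ↘ Spec (CommRingCat.of k)) (Spec.map (CommRingCat.ofHom (algebraMap k K)))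
  letI : X'.Over (Spec (CommRingCat.of K)) := ⟨pullback.snd _ _⟩
  let g : X' ⟶ X := pullback.fst _ _
  have hpb : IsPullback g (X' ↘ Spec (CommRingCat.of K)) (X ↘ Spec (CommRingCat.of k))
      (Spec.map (CommRingCat.ofHom (algebraMap k K))) := IsPullback.of_hasPullback _ _
  haveI := isProper_bc k K g hpb
  obtain ⟨hint, hex⟩ := generic_member (k := k) (κ := κ) (X ↘ Spec (CommRingCat.of k))
    (X' ↘ Spec (CommRingCat.of K)) g hpb hA.1 σ haff hcov
  haveI := hint
  have hdim' : topologicalKrullDim X' = 2 := (dim_bc k K g hpb).trans hdim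
  set G' := (Scheme.Modules.pullback g).obj (CohB1.tensorPow H a) with hG'def
  obtain ⟨s, hs, hC⟩ := hex
  have hG' : PicF.IsInvertible G' := PicClLib.isInvertible_pullback g hA.1
  have hsq' : 0 < dot K G' G' := (dot_bc k K g hpb hdim.le hA.1 hA.1).symm ▸ hsq
  obtain ⟨hcar, hinv⟩ := isInverseOf_zeroScheme hG' s hs
  set C := PicF2.zeroScheme G' s
  have hI := (S8914.result C).2 hcar
  have hne : C ≠ ⊤ := fun htop => by
    obtain ⟨e⟩ := nonempty_iso_of_zeroScheme_eq_top hG' s hs htop
    rw [dot_congr K hdim'.le hG' hG' e (Iso.refl G'), dot_one_left K hdim'.le hG'] at hsq'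
    exact lt_irrefl _ hsq'
  obtain ⟨C', -, hC', hle⟩ := exists_curve_le K hdim' hcar hne
  have hC1 : topologicalKrullDim (C.support : Set X') = 1 :=
    le_antisymm (dim_support_effCartier K hdim' hcar) (hC'.ge.trans
      (H23.TopDim.dim_le_dim_of_subset (Scheme.IdealSheafData.support_antitone hle)))
  haveI : IsIntegral C.subscheme := hC.resolve_left fun hemp => hne (by
    rw [← Scheme.IdealSheafData.support_eq_bot_iff]
    apply SetLike.coe_injective
    rw [← C.range_subschemeι]
    haveI := hemp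
    exact Set.range_eq_empty _)
  obtain ⟨n₁, hn₁⟩ := exists_h1_bound K C hC1
  refine ⟨|n₁|, fun L hL hlt => (subsingleton_bc_iff k K g hpb (CurveDeg.isCoh_of_isInvertible hL) 2).1 ?_⟩
  set L' := (Scheme.Modules.pullback g).obj L
  have hL' : PicF.IsInvertible L' := PicClLib.isInvertible_pullback g hL
  obtain ⟨d₀, hvan⟩ := AmpleVan.exists_vanishing (A := k) hA (CurveDeg.isCoh_of_isInvertible hL)
  let M : ℕ → X'.Modules := fun j => CohB1.tensorMod L' (CohB1.tensorPow G' j)
  have hM : ∀ j, PicF.IsInvertible (M j) := fun j =>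
    H23.PicMul.isInvertible_tensor hL' (H23.PicMul.isInvertible_tensorPow hG' j)
  have hcl : ∀ j, PicF.cl (M j) = PicF.cl L' * PicF.cl G' ^ j := fun j => by
    rw [H23.PicMul.cl_tensor, H23.PicMul.cl_tensorPow]
  have hdeg : ∀ j, n₁ ≤ degOn K (ClSub.quotMod C) (M j) := fun j => by
    rw [← dot_section_eq K hdim'.le hG' (hM j) s hs, dot_tensor_right K hdim'.le hL'
      (H23.PicMul.isInvertible_tensorPow hG' j) hG',
      dot_comm K hdim'.le hG' (H23.PicMul.isInvertible_tensorPow hG' j),
      dot_tensorPow_left K hdim'.le hG' hG', dot_bc k K g hpb hdim.le hA.1 hL,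
      dot_tensorPow_left k hdim.le hH.1 hL, dot_comm k hdim.le hH.1 hL]
    have h0 : (0 : ℤ) ≤ j * dot K G' G' := mul_nonneg (Int.natCast_nonneg _) hsq'.le
    have h1 : dot k L H ≤ a * dot k L H := le_mul_of_one_le_left ((abs_nonneg n₁).trans hlt.le) (by exact_mod_cast ha)
    have h2 := le_abs_self n₁
    linarith
  have htop : Subsingleton (Coh.HH X' (M (d₀ + 1)) 2) := by
    obtain ⟨e⟩ : Nonempty ((Scheme.Modules.pullback g).obj
        (CohB1.tensorMod L (CohB1.tensorPow (CohB1.tensorPow H a) (d₀ + 1))) ≅ M (d₀ + 1)) := H23.PicMul.cl_eq_iff.1 (by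
      rw [hcl]
      show PicF.pullCl g (PicF.cl L * PicF.cl (CohB1.tensorPow (CohB1.tensorPow H a) (d₀ + 1))) = _
      rw [H23.PicMul.pullCl_mul, H23.PicMul.cl_tensorPow, H23.PicMul.pullCl_pow]
      rfl)
    exact QCoh.subsingleton_HH_of_iso e 2 ((subsingleton_bc_iff k K g hpb (CurveDeg.isCoh_of_isInvertible
      (H23.PicMul.isInvertible_tensor hL (H23.PicMul.isInvertible_tensorPow hA.1 _))) 2).2
        (hvan _ (Nat.le_succ d₀) 1))
  have hdown : ∀ i, i ≤ d₀ + 1 → Subsingleton (Coh.HH X' (M (d₀ + 1 - i)) 2) := by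
    intro i
    induction i with
    | zero => exact fun _ => htop
    | succ i ih =>
      intro hi
      refine subsingleton_H2_step C (hM (d₀ + 1 - i)) ?_ (hn₁ _ (hM _) (hdeg _)) (ih (by omega))
      rw [hcl, hcl, show d₀ + 1 - i = d₀ + 1 - (i + 1) + 1 by omega, pow_succ, mul_assoc, mul_assoc,
        H23.PicMul.cl_eq_iff.2 hinv |> (show PicF.cl G' * PicF.cl (ClSub.idealMod C) = 1 from ·), mul_one]
  have h0 := hdown (d₀ + 1) le_rfl
  rw [Nat.sub_self] at h0
  obtain ⟨e⟩ := H23.PicMul.unit L'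
  exact QCoh.subsingleton_HH_of_iso e 2 h0

omit [IsIntegral X] hdim in
/-- Integral combinations of two invertible modules. -/
theorem exists_comb (hd : topologicalKrullDim X ≤ 2) {A B : X.Modules} (hA : PicF.IsInvertible A) (hB : PicF.IsInvertible B)
    (x y : ℤ) : ∃ W : X.Modules, PicF.IsInvertible W ∧
      ∀ N : X.Modules, PicF.IsInvertible N → dot k W N = x * dot k A N + y * dot k B N := by
  have key : ∀ {C : X.Modules}, PicF.IsInvertible C → ∀ z : ℤ, ∃ W : X.Modules, PicF.IsInvertible W ∧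
      ∀ N : X.Modules, PicF.IsInvertible N → dot k W N = z * dot k C N := by
    intro C hC z
    rcases z.eq_nat_or_neg with ⟨n, rfl | rfl⟩
    · exact ⟨_, H23.PicMul.isInvertible_tensorPow hC n, fun N hN => dot_tensorPow_left k hd hC hN n⟩
    · obtain ⟨D, hD, e⟩ := H23.PicInv.exists_inverse hC
      exact ⟨_, H23.PicMul.isInvertible_tensorPow hD n, fun N hN => by
        rw [dot_tensorPow_left k hd hD hN n, dot_inv_left k hd hC hD hN e]; ring⟩
  obtain ⟨U, hU, hU'⟩ := key hA x
  obtain ⟨V, hV, hV'⟩ := key hB y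
  exact ⟨_, H23.PicMul.isInvertible_tensor hU hV, fun N hN => by
    rw [dot_tensor_left k hd hU hV hN, hU' N hN, hV' N hN]⟩

/-- An ample module has positive square. -/
theorem dot_self_pos_of_isAmple {H : X.Modules} (hH : CohB1.IsAmple H) : 0 < dot k H H := by
  obtain ⟨a, ha, κ, hκ, σ, -, -, hsq⟩ := exists_power k hdim hH
  have hi := H23.PicMul.isInvertible_tensorPow hH.1 a
  rw [dot_tensorPow_left k hdim.le hH.1 hi, dot_comm k hdim.le hH.1 hi, dot_tensorPow_left k hdim.le hH.1 hH.1,
    ← mul_assoc] at hsq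
  exact pos_of_mul_pos_right hsq (by positivity)

/-- A module with a non-zero section pairs non-negatively with ample modules. -/
theorem dot_section_nonneg {L A : X.Modules} (hL : PicF.IsInvertible L) (hA : CohB1.IsAmple A)
    (s : Coh.structureModule X ⟶ L) (hs : s ≠ 0) : 0 ≤ dot k L A := by
  rw [dot_section_eq k hdim.le hL hA.1 s hs]
  exact degOn_ample_nonneg k (isCoh_quotMod k _)
    (dim_support_quotMod (dim_support_effCartier k hdim (isInverseOf_zeroScheme hL s hs).1)) hA

/-- High powers of a module of positive square and positive degree have sections. -/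
theorem exists_sections_of_pos {L H : X.Modules} (hL : PicF.IsInvertible L) (hH : CohB1.IsAmple H)
    (hLH : 0 < dot k L H) (hLL : 0 < dot k L L) :
    ∃ N : ℕ, ∀ n : ℕ, N ≤ n → Nontrivial (Coh.HH X (CohB1.tensorPow L n) 0) := by
  haveI := noeth k (X := X)
  haveI : X.IsSeparated := ⟨by
    rw [← Limits.terminal.comp_from (X ↘ Spec (CommRingCat.of k))]
    infer_instance⟩
  obtain ⟨n₀, hn₀⟩ := exists_bound_h2 k hdim hH
  set b := 2 * (Curv2.euler k X L - Curv2.euler k X (Coh.structureModule X)) - dot k L L with hb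
  set c := 2 * Curv2.euler k X (Coh.structureModule X) with hc
  refine ⟨n₀.toNat + b.natAbs + c.natAbs + 1, fun n hn => ?_⟩
  have hP := H23.PicMul.isInvertible_tensorPow hL n
  have h2 : Subsingleton (Coh.HH X (CohB1.tensorPow L n) 2) := hn₀ _ hP (by
    rw [dot_tensorPow_left k hdim.le hL hH.1]
    have h1 : (n : ℤ) * 1 ≤ n * dot k L H := mul_le_mul_of_nonneg_left hLH (by positivity)
    omega)
  haveI := h2
  rw [← not_subsingleton_iff_nontrivial]
  intro h0
  haveI := h0
  have hpos : 0 < 2 * Curv2.euler k X (CohB1.tensorPow L n) := by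
    rw [two_mul_euler_tensorPow k hdim.le hL n, ← hb, ← hc]
    have h1 : (n : ℤ) * n * 1 ≤ n * n * dot k L L := mul_le_mul_of_nonneg_left hLL (by positivity)
    have hbn : (b.natAbs : ℤ) + c.natAbs + 1 ≤ n := by exact_mod_cast (by omega : b.natAbs + c.natAbs + 1 ≤ n)
    have hn1 : (1 : ℤ) ≤ n := le_trans (by simp [add_nonneg]) hbn
    rw [Int.natCast_natAbs, Int.natCast_natAbs] at hbn
    have h3 : (n : ℤ) * (|b| + |c| + 1) ≤ n * n := mul_le_mul_of_nonneg_left hbn (by positivity)
    have h4 : -( (n : ℤ) * |b|) ≤ n * b := by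
      rw [← mul_neg]; exact mul_le_mul_of_nonneg_left (neg_abs_le b) (by positivity)
    have h5 : (1 : ℤ) * (|c| + 1) ≤ n * (|c| + 1) := mul_le_mul_of_nonneg_right hn1 (by positivity)
    nlinarith [neg_abs_le c]
  rw [Euler.euler_eq_sum k _ 3 fun i hi => Snapper.subsingleton_HH_of_dim_le (d := 2) hdim.le
    (ZeroSchX.isQCoh_inv hP) (Nat.lt_of_succ_le hi)] at hpos
  simp only [Finset.sum_range_succ, Finset.sum_range_zero] at hpos
  rw [Module.finrank_zero_of_subsingleton (M := Coh.HH X (CohB1.tensorPow L n) 0),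
    Module.finrank_zero_of_subsingleton (M := Coh.HH X (CohB1.tensorPow L n) 2)] at hpos
  norm_num at hpos
  linarith [Int.natCast_nonneg (Module.finrank k (Coh.HH X (CohB1.tensorPow L n) 1))]

/-- The index theorem against an ample module. -/
theorem dot_self_nonpos_of_dot_ample {L H : X.Modules} (hL : PicF.IsInvertible L) (hH : CohB1.IsAmple H)
    (h : dot k L H = 0) : dot k L L ≤ 0 := by
  haveI := noeth k (X := X)
  haveI : X.IsSeparated := ⟨by
    rw [← Limits.terminal.comp_from (X ↘ Spec (CommRingCat.of k))]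
    infer_instance⟩
  by_contra hpos
  push Not at hpos
  have hHH := dot_self_pos_of_isAmple k hdim hH
  obtain ⟨m, -, hm⟩ := AmpleX.eventually_ample_tensor hH hL
  have hA := (hm m le_rfl).1
  set b : ℤ := m * dot k H H + 1 with hb
  obtain ⟨W, hW, hWd⟩ := exists_comb k hdim.le hL hH.1 (-b) 1
  have hd := hdim.le
  have hWH : dot k W H = dot k H H := by rw [hWd H hH.1, h]; ring
  have hWW : dot k W W = b ^ 2 * dot k L L + dot k H H := by
    rw [hWd W hW, dot_comm k hd hL hW, dot_comm k hd hH.1 hW, hWd L hL, hWd H hH.1, dot_comm k hd hH.1 hL, h]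
    ring
  obtain ⟨N, hN⟩ := exists_sections_of_pos k hdim hW hH (hWH ▸ hHH) (by
    rw [hWW]; nlinarith [sq_nonneg b])
  obtain ⟨s, hs⟩ := exists_section_ne_zero (hN (N + 1) (Nat.le_succ N))
  have h1 := dot_section_nonneg k hdim (H23.PicMul.isInvertible_tensorPow hW (N + 1)) hA s hs
  rw [dot_tensorPow_left k hd hW hA.1, dot_tensor_right k hd (H23.PicMul.isInvertible_tensorPow hH.1 m) hL hW,
    dot_comm k hd hW (H23.PicMul.isInvertible_tensorPow hH.1 m), dot_tensorPow_left k hd hH.1 hW,
    dot_comm k hd hH.1 hW, hWH, hWd L hL, dot_comm k hd hH.1 hL, h] at h1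
  have h2 : 0 ≤ (m : ℤ) * dot k H H + (-b * dot k L L + 1 * 0) := (mul_nonneg_iff_of_pos_left (by positivity)).1 h1
  have h3 : b * 1 ≤ b * dot k L L := mul_le_mul_of_nonneg_left hpos (by positivity)
  linarith

/-- The intersection form is negative semi-definite orthogonally to a module of positive square, and
its kernel there consists of the numerically trivial modules. -/
theorem index_theorem {P M H : X.Modules} (hP : PicF.IsInvertible P) (hM : PicF.IsInvertible M)
    (hH : CohB1.IsAmple H) (hPP : 0 < dot k P P) (hPM : dot k P M = 0) :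
    dot k M M ≤ 0 ∧ (dot k M M = 0 → ∀ N : X.Modules, PicF.IsInvertible N → dot k M N = 0) := by
  have hd := hdim.le
  have hp : dot k P H ≠ 0 := fun h0 => by
    have := dot_self_nonpos_of_dot_ample k hdim hP hH h0; omega
  obtain ⟨W, hW, hWd⟩ := exists_comb k hd hM hP (dot k P H) (-(dot k M H))
  have hWH : dot k W H = 0 := by rw [hWd H hH.1]; ring
  have h1 := dot_self_nonpos_of_dot_ample k hdim hW hH hWH
  rw [hWd W hW, dot_comm k hd hM hW, dot_comm k hd hP hW, hWd M hM, hWd P hP, dot_comm k hd hM hP, hPM] at h1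
  have h2 : (dot k P H) ^ 2 * dot k M M + (dot k M H) ^ 2 * dot k P P ≤ 0 := by linarith
  have hp2 : 0 < (dot k P H) ^ 2 := by positivity
  refine ⟨by nlinarith [mul_nonneg (sq_nonneg (dot k M H)) hPP.le], fun h0 N hN => ?_⟩
  rw [h0, mul_zero, zero_add] at h2
  have hm : dot k M H = 0 := by
    by_contra hne
    have : 0 < (dot k M H) ^ 2 := by positivity
    nlinarith
  have hHH := dot_self_pos_of_isAmple k hdim hH
  obtain ⟨V, hV, hVd⟩ := exists_comb k hd hN hH.1 (dot k H H) (-(dot k N H))
  have hVH : dot k V H = 0 := by rw [hVd H hH.1]; ring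
  have hMV : dot k M V = 0 := by
    by_contra hne
    set v := dot k V V
    obtain ⟨T, hT, hTd⟩ := exists_comb k hd hM hV ((1 - v) * dot k M V) 1
    have h3 := dot_self_nonpos_of_dot_ample k hdim hT hH (by rw [hTd H hH.1, hm, hVH]; ring)
    rw [hTd T hT, dot_comm k hd hM hT, dot_comm k hd hV hT, hTd M hM, hTd V hV, dot_comm k hd hV hM, h0] at h3
    have h4 : 0 < (dot k M V) ^ 2 := by positivity
    have h5 : v ≤ 0 := dot_self_nonpos_of_dot_ample k hdim hV hH hVH
    nlinarith
  rw [dot_comm k hd hM hV, hVd M hM, dot_comm k hd hH.1 hM, hm, mul_zero, add_zero, dot_comm k hd hN hM] at hMV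
  exact (mul_eq_zero.1 hMV).resolve_left hHH.ne'

end Groth.Agent.SurfInt
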