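import Groth.Agent.SurfInt.Residual
import Groth.Agent.VBCurvesLib.Dual
import Groth.Agent.CurveCohLib.GlobGen

/-! Stalks of an invertible module restricted to a closed subscheme. -/

noncomputable section

set_option linter.style.haveILetI false
set_option linter.unusedSectionVars false
set_option backward.isDefEq.respectTransparency false
set_option backward.isDefEq.respectTransparency.types false

universe u

open CategoryTheory CategoryTheory.Limits AlgebraicGeometry TopologicalSpace Opposite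
open scoped TensorProduct

namespace Groth.Agent.SurfInt

open Groth.Agent

variable {X : Scheme.{u}} {N : X.Modules} {x : X}

/-- The stalk map of a morphism. -/
abbrev st {F G : X.Modules} (φ : F ⟶ G) (x : X) : F.presheaf.stalk x →ₗ[X.presheaf.stalk x] G.presheaf.stalk x :=
  ((DerSch.stalkFunctor X x).map φ).hom

theorem st_germ {F G : X.Modules} (φ : F ⟶ G) {U : X.Opens} (hx : x ∈ U) (s : Γ(F, U)) :
    st φ x (F.presheaf.germ U x hx s) = G.presheaf.germ U x hx (φ.app U s) :=
  DerSch.stalkFunctor_map_germ x φ U hx s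

theorem st_comp {F G H : X.Modules} (φ : F ⟶ G) (ψ : G ⟶ H) (z : F.presheaf.stalk x) :
    st (φ ≫ ψ) x z = st ψ x (st φ x z) := by
  simp only [st, Functor.map_comp]
  rfl

theorem st_surjective {F G : X.Modules} (φ : F ⟶ G) [Epi φ] : Function.Surjective (st φ x) :=
  (ModuleCat.epi_iff_surjective ((DerSch.stalkFunctor X x).map φ)).1 inferInstance

/-- `z ↦ z ⊗ e` on stalks. -/
def twSt (F : X.Modules) (n : N.presheaf.stalk x) :
    F.presheaf.stalk x →ₗ[X.presheaf.stalk x] (CohB1.tensorMod F N).presheaf.stalk x :=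
  (VBCurvesLib.tensorStalkMap F N x).comp ((TensorProduct.mk _ _ _).flip n)

theorem twSt_germ (F : X.Modules) {U : X.Opens} (hx : x ∈ U) (z : Γ(F, U)) (e : Γ(N, U)) :
    twSt F (N.presheaf.germ U x hx e) (F.presheaf.germ U x hx z) =
      (CohB1.tensorMod F N).presheaf.germ U x hx (InvX.tmul z e) :=
  VBCurvesLib.tensorStalkMap_germ hx z e

theorem twSt_bijective (F : X.Modules) {U : X.Opens} {e : Γ(N, U)} (he : InvX.IsFrame e) (hx : x ∈ U) :
    Function.Bijective (twSt F (N.presheaf.germ U x hx e)) := by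
  let ε := LinearEquiv.ofBijective
    (LinearMap.toSpanSingleton (X.presheaf.stalk x) (N.presheaf.stalk x) (N.presheaf.germ U x hx e))
    (he.germ_bijective hx)
  have h : (twSt F (N.presheaf.germ U x hx e) : _ → _) =
      VBCurvesLib.tensorStalkMap F N x ∘
        ((TensorProduct.rid (X.presheaf.stalk x) (F.presheaf.stalk x)).symm.trans
          (TensorProduct.congr (LinearEquiv.refl _ _) ε)) := by
    funext z
    show VBCurvesLib.tensorStalkMap F N x (z ⊗ₜ _) = VBCurvesLib.tensorStalkMap F N x _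
    congr 1
    rw [LinearEquiv.trans_apply, TensorProduct.rid_symm_apply, TensorProduct.congr_tmul]
    show _ = z ⊗ₜ ((1 : X.presheaf.stalk x) • N.presheaf.germ U x hx e)
    rw [one_smul]
  rw [h]
  exact (VBCurvesLib.tensorStalkMap_bijective F N x).comp (LinearEquiv.bijective _)

theorem st_tw_map {F G : X.Modules} (φ : F ⟶ G) {U : X.Opens} (e : Γ(N, U)) (hx : x ∈ U)
    (z : F.presheaf.stalk x) :
    st ((AmpleVan.tw N).map φ) x (twSt F (N.presheaf.germ U x hx e) z) =
      twSt G (N.presheaf.germ U x hx e) (st φ x z) := by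
  obtain ⟨W, hW, a, rfl⟩ := TopCat.Presheaf.exists_germ_eq F.presheaf z
  let V := W ⊓ U
  have hV : x ∈ V := ⟨hW, hx⟩
  rw [← InvX.germ_res' (inf_le_left : V ≤ W) hV a, ← InvX.germ_res' (inf_le_right : V ≤ U) hV e, twSt_germ,
    st_germ]
  rw [twSt_germ]
  exact (st_germ ((AmpleVan.tw N).map φ) hV _).trans (congrArg _ (AmpleVan.map_tmul_left φ _ _))

/-- A map from `O` is determined by the image of one. -/
theorem st_eq_smul {G : X.Modules} (φ : Coh.structureModule X ⟶ G) (z : (Coh.structureModule X).presheaf.stalk x) :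
    ∃ a : X.presheaf.stalk x, z = a • (Coh.structureModule X).presheaf.germ ⊤ x trivial (1 : Γ(X, ⊤)) ∧
      st φ x z = a • st φ x ((Coh.structureModule X).presheaf.germ ⊤ x trivial (1 : Γ(X, ⊤))) := by
  obtain ⟨a, ha⟩ := ((InvX.isFrame_one (X := X) ⊤).germ_bijective (x := x) trivial).2 z
  exact ⟨a, ha.symm, by rw [← ha]; exact map_smul (st φ x) a _⟩

/-- The germ of one. -/
def oneSt (x : X) : (Coh.structureModule X).presheaf.stalk x :=
  (Coh.structureModule X).presheaf.germ ⊤ x trivial (1 : Γ(X, ⊤))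

theorem exists_coeff {Q : X.Modules} (hN : PicF.IsInvertible N) (p : Coh.structureModule X ⟶ Q) [Epi p]
    (τ : Coh.structureModule X ⟶ (AmpleVan.tw N).obj Q) (x : X) :
    ∃ (U : X.Opens) (hx : x ∈ U) (e : Γ(N, U)) (r : X.presheaf.stalk x), InvX.IsFrame e ∧
      ∀ z, st τ x z = twSt Q (N.presheaf.germ U x hx e) (r • st p x z) := by
  obtain ⟨U, hx, e, he⟩ := InvX.exists_frame hN x
  obtain ⟨z₀, hz₀⟩ := (twSt_bijective Q he hx).2 (st τ x (oneSt x))
  obtain ⟨y, rfl⟩ := st_surjective p z₀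
  obtain ⟨r, -, hr⟩ := st_eq_smul p y
  refine ⟨U, hx, e, r, he, fun z => ?_⟩
  obtain ⟨a, ha, hb⟩ := st_eq_smul τ z
  obtain ⟨a', ha', hb'⟩ := st_eq_smul p z
  have haa : a = a' := ((InvX.isFrame_one (X := X) ⊤).germ_bijective (x := x) trivial).1 (ha.symm.trans ha')
  refine hb.trans (((congrArg (a • ·) hz₀.symm).trans (map_smul _ _ _).symm).trans (congrArg _ ?_))
  rw [hr, hb', haa, smul_comm]

theorem isUnit_coeff {Q R : X.Modules} (p : Coh.structureModule X ⟶ Q) (pC : Coh.structureModule X ⟶ R) [Epi pC]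
    (q : Q ⟶ R) (hq : p ≫ q = pC) (τ : Coh.structureModule X ⟶ (AmpleVan.tw N).obj Q)
    [Epi (τ ≫ (AmpleVan.tw N).map q)] {U : X.Opens} (hx : x ∈ U) {e : Γ(N, U)} (he : InvX.IsFrame e)
    (hR : ¬ Subsingleton (R.presheaf.stalk x)) {r : X.presheaf.stalk x}
    (hτ : ∀ z, st τ x z = twSt Q (N.presheaf.germ U x hx e) (r • st p x z)) : IsUnit r := by
  have huC : st pC x (oneSt x) ≠ 0 := fun h0 => hR (subsingleton_of_forall_eq 0 fun v => by
    obtain ⟨w, rfl⟩ := st_surjective pC v
    obtain ⟨a, -, ha⟩ := st_eq_smul pC w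
    exact ha.trans ((congrArg (a • ·) h0).trans (smul_zero a)))
  have hθ : ∀ z, st (τ ≫ (AmpleVan.tw N).map q) x z =
      twSt R (N.presheaf.germ U x hx e) (r • st pC x z) := fun z => by
    rw [st_comp, hτ, st_tw_map, map_smul, ← st_comp, hq]
  obtain ⟨z, hz⟩ := st_surjective (τ ≫ (AmpleVan.tw N).map q)
    (twSt R (N.presheaf.germ U x hx e) (st pC x (oneSt x)))
  obtain ⟨c, -, hc⟩ := st_eq_smul pC z
  rw [hθ, hc, smul_smul, mul_comm r c] at hz
  have h1 : (c * r) • st pC x (oneSt x) = st pC x (oneSt x) := (twSt_bijective R he hx).1 hz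
  by_contra hr
  have h2 : IsUnit (1 - c * r) := IsLocalRing.isUnit_one_sub_self_of_mem_nonunits _
    (fun hu => hr (isUnit_of_mul_isUnit_right hu))
  exact huC ((IsUnit.smul_eq_zero h2).1 (by rw [sub_smul, one_smul, h1, sub_self]))

theorem nonempty_iso_of_coeff {I Q : X.Modules} (hN : PicF.IsInvertible N) (ι : I ⟶ Coh.structureModule X)
    (p : Coh.structureModule X ⟶ Q) (w : ι ≫ p = 0) (hS : (ShortComplex.mk ι p w).ShortExact)
    (τ : Coh.structureModule X ⟶ (AmpleVan.tw N).obj Q)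
    (h : ∀ (x : X) (U : X.Opens) (hx : x ∈ U) (e : Γ(N, U)) (r : X.presheaf.stalk x), InvX.IsFrame e →
      (∀ z, st τ x z = twSt Q (N.presheaf.germ U x hx e) (r • st p x z)) →
      IsUnit r ∨ Subsingleton (Q.presheaf.stalk x)) :
    Nonempty ((AmpleVan.tw N).obj Q ≅ Q) := by
  haveI : Epi p := hS.epi_g
  choose U hx e r he hτ using exists_coeff hN p τ
  have hw : ι ≫ τ = 0 := by
    refine VBCurvesLib.hom_ext_stalk _ _ fun x => LinearMap.ext fun l => ?_
    show st (ι ≫ τ) x l = st (0 : I ⟶ (AmpleVan.tw N).obj Q) x l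
    rw [st_comp, hτ, ← st_comp, w]
    simp [st]
    exact (congrArg (_ • ·) (map_zero _)).trans (smul_zero _)
  let ψ : Q ⟶ (AmpleVan.tw N).obj Q := hS.exact.desc τ hw
  have hψ : p ≫ ψ = τ := hS.exact.g_desc _ _
  have hbij : ∀ x, Function.Bijective (st ψ x) := fun x => by
    have e' : (st ψ x : _ → _) = fun v => twSt Q (N.presheaf.germ (U x) x (hx x) (e x)) (r x • v) := funext fun v => by
      obtain ⟨z, rfl⟩ := st_surjective p v
      rw [← st_comp, hψ, hτ]
    rw [e']
    refine (twSt_bijective Q (he x) (hx x)).comp ?_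
    rcases h x (U x) (hx x) (e x) (r x) (he x) (hτ x) with hu | hs
    · obtain ⟨v, hv⟩ := hu
      rw [← hv]
      exact MulAction.bijective v
    · exact ⟨fun a b _ => Subsingleton.elim _ _, fun b => ⟨b, Subsingleton.elim _ _⟩⟩
  haveI : IsIso ψ := KFlatLib.isIso_of_stalk ψ fun x =>
    (ConcreteCategory.isIso_iff_bijective _).2 (hbij x)
  exact ⟨(asIso ψ).symm⟩

/-- A nowhere vanishing section of an invertible module on a closed subscheme trivializes it. -/
theorem nonempty_iso_quot_twist (hN : PicF.IsInvertible N) (Z : X.IdealSheafData)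
    (τ : Coh.structureModule X ⟶ (AmpleVan.tw N).obj (ClSub.quotMod Z))
    (h : ∀ x ∈ Z.support, ∃ (C : X.IdealSheafData) (q : ClSub.quotMod Z ⟶ ClSub.quotMod C), x ∈ C.support ∧
      ClSub.toSubscheme Z ≫ q = ClSub.toSubscheme C ∧ Epi (τ ≫ (AmpleVan.tw N).map q)) :
    Nonempty ((AmpleVan.tw N).obj (ClSub.quotMod Z) ≅ ClSub.quotMod Z) := by
  refine nonempty_iso_of_coeff hN _ _ _ (shortExact_ideal Z) τ fun x U hx e r he hτ => ?_
  by_cases hxZ : x ∈ Z.support
  · obtain ⟨C, q, hxC, hq, hepi⟩ := h x hxZ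
    haveI := hepi
    haveI : Epi (ClSub.toSubscheme C) := (shortExact_ideal C).epi_g
    exact .inl (isUnit_coeff _ (ClSub.toSubscheme C) q hq τ hx he
      (CurveCohLib.GlobGen.nontrivial_stalk_quotMod C hxC) hτ)
  · exact .inr (ParShLib.subsingleton_stalk_quotMod Z hxZ)

end Groth.Agent.SurfInt
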