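import Groth.Agent.SurfInt.NumConn
import Groth.Agent.SurfInt.TwistStalk
import Groth.Agent.SurfInt.Adj.Apps

/-! Modules of non-positive degree on numerically connected divisors. -/

noncomputable section

set_option linter.style.haveILetI false
set_option linter.unusedSectionVars false
set_option backward.isDefEq.respectTransparency false
set_option backward.isDefEq.respectTransparency.types false

universe u

open CategoryTheory CategoryTheory.Limits AlgebraicGeometry TopologicalSpace Opposite

namespace Groth.Agent.SurfInt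

open Groth.Agent
open Groth.Agent.PnCoh.Finite (mapLin)

section Sect

variable {X : Scheme.{u}} {F : X.Modules}

theorem one_eq_zero_iff (φ : Coh.structureModule X ⟶ F) : InvX.one φ = 0 ↔ φ = 0 := by
  constructor
  · intro h
    refine QCoh.hom_ext_app fun W s => ?_
    refine (InvX.app_eq_smul φ (show Γ(X, W) from s)).trans ?_
    rw [h, map_zero, smul_zero]
    rfl
  · rintro rfl
    rfl

theorem hom_ext_one {φ ψ : Coh.structureModule X ⟶ F} (h : InvX.one φ = InvX.one ψ) : φ = ψ := by
  refine QCoh.hom_ext_app fun W s => ?_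
  refine (InvX.app_eq_smul φ (show Γ(X, W) from s)).trans ?_
  rw [h]
  exact (InvX.app_eq_smul ψ (show Γ(X, W) from s)).symm

theorem nontrivial_H0_of_hom {φ : Coh.structureModule X ⟶ F} (h : φ ≠ 0) : Nontrivial (Coh.HH X F 0) := by
  let e := Sheaf.H.equiv₀ (Coh.toAb F) (isTerminalTop (α := X.Opens))
  refine nontrivial_of_ne (e.symm (InvX.one φ)) 0 fun h0 => h ((one_eq_zero_iff φ).1 ?_)
  have h1 := congrArg e h0
  rw [map_zero] at h1
  exact (e.apply_symm_apply _).symm.trans h1

end Sect

variable (k : Type u) [Field k] [IsAlgClosed k] {X : Scheme.{u}} [X.Over (Spec (CommRingCat.of k))]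
  [IsProper (X ↘ Spec (CommRingCat.of k))] [IsIntegral X]

section Curve

variable (C : X.IdealSheafData) [IsIntegral C.subscheme] (hC : topologicalKrullDim (C.support : Set X) = 1)
  {N : X.Modules} (hN : PicF.IsInvertible N) (hdeg : degOn k (ClSub.quotMod C) N ≤ 0)

/-- The restriction to a closed subscheme as a direct image. -/
def pushIso : (AmpleVan.tw N).obj (ClSub.quotMod C) ≅
    (Scheme.Modules.pushforward C.subschemeι).obj ((Scheme.Modules.pullback C.subschemeι).obj N) :=
  haveI := KFlatLib.isIso_projMod_of_isClosedImmersion C.subschemeι (Coh.structureModule C.subscheme) N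
  asIso (KFlatLib.projMod C.subschemeι (Coh.structureModule C.subscheme) N) ≪≫
    (Scheme.Modules.pushforward C.subschemeι).mapIso (CurveTensor.structureTensorIso _)

include hC hN hdeg

theorem isIso_of_ne_zero (t : Coh.structureModule C.subscheme ⟶ (Scheme.Modules.pullback C.subschemeι).obj N)
    (ht : t ≠ 0) : IsIso t := by
  letI := overComp k C.subschemeι
  haveI := isProper_comp k C.subschemeι rfl
  rw [degOn_push k C.subschemeι rfl hN] at hdeg
  obtain ⟨h1, h2⟩ := CurveDeg.deg_le_and_isIso k (by rw [dim_subscheme C, hC]) isInvertible_structure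
    (PicClLib.isInvertible_pullback C.subschemeι hN) t ht
  rw [CurveDeg.deg_structureModule] at h1 h2
  exact h2 (le_antisymm h1 hdeg)

theorem hZ_curve_le_one : hZ k C N ≤ 1 := by
  letI := overComp k C.subschemeι
  haveI := isProper_comp k C.subschemeι rfl
  rw [hZ, finrank_congr k (H23.PicMul.comm (ClSub.quotMod C) N).some 0, finrank_twist_curve k C hN]
  by_cases hz : Subsingleton (Coh.HH C.subscheme ((Scheme.Modules.pullback C.subschemeι).obj N) 0)
  · rw [Module.finrank_zero_of_subsingleton]; exact zero_le_one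
  · rw [not_subsingleton_iff_nontrivial] at hz
    obtain ⟨t, ht⟩ := exists_section_ne_zero hz
    haveI := isIso_of_ne_zero k C hC hN hdeg t ht
    rw [← finrank_congr k (asIso t) 0, Adj.finrank_h0_integral k C.subscheme]

theorem epi_of_ne_zero (θ : Coh.structureModule X ⟶ (AmpleVan.tw N).obj (ClSub.quotMod C)) (hθ : θ ≠ 0) :
    Epi θ := by
  let φ := θ ≫ (pushIso C).hom
  let s' := InvX.one φ
  let s : Γ((Scheme.Modules.pullback C.subschemeι).obj N, ⊤) := s'
  let t := InvX.ofSect s
  have h : θ ≫ (pushIso C).hom = ClSub.toSubscheme C ≫ (Scheme.Modules.pushforward C.subschemeι).map t := by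
    refine hom_ext_one ?_
    show s = t.app ⊤ (C.subschemeι.app ⊤ (1 : Γ(X, ⊤)))
    rw [map_one]
    exact (InvX.one_ofSect s).symm
  have ht : t ≠ 0 := fun h0 => hθ (by
    rw [← cancel_mono (pushIso C).hom, h, h0, Functor.map_zero, comp_zero, zero_comp])
  haveI := isIso_of_ne_zero k C hC hN hdeg t ht
  haveI : Epi (ClSub.toSubscheme C) := (shortExact_ideal C).epi_g
  have : θ = (ClSub.toSubscheme C ≫ (Scheme.Modules.pushforward C.subschemeι).map t) ≫ (pushIso C).inv := by
    rw [← h, Category.assoc, Iso.hom_inv_id, Category.comp_id]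
  rw [this]
  infer_instance

end Curve

variable (hdim : topologicalKrullDim X = 2) (hreg : ∀ x : X, IsRegularLocalRing (X.presheaf.stalk x))

include k hdim hreg

omit [IsAlgClosed k] in
/-- Every point of a divisor lies on one of its curves. -/
theorem exists_curve_through {Z : X.IdealSheafData} (hZe : BlowUp.IsEffCartierIdeal Z) {x : X}
    (hx : x ∈ Z.support) :
    ∃ C : X.IdealSheafData, IsIntegral C.subscheme ∧ topologicalKrullDim (C.support : Set X) = 1 ∧ Z ≤ C ∧
      x ∈ C.support := by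
  haveI := noeth k (X := X)
  haveI := wellFoundedGT_ideals (X := X)
  induction Z using WellFoundedGT.induction with
  | ind Z ih =>
    by_cases hne : Z = ⊤
    · subst hne
      rw [Scheme.IdealSheafData.support_top] at hx
      exact hx.elim
    · obtain ⟨C, hCi, hC, hle⟩ := exists_curve_le k hdim hZe hne
      haveI := hCi
      obtain ⟨Z', hZ', he, hlt⟩ := exists_peel k hdim hreg hZe C hC hle
      rw [he, Scheme.IdealSheafData.support_mul] at hx
      rcases hx with hx | hx
      · exact ⟨C, hCi, hC, hle, hx⟩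
      · obtain ⟨D, hD1, hD2, hD3, hD4⟩ := ih Z' hlt hZ' hx
        exact ⟨D, hD1, hD2, hlt.le.trans hD3, hD4⟩

variable {Z : X.IdealSheafData} (hZe : BlowUp.IsEffCartierIdeal Z)
  (hnc : ∀ Z₁ Z₂ : X.IdealSheafData, BlowUp.IsEffCartierIdeal Z₁ → BlowUp.IsEffCartierIdeal Z₂ → Z₁ ≠ ⊤ →
    Z₂ ≠ ⊤ → Z = Z₁ * Z₂ → 0 < dot k (ClSub.idealMod Z₁) (ClSub.idealMod Z₂))
  {N : X.Modules} (hN : PicF.IsInvertible N)
  (hdeg : ∀ C : X.IdealSheafData, IsIntegral C.subscheme → topologicalKrullDim (C.support : Set X) = 1 → Z ≤ C →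
      degOn k (ClSub.quotMod C) N ≤ 0)

include hZe hnc hN hdeg

omit [IsAlgClosed k] in
theorem hZ_residual_eq_zero {C Z' : X.IdealSheafData} [IsIntegral C.subscheme]
    (hC : topologicalKrullDim (C.support : Set X) = 1) (hZ' : BlowUp.IsEffCartierIdeal Z') (he : Z = C * Z') :
    hZ k Z' (CohB1.tensorMod (ClSub.idealMod C) N) = 0 := by
  by_contra hne
  have hd := hdim.le
  have hCe := isEffCartier_curve k hdim hreg C hC
  have iC := ArSurfX.isInvertible_idealMod hCe
  obtain ⟨Y₁, Y₂, h1, h2, h3, h4, h5⟩ :=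
    exists_decomp_section k hdim hreg hZ' (InvX.isInvertible_tensorMod iC hN) hne
  have i1 := ArSurfX.isInvertible_idealMod h1
  have i2 := ArSurfX.isInvertible_idealMod h2
  have hCY := ArSurfX.isEffCartier_mul hCe h1
  have hsum : Z = (C * Y₁) * Y₂ := by rw [he, h4, mul_assoc]
  have hd2 : topologicalKrullDim (CohB1.support (ClSub.quotMod Y₂)) ≤ 1 :=
    dim_support_quotMod (dim_support_effCartier k hdim h2)
  have hneg : degOn k (ClSub.quotMod Y₂) N ≤ 0 := by
    obtain ⟨L, hL, e⟩ := H23.PicInv.exists_inverse hN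
    have := degOn_quot_nonneg k hdim hreg hL h2 fun D hDi hD hle => by
      rw [degOn_inv k (isCoh_quotMod k D) (dim_support_quot_curve hD) hN hL e]
      have := hdeg D hDi hD ((hsum ▸ mul_comm Y₂ (C * Y₁) ▸ mul_le_left' Y₂ (C * Y₁)).trans hle)
      omega
    rw [degOn_inv k (isCoh_quotMod k Y₂) hd2 hN hL e] at this
    omega
  have hne' : C * Y₁ ≠ ⊤ := fun htop => by
    have hCtop : C = ⊤ := top_le_iff.1 (htop ▸ mul_le_left' C Y₁)
    rw [hCtop, dim_support_top] at hC
    exact absurd hC (by simp)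
  have hpos := hnc _ Y₂ hCY h2 hne' h3 hsum
  rw [degOn_tensor k (isCoh_quotMod k Y₂) hd2 iC hN] at h5
  rw [dot_comm k hd (ArSurfX.isInvertible_idealMod hCY) i2, dot_idealMod_mul k hd i2 hCe h1,
    dot_comm k hd i2 i1, dot_ideal_left k hd Y₂ i2 iC] at hpos
  omega

theorem hZ_le_one : hZ k Z N ≤ 1 := by
  by_cases hne : Z = ⊤
  · subst hne; rw [hZ_top k hN]; exact zero_le_one
  obtain ⟨C, hCi, hC, hle⟩ := exists_curve_le k hdim hZe hne
  haveI := hCi
  obtain ⟨Z', hZ', he, -⟩ := exists_peel k hdim hreg hZe C hC hle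
  have h := hZ_mul_le k (isEffCartier_curve k hdim hreg C hC) hZ' hN
  rw [← he, hZ_residual_eq_zero k hdim hreg hZe hnc hN hdeg hC hZ' he, zero_add] at h
  exact h.trans (hZ_curve_le_one k C hC hN (hdeg C hCi hC hle))

theorem nonempty_iso_of_hZ_ne_zero (h : hZ k Z N ≠ 0) :
    Nonempty (CohB1.tensorMod (ClSub.quotMod Z) N ≅ ClSub.quotMod Z) := by
  haveI := finite_twist_quot k Z hN 0
  have hn : Nontrivial (Coh.HH X (CohB1.tensorMod (ClSub.quotMod Z) N) 0) :=
    Module.nontrivial_of_finrank_pos (R := k) (Nat.pos_of_ne_zero h)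
  obtain ⟨τ, hτ⟩ := exists_section_ne_zero hn
  refine nonempty_iso_quot_twist hN Z τ fun x hx => ?_
  obtain ⟨C, hCi, hC, hle, hxC⟩ := exists_curve_through k hdim hreg hZe hx
  haveI := hCi
  obtain ⟨Z', hZ', he, -⟩ := exists_peel k hdim hreg hZe C hC hle
  have hCe := isEffCartier_curve k hdim hreg C hC
  subst he
  obtain ⟨i, q, w, hS, hq⟩ := exists_residual hCe hZ'
  refine ⟨C, q, hxC, hq, epi_of_ne_zero k C hC hN (hdeg C hCi hC hle) _ fun h0 => ?_⟩
  haveI := AmpleVan.isEquivalence_tw hN
  haveI : (AmpleVan.tw N).Additive := Functor.additive_of_preserves_binary_products _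
  have hT := hS.map_of_exact (AmpleVan.tw N)
  haveI := hT.mono_f
  obtain ⟨l, hl⟩ := KernelFork.IsLimit.lift' hT.exact.fIsKernel τ h0
  have hl0 : l ≫ (AmpleVan.assocT (ClSub.quotMod Z') (ClSub.idealMod C) N).hom ≠ 0 := fun h1 => hτ (by
    rw [Preadditive.IsIso.comp_right_eq_zero] at h1
    rw [← hl, h1, zero_comp])
  haveI := nontrivial_H0_of_hom hl0
  haveI := finite_twist_quot k Z' (InvX.isInvertible_tensorMod (ArSurfX.isInvertible_idealMod hCe) hN) 0
  have := hZ_residual_eq_zero k hdim hreg hZe hnc hN hdeg hC hZ' rfl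
  exact (Module.finrank_pos (R := k) (M := Coh.HH X
    (CohB1.tensorMod (ClSub.quotMod Z') (CohB1.tensorMod (ClSub.idealMod C) N)) 0)).ne' this

end Groth.Agent.SurfInt
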