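import Groth.Agent.SurfInt.FibreCurve
import Groth.Agent.SurfInt.Conn

/-! Self-intersection along a chain of nef `ℚ`-divisors. -/

noncomputable section

set_option linter.style.haveILetI false
set_option linter.unusedSectionVars false
set_option backward.isDefEq.respectTransparency false
set_option backward.isDefEq.respectTransparency.types false

universe u

open CategoryTheory CategoryTheory.Limits AlgebraicGeometry TopologicalSpace Opposite

namespace Groth.Agent.SurfInt

open Groth.Agent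

variable (k : Type u) [Field k] [IsAlgClosed k] {X : Scheme.{u}} [X.Over (Spec (CommRingCat.of k))]
  [IsProper (X ↘ Spec (CommRingCat.of k))] [IsIntegral X] (hdim : topologicalKrullDim X = 2)
  (hreg : ∀ x : X, IsRegularLocalRing (X.presheaf.stalk x))

include k hdim hreg

/-- An integral multiple of a nef combination `A + B - μ G`. -/
theorem exists_clear {A B G : X.Modules} (hA : PicF.IsInvertible A) (hB : PicF.IsInvertible B)
    (hG : PicF.IsInvertible G) {μ : ℚ} (hμ : 0 ≤ μ)
    (h : ∀ C : X.IdealSheafData, IsIntegral C.subscheme → topologicalKrullDim (C.support : Set X) = 1 →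
      (0 : ℚ) ≤ (degOn k (ClSub.quotMod C) A : ℚ) + degOn k (ClSub.quotMod C) B - μ * degOn k (ClSub.quotMod C) G) :
    ∃ (M : X.Modules) (b : ℕ), PicF.IsInvertible M ∧ 0 < b ∧
      (∀ P : X.Modules, PicF.IsInvertible P →
        (dot k M P : ℚ) = b * ((dot k A P : ℚ) + dot k B P - μ * dot k G P)) ∧
      ∀ C : X.IdealSheafData, IsIntegral C.subscheme → topologicalKrullDim (C.support : Set X) = 1 →
        0 ≤ degOn k (ClSub.quotMod C) M := by
  have hd := hdim.le
  obtain ⟨G', hG', e⟩ := H23.PicInv.exists_inverse hG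
  obtain ⟨a, b, hb, rfl⟩ : ∃ a b : ℕ, 0 < b ∧ μ = (a : ℚ) / b := by
    refine ⟨μ.num.toNat, μ.den, μ.den_pos, ?_⟩
    conv_lhs => rw [← Rat.num_div_den μ]
    congr 1
    exact_mod_cast (Int.toNat_of_nonneg (Rat.num_nonneg.2 hμ)).symm
  have hAB := InvX.isInvertible_tensorMod hA hB
  have hP1 := H23.PicMul.isInvertible_tensorPow hAB b
  have hP2 := H23.PicMul.isInvertible_tensorPow hG' a
  have hbq : (0 : ℚ) < b := by exact_mod_cast hb
  refine ⟨CohB1.tensorMod (CohB1.tensorPow (CohB1.tensorMod A B) b) (CohB1.tensorPow G' a), b,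
    InvX.isInvertible_tensorMod hP1 hP2, hb, fun P hP => ?_, fun C hCi hC => ?_⟩
  · rw [dot_tensor_left k hd hP1 hP2 hP, dot_tensorPow_left k hd hAB hP, dot_tensorPow_left k hd hG' hP,
      dot_tensor_left k hd hA hB hP, dot_inv_left k hd hG hG' hP e]
    push_cast
    field_simp
    ring
  · haveI := noeth k (X := X)
    haveI := hCi
    have hq := isCoh_quotMod k C
    have hdC := dim_support_quot_curve hC
    rw [degOn_tensor k hq hdC hP1 hP2, degOn_tensorPow k hq hdC hAB, degOn_tensorPow k hq hdC hG',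
      degOn_tensor k hq hdC hA hB, degOn_inv k hq hdC hG hG' e]
    have h' := mul_nonneg hbq.le (h C hCi hC)
    field_simp at h'
    suffices (0 : ℚ) ≤ ((b * (degOn k (ClSub.quotMod C) A + degOn k (ClSub.quotMod C) B) +
        a * -degOn k (ClSub.quotMod C) G : ℤ) : ℚ) by exact_mod_cast this
    push_cast
    linarith

/-- A nef `ℚ`-combination has non-negative square. -/
theorem sq_nonneg_of_nef {A B G : X.Modules} (hA : PicF.IsInvertible A) (hB : PicF.IsInvertible B)
    (hG : PicF.IsInvertible G) {μ : ℚ} (hμ : 0 ≤ μ)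
    (h : ∀ C : X.IdealSheafData, IsIntegral C.subscheme → topologicalKrullDim (C.support : Set X) = 1 →
      (0 : ℚ) ≤ (degOn k (ClSub.quotMod C) A : ℚ) + degOn k (ClSub.quotMod C) B - μ * degOn k (ClSub.quotMod C) G) :
    (0 : ℚ) ≤ (dot k A A : ℚ) + dot k B B + μ ^ 2 * dot k G G + 2 * dot k A B - 2 * μ * dot k A G -
      2 * μ * dot k B G := by
  have hd := hdim.le
  obtain ⟨M, b, hM, hb, hdot, hnef⟩ := exists_clear k hdim hreg hA hB hG hμ h
  have h0 : (0 : ℚ) ≤ (dot k M M : ℚ) := by exact_mod_cast dot_self_nonneg_of_nef k hdim hreg hM hnef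
  rw [hdot M hM, dot_comm k hd hA hM, dot_comm k hd hB hM, dot_comm k hd hG hM, hdot A hA, hdot B hB, hdot G hG,
    dot_comm k hd hB hA, dot_comm k hd hG hA, dot_comm k hd hG hB] at h0
  by_contra hneg
  push Not at hneg
  have hbq : (0 : ℚ) < b := by exact_mod_cast hb
  have := mul_neg_of_pos_of_neg (mul_pos hbq hbq) hneg
  linarith

/-- A nef `ℚ`-combination meets effective divisors non-negatively. -/
theorem dot_ideal_nonpos_of_nef {A B G : X.Modules} (hA : PicF.IsInvertible A) (hB : PicF.IsInvertible B)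
    (hG : PicF.IsInvertible G) {μ : ℚ} (hμ : 0 ≤ μ)
    (h : ∀ C : X.IdealSheafData, IsIntegral C.subscheme → topologicalKrullDim (C.support : Set X) = 1 →
      (0 : ℚ) ≤ (degOn k (ClSub.quotMod C) A : ℚ) + degOn k (ClSub.quotMod C) B - μ * degOn k (ClSub.quotMod C) G)
    {E : X.IdealSheafData} (hE : BlowUp.IsEffCartierIdeal E) :
    (dot k A (ClSub.idealMod E) : ℚ) + dot k B (ClSub.idealMod E) - μ * dot k G (ClSub.idealMod E) ≤ 0 := by
  have hd := hdim.le
  obtain ⟨M, b, hM, hb, hdot, hnef⟩ := exists_clear k hdim hreg hA hB hG hμ h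
  have iE := ArSurfX.isInvertible_idealMod hE
  have h1 := degOn_quot_nonneg k hdim hreg hM hE fun C hCi hC _ => hnef C hCi hC
  have h2 := dot_ideal_left k hd E iE hM
  rw [dot_comm k hd iE hM] at h2
  have h0 : (dot k M (ClSub.idealMod E) : ℚ) ≤ 0 := by exact_mod_cast (show dot k M (ClSub.idealMod E) ≤ 0 by omega)
  rw [hdot _ iE] at h0
  by_contra hneg
  push Not at hneg
  have hbq : (0 : ℚ) < b := by exact_mod_cast hb
  have := mul_pos hbq hneg
  linarith

/-- The self-intersection of `A` bounds the sum along a chain of nef divisors `A - Z_i - μ_i G`. -/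
theorem selfInter_ge_sum {A G : X.Modules} (hA : PicF.IsInvertible A) (hG : PicF.IsInvertible G)
    (n : ℕ) (Z : Fin (n + 1) → X.IdealSheafData) (hZ : ∀ i, BlowUp.IsEffCartierIdeal (Z i))
    (hZmono : Monotone Z) (hZlast : Z (Fin.last n) = ⊤)
    (μ : Fin (n + 1) → ℚ) (hμ : StrictAnti μ) (hμlast : μ (Fin.last n) = 0)
    (hnef : ∀ (i : Fin (n + 1)) (C : X.IdealSheafData), IsIntegral C.subscheme →
      topologicalKrullDim (C.support : Set X) = 1 →
      (0 : ℚ) ≤ (degOn k (ClSub.quotMod C) A : ℚ) + degOn k (ClSub.quotMod C) (ClSub.idealMod (Z i))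
        - μ i * degOn k (ClSub.quotMod C) G) :
    (∑ i : Fin n,
        (((dot k A G : ℚ) + (dot k (ClSub.idealMod (Z i.castSucc)) G : ℚ) - μ i.castSucc * (dot k G G : ℚ))
          + ((dot k A G : ℚ) + (dot k (ClSub.idealMod (Z i.succ)) G : ℚ) - μ i.succ * (dot k G G : ℚ)))
        * (μ i.castSucc - μ i.succ)) ≤ (dot k A A : ℚ) := by
  have hd := hdim.le
  have iZ := fun i => ArSurfX.isInvertible_idealMod (hZ i)
  have hμ0 : ∀ i, 0 ≤ μ i := fun i => hμlast ▸ hμ.antitone (Fin.le_last i)
  let Q : Fin (n + 1) → ℚ := fun i => (dot k A A : ℚ) + dot k (ClSub.idealMod (Z i)) (ClSub.idealMod (Z i)) +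
    μ i ^ 2 * dot k G G + 2 * dot k A (ClSub.idealMod (Z i)) - 2 * μ i * dot k A G -
    2 * μ i * dot k (ClSub.idealMod (Z i)) G
  have hstep : ∀ i : Fin n,
      (((dot k A G : ℚ) + (dot k (ClSub.idealMod (Z i.castSucc)) G : ℚ) - μ i.castSucc * (dot k G G : ℚ))
          + ((dot k A G : ℚ) + (dot k (ClSub.idealMod (Z i.succ)) G : ℚ) - μ i.succ * (dot k G G : ℚ)))
        * (μ i.castSucc - μ i.succ) ≤ Q i.succ - Q i.castSucc := fun i => by
    have hle : Z i.castSucc ≤ Z i.succ := hZmono Fin.castSucc_lt_succ.le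
    let E := ModPairLib.colon (Z i.castSucc) (Z i.succ) (ModPairLib.isLocPrincipal_of_isEffCartier (hZ i.succ))
    have hmul : E * Z i.succ = Z i.castSucc := ModPairLib.colon_mul (hZ i.succ) hle
    have hE : BlowUp.IsEffCartierIdeal E :=
      ModPairLib.isEffCartier_of_mul (hZ i.succ) (hmul.symm ▸ hZ i.castSucc)
    have iE := ArSurfX.isInvertible_idealMod hE
    have hsplit : ∀ P : X.Modules, PicF.IsInvertible P → (dot k P (ClSub.idealMod (Z i.castSucc)) : ℚ) =
        dot k P (ClSub.idealMod E) + dot k P (ClSub.idealMod (Z i.succ)) := fun P hP => by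
      rw [← hmul, dot_idealMod_mul k hd hP hE (hZ i.succ), Int.cast_add]
    have h1 := dot_ideal_nonpos_of_nef k hdim hreg hA (iZ i.castSucc) hG (hμ0 _) (hnef i.castSucc) hE
    have h2 := dot_ideal_nonpos_of_nef k hdim hreg hA (iZ i.succ) hG (hμ0 _) (hnef i.succ) hE
    simp only [Q]
    rw [dot_comm k hd (iZ i.castSucc) iE, hsplit _ iE, dot_comm k hd hG iE, dot_comm k hd iE (iZ i.succ)] at h1
    rw [dot_comm k hd hG iE] at h2
    rw [hsplit _ (iZ i.castSucc), dot_comm k hd (iZ i.castSucc) iE, dot_comm k hd (iZ i.castSucc) (iZ i.succ),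
      hsplit _ iE, hsplit _ (iZ i.succ), hsplit _ hA, dot_comm k hd (iZ i.castSucc) hG, hsplit _ hG,
      dot_comm k hd iE (iZ i.succ), dot_comm k hd hG iE, dot_comm k hd hG (iZ i.succ)]
    linarith
  have h0 : 0 ≤ Q 0 := sq_nonneg_of_nef k hdim hreg hA (iZ 0) hG (hμ0 0) (hnef 0)
  have hlast : Q (Fin.last n) = (dot k A A : ℚ) := by
    obtain ⟨e⟩ := ArSurfX.nonempty_idealMod_one (X := X)
    have iT : PicF.IsInvertible (ClSub.idealMod (1 : X.IdealSheafData)) :=
      (S8914.result _).2 (BlowUpLib.isEffCartier_top X)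
    have hT : ∀ P : X.Modules, PicF.IsInvertible P → dot k P (ClSub.idealMod (⊤ : X.IdealSheafData)) = 0 :=
      fun P hP => (dot_congr k hd hP iT (Iso.refl P) e.symm).trans (dot_one_right k hd hP)
    simp only [Q, hμlast, hZlast]
    rw [hT A hA, hT _ (show PicF.IsInvertible (ClSub.idealMod (⊤ : X.IdealSheafData)) from iT)]
    simp
  refine (Finset.sum_le_sum fun i _ => hstep i).trans ?_
  rw [Finset.sum_sub_distrib]
  have e1 := Fin.sum_univ_succ Q
  have e2 := Fin.sum_univ_castSucc Q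
  linarith

end Groth.Agent.SurfInt
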