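import Groth.Agent.SurfInt.Nef
import Groth.Agent.AmpleVan.Vanish
import Groth.Agent.VarAmp.Integral
import Groth.Agent.VarAmp.Curve
import Groth.Agent.S0050
import Groth.Agent.Lib.InvEnd
import Groth.Agent.CurveEmbed.Pow
import Groth.Agent.SchTop.ZeroDim
import Groth.Agent.AmpleX.QuasiAffine

/-! The criterion of Nakai and Moishezon for surfaces. -/

noncomputable section

set_option linter.style.haveILetI false
set_option linter.unusedSectionVars false
set_option backward.isDefEq.respectTransparency false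
set_option backward.isDefEq.respectTransparency.types false

universe u

open CategoryTheory CategoryTheory.Limits AlgebraicGeometry TopologicalSpace Opposite
open Groth.Agent.PnCoh.Finite (mapLin)

attribute [local instance] HasDerivedCategory.standard

namespace Groth.Agent.SurfInt

open Groth.Agent AmpleVan

variable (k : Type u) [Field k] {X : Scheme.{u}} [X.Over (Spec (CommRingCat.of k))]

theorem mapLin_comp_apply {A B C : X.Modules} (φ : A ⟶ B) (ψ : B ⟶ C) (n : ℕ) (x : Coh.HH X A n) :
    mapLin k ψ n (mapLin k φ n x) = mapLin k (φ ≫ ψ) n x :=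
  PnCoh.Finite.map_map (Y := X.toPresheafedSpace.carrier) ((QCoh.toAbFunctor X).map_comp φ ψ).symm n x

theorem mapLin_add_hom {A B : X.Modules} (φ ψ : A ⟶ B) (n : ℕ) :
    mapLin k (φ + ψ) n = mapLin k φ n + mapLin k ψ n :=
  LinearMap.ext fun x => by
    show Sheaf.H.map ((QCoh.toAbFunctor X).map (φ + ψ)) n x = _
    rw [Functor.map_add, Sheaf.H.map_add_apply]
    rfl

theorem mapLin_smulMod (M : X.Modules) (c : k) (n : ℕ) (x : Coh.HH X M n) :
    mapLin k (Formal.smulMod k M c) n x = c • x := by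
  show Sheaf.H.map ((QCoh.toAbFunctor X).map (Formal.smulMod k M c)) n x =
    Sheaf.H.map (Coh.smulAb M (Coh.toGlobal (X ↘ Spec (CommRingCat.of k)) c)) n x
  rfl

/-- The section attached to a class in degree zero. -/
def secOf (N : X.Modules) (t : Coh.HH X N 0) : Γ(N, ⊤) :=
  Sheaf.H.equiv₀ (Coh.toAb N) isTerminalTop t

theorem secOf_add (N : X.Modules) (t t' : Coh.HH X N 0) : secOf N (t + t') = secOf N t + secOf N t' :=
  map_add (Sheaf.H.equiv₀ (Coh.toAb N) isTerminalTop) t t'

theorem secOf_eq_zero {N : X.Modules} {t : Coh.HH X N 0} (h : secOf N t = 0) : t = 0 :=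
  (Sheaf.H.equiv₀ (Coh.toAb N) isTerminalTop).injective (h.trans (map_zero _).symm)

theorem secOf_smul (N : X.Modules) (c : k) (t : Coh.HH X N 0) :
    secOf N (c • t) =
      (show Γ(X, ⊤) from Coh.resTop X (op ⊤) (Coh.toGlobal (X ↘ Spec (CommRingCat.of k)) c)) • secOf N t :=
  (Sheaf.H.equiv₀_naturality isTerminalTop (Coh.smulAb N (Coh.toGlobal (X ↘ Spec (CommRingCat.of k)) c)) t).symm

theorem mulSec_add {N : X.Modules} (σ τ : Γ(N, ⊤)) (M : X.Modules) :
    mulSec (σ + τ) M = mulSec σ M + mulSec τ M :=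
  QCoh.hom_ext_app fun U m => by
    show (mulSec (σ + τ) M).app U m = (mulSec σ M).app U m + (mulSec τ M).app U m
    rw [mulSec_app, mulSec_app, mulSec_app, map_add]
    exact (congrArg _ (KFlatLib.tm_add_right m _ _)).trans (map_add _ _ _)

theorem mulSec_smul {N : X.Modules} (c : k) (σ : Γ(N, ⊤)) (M : X.Modules) :
    mulSec ((show Γ(X, ⊤) from Coh.resTop X (op ⊤) (Coh.toGlobal (X ↘ Spec (CommRingCat.of k)) c)) • σ) M =
      mulSec σ M ≫ Formal.smulMod k ((tw N).obj M) c :=
  QCoh.hom_ext_app fun U m => by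
    show (mulSec _ M).app U m =
      (show Γ(X, U) from Coh.resTop X (op U) (Coh.toGlobal (X ↘ Spec (CommRingCat.of k)) c)) • (mulSec σ M).app U m
    rw [mulSec_app, mulSec_app, AModX.res_smul, InvX.tmul_smul_right]
    congr 1
    exact Coh.resTop_comp (op ⊤) (op U) (homOfLE (le_top : U ≤ ⊤)).op
      (Coh.toGlobal (X ↘ Spec (CommRingCat.of k)) c)

/-- Multiplication maps on cohomology, linearly in the section. -/
def mulLin (N M : X.Modules) (n : ℕ) :
    Coh.HH X N 0 →ₗ[k] (Coh.HH X M n →ₗ[k] Coh.HH X ((tw N).obj M) n) where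
  toFun t := mapLin k (mulSec (secOf N t) M) n
  map_add' t t' := by rw [secOf_add, mulSec_add, mapLin_add_hom]
  map_smul' c t := LinearMap.ext fun x => by
    rw [secOf_smul, mulSec_smul, ← mapLin_comp_apply, mapLin_smulMod]
    rfl

variable [IsProper (X ↘ Spec (CommRingCat.of k))]

include k in
/-- Twists of sheaves supported on curves have no higher cohomology. -/
theorem van_of_dim_le_one {L : X.Modules} (hL : PicF.IsInvertible L)
    (hamp : ∀ (Z : Scheme.{u}) (i : Z ⟶ X), IsClosedImmersion i → IsIntegral Z → topologicalKrullDim Z ≤ 1 →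
      CohB1.IsAmple ((Scheme.Modules.pullback i).obj L))
    {F : X.Modules} (hF : Coh.IsCoh F) (hd : topologicalKrullDim (CohB1.support F) ≤ 1) : VarAmp.Van L F := by
  haveI := noeth k (X := X)
  refine QCoh.devissage_ideals (VarAmp.Van L) (fun A B ⟨e⟩ h => VarAmp.van_of_iso k e h) ?_ (CohB1.support F)
    (fun S hS _ _ _ h1 h3 => VarAmp.van_ext k hL hS h1 h3) ?_ hF subset_rfl
  · intro G hG
    refine ⟨0, fun n _ p _ => ?_⟩
    haveI := AmpleVan.isEquivalence_tw (H23.PicMul.isInvertible_tensorPow hL n)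
    haveI : (tw (CohB1.tensorPow L n)).PreservesZeroMorphisms :=
      Functor.preservesZeroMorphisms_of_full _
    exact Euler.subsingleton_HH_of_isZero ((tw (CohB1.tensorPow L n)).map_isZero hG) p
  · intro ξ hξ _ Z i _ _ hrange I ι hι hI _
    haveI := hι
    haveI : IsLocallyNoetherian Z := LocallyOfFiniteType.isLocallyNoetherian i
    have hdZ : topologicalKrullDim Z = topologicalKrullDim (closure {ξ} : Set X) := by
      rw [← hrange]
      exact IsHomeomorph.topologicalKrullDim_eq _ i.isEmbedding.toHomeomorph.isHomeomorph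
    exact VarAmp.van_push k hL i
      (hamp Z i inferInstance inferInstance (hdZ ▸ le_trans (H23.TopDim.dim_le_dim_of_subset hξ) hd))
      (QCoh.isCoh_of_mono ι QCoh.isCoh_structureModule' hI)

variable [IsIntegral X] (hdim : topologicalKrullDim X = 2)

omit [IsProper (X ↘ Spec (CommRingCat.of k))] in
/-- Multiplication by a non-zero section is injective on ideals. -/
theorem mono_mulSec {N : X.Modules} (hN : PicF.IsInvertible N) {σ : Γ(N, ⊤)} (hσ : σ ≠ 0) {I P : X.Modules}
    (hP : PicF.IsInvertible P) (ι : I ⟶ P) [Mono ι] : Mono (mulSec σ I) := by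
  haveI : Mono (mulSec σ P) :=
    InvEnd.mono_of_ne_zero hP (InvX.isInvertible_tensorMod hP hN) _ (CurveEmbed.mulSec_ne_zero hN hP hσ)
  haveI : Mono (ι ≫ mulSec σ P) := mono_comp _ _
  rw [mulSec_naturality] at this
  exact mono_of_mono _ ((tw N).map ι)

include k hdim in
/-- The cokernel of multiplication by a non-zero section is supported on curves. -/
theorem dim_support_coker {N : X.Modules} (hN : PicF.IsInvertible N) {σ : Γ(N, ⊤)} (hσ : σ ≠ 0) {I : X.Modules}
    (hI : Coh.IsCoh I) : topologicalKrullDim (CohB1.support (cokernel (mulSec σ I))) ≤ 1 := by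
  haveI := noeth k (X := X)
  have hT : Coh.IsCoh ((tw N).obj I) := isCoh_tensor hI (isCoh_invertible hN)
  have hQ : Coh.IsCoh (cokernel (mulSec σ I)) := QCoh.isCoh_cokernel hI.1 hT _
  have hcl := QCoh.isClosed_support_of_isFT hQ.1 hQ.2
  have hη : genericPoint X ∉ CohB1.support (cokernel (mulSec σ I)) := by
    intro hη
    obtain ⟨x, hx⟩ := (Opens.ne_bot_iff_nonempty _).1 (H23.TrivBasic.locus_ne_bot hN hσ)
    obtain ⟨_, ⟨W, hW, rfl⟩, hxW, hWle⟩ :=
      X.isBasis_affineOpens.exists_subset_of_mem_open hx (H23.TrivBasic.locus σ).2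
    have hηW : genericPoint X ∈ W := ((genericPoint_spec X).mem_open_set_iff W.2).2 ⟨x, trivial, hxW⟩
    have hτ := H23.TrivBasic.isFrame_res_of_le_locus (s := σ) (hWle : W ≤ H23.TrivBasic.locus σ)
    obtain ⟨m, hm⟩ := (QCoh.mem_support_iff hQ.1 hW hηW).1 hη
    have h1 : X.basicOpen (1 : Γ(X, W)) = W := Scheme.basicOpen_of_isUnit X isUnit_one
    refine hm 1 (h1.symm ▸ hηW) ?_
    rw [one_smul]
    obtain ⟨y, rfl⟩ := (QCoh.app_surjective_of_epi hT.1 hQ.1 (cokernel.π (mulSec σ I)) hW) m
    obtain ⟨z, rfl⟩ := (QCoh.bijective_tmLin hI.1 (isCoh_invertible hN).1 hW).2 y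
    clear hm
    induction z using TensorProduct.induction_on with
    | zero => rw [map_zero, map_zero]
    | add a b ha hb => rw [map_add, map_add, ha, hb, add_zero]
    | tmul a b =>
      obtain ⟨c, hc⟩ := hτ.exists_coord le_rfl b
      rw [AModX.res_self] at hc
      show (cokernel.π (mulSec σ I)).app W (InvX.tmul a b) = 0
      rw [hc, InvX.tmul_smul_right, ← InvX.tmul_smul_left]
      exact congr(($(cokernel.condition (mulSec σ I))).app W (c • a))
  rw [VarDim.topologicalKrullDim_set_eq_iSup_deg (X ↘ Spec (CommRingCat.of k)) hcl]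
  refine iSup_le fun z => ?_
  have hgen := VarDim.topologicalKrullDim_eq_deg_genericPoint (X ↘ Spec (CommRingCat.of k))
  rw [hdim] at hgen
  have h2 : VarDim.deg (X ↘ Spec (CommRingCat.of k)) (genericPoint X) = 2 := by
    have h := WithBot.coe_injective (hgen.symm.trans (rfl : (2 : WithBot ℕ∞) = ((2 : ℕ∞) : WithBot ℕ∞)))
    exact_mod_cast h
  have hne : z.1 ≠ genericPoint X := fun h => hη (h ▸ z.2)
  have hlt : z.1 < genericPoint X := lt_iff_le_not_ge.2 ⟨genericPoint_specializes _, fun h' =>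
    hne ((genericPoint_specializes z.1).antisymm h').eq.symm⟩
  have := VarDim.deg_strictMono (X ↘ Spec (CommRingCat.of k)) hlt
  exact_mod_cast (show VarDim.deg (X ↘ Spec (CommRingCat.of k)) z.1 ≤ 1 by omega)

variable {L : X.Modules} (hL : PicF.IsInvertible L)
  (hamp : ∀ (Z : Scheme.{u}) (i : Z ⟶ X), IsClosedImmersion i → IsIntegral Z → topologicalKrullDim Z ≤ 1 →
      CohB1.IsAmple ((Scheme.Modules.pullback i).obj L))

include k in
theorem isCoh_itw_ideal {I : X.Modules} (hL : PicF.IsInvertible L) (hI : Coh.IsCoh I) (n : ℕ) :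
    Coh.IsCoh ((itw L n).obj I) :=
  haveI := noeth k (X := X); isCoh_itw hL hI n

include hdim hL hamp in
/-- Multiplication by a section is eventually surjective on first cohomology of twists. -/
theorem eventually_surjective {N : X.Modules} (hN : PicF.IsInvertible N) {σ : Γ(N, ⊤)} (hσ : σ ≠ 0)
    {J : X.Modules} (hJ : Coh.IsCoh J) [Mono (mulSec σ J)] :
    ∃ m₀ : ℕ, ∀ m, m₀ ≤ m → Function.Surjective (mapLin k ((itw L m).map (mulSec σ J)) 1) := by
  haveI := noeth k (X := X)
  have hT : Coh.IsCoh ((tw N).obj J) := isCoh_tensor hJ (isCoh_invertible hN)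
  have hQ : Coh.IsCoh (cokernel (mulSec σ J)) := QCoh.isCoh_cokernel hJ.1 hT _
  obtain ⟨m₀, hm₀⟩ := van_of_dim_le_one k hL hamp hQ (dim_support_coker k hdim hN hσ hJ)
  refine ⟨m₀, fun m hm => ?_⟩
  let S := ShortComplex.mk (mulSec σ J) (cokernel.π _) (cokernel.condition _)
  have hS : S.ShortExact := { exact := ShortComplex.exact_of_g_is_cokernel _ (cokernelIsCokernel _) }
  haveI := isEquivalence_itw hL m
  haveI : (itw L m).PreservesZeroMorphisms := Functor.preservesZeroMorphisms_of_full _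
  have hS' : (S.map (itw L m)).ShortExact := hS.map_of_exact (itw L m)
  haveI : Subsingleton (Coh.HH X (S.map (itw L m)).X₃ 1) := by
    obtain ⟨θ, -⟩ := exists_itwIso L (cokernel (mulSec σ J)) m
    haveI := hm₀ m hm 1 one_pos
    exact (CurveCohLib.hhEquiv (k := k) θ 1).toEquiv.subsingleton
  intro y
  have : y ∈ LinearMap.ker (mapLin k (S.map (itw L m)).g 1) := LinearMap.mem_ker.2 (Subsingleton.elim _ _)
  rwa [CurveCohLib.ker_mapLin_g (A := k) (S := S.map (itw L m)) hS' 1] at this

include hdim hL hamp in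
/-- A module with a section and growing sections that is ample on curves is ample. -/
theorem isAmple_of_growth {s : Γ(L, ⊤)} (hs : s ≠ 0)
    (hgrow : ∀ v : ℕ, ∃ c, 0 < c ∧ v < Module.finrank k (Coh.HH X (CohB1.tensorPow L c) 0)) : CohB1.IsAmple L := by
  classical
  haveI := noeth k (X := X)
  refine S0050.result X L hL fun I ι hι hIq => ?_
  haveI := hι
  have hI : Coh.IsCoh I := QCoh.isCoh_of_mono ι QCoh.isCoh_structureModule' hIq
  let F : ℕ → X.Modules := fun m => (itw L m).obj I
  let d : ℕ → ℕ := fun m => Module.finrank k (Coh.HH X (F m) 1)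
  haveI hfin : ∀ m, Module.Finite k (Coh.HH X (F m) 1) := fun m =>
    CurveCohLib.finite_HH (k := k) (isCoh_itw_ideal k hL hI m) 1
  have hO : PicF.IsInvertible (Coh.structureModule X) := PicLoc.isInvertible_structureModule X
  haveI := mono_mulSec hL hs hO ι
  obtain ⟨m₁, hm₁⟩ := eventually_surjective k hdim hL hamp hL hs hI
  have hsurj : ∀ m, m₁ ≤ m → Function.Surjective (mapLin k (mulSec s (F m)) 1) := fun m hm => by
    obtain ⟨ψ, hψ⟩ := exists_itw_mulSec hL s I m
    rw [← hψ]
    intro y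
    obtain ⟨x, hx⟩ := hm₁ m hm ((CurveCohLib.hhEquiv (k := k) ψ 1).symm y)
    exact ⟨x, by rw [← mapLin_comp_apply k, hx]; exact (CurveCohLib.hhEquiv (k := k) ψ 1).apply_symm_apply y⟩
  have hanti : ∀ m, m₁ ≤ m → d (m + 1) ≤ d m := fun m hm => by
    have h1 := LinearMap.finrank_range_le (mapLin k (mulSec s (F m)) 1)
    rw [LinearMap.range_eq_top.2 (hsurj m hm), finrank_top] at h1
    exact h1
  have hbd : ∀ j, d (m₁ + j) ≤ d m₁ := fun j => by
    induction j with
    | zero => exact le_rfl
    | succ j ih => exact (hanti _ (Nat.le_add_right _ _)).trans ih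
  obtain ⟨c, hc0, hc⟩ := hgrow (d m₁ * d m₁)
  set N := CohB1.tensorPow L c
  have hN : PicF.IsInvertible N := H23.PicMul.isInvertible_tensorPow hL c
  obtain ⟨e⟩ : Nonempty ((tw N).obj (F m₁) ≅ F (m₁ + c)) := H23.PicMul.cl_eq_iff.1 (by
    open scoped Groth.Agent.H23.PicMul in
    show PicF.cl (CohB1.tensorMod ((itw L m₁).obj I) N) = PicF.cl ((itw L (m₁ + c)).obj I)
    rw [H23.PicMul.cl_tensor, cl_itw, cl_itw, H23.PicMul.cl_tensorPow, mul_assoc, pow_add])
  haveI : Module.Finite k (Coh.HH X ((tw N).obj (F m₁)) 1) :=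
    Module.Finite.equiv (CurveCohLib.hhEquiv (k := k) e 1).symm
  obtain ⟨t, ht, ht0⟩ : ∃ t, mulLin k N (F m₁) 1 t = 0 ∧ t ≠ 0 := by
    by_contra hcon
    push Not at hcon
    have hinj : Function.Injective (mulLin k N (F m₁) 1) :=
      (injective_iff_map_eq_zero _).2 fun t h => not_not.1 fun h0 => h0 (hcon t h)
    have h1 := LinearMap.finrank_le_finrank_of_injective hinj
    rw [Module.finrank_linearMap, (CurveCohLib.hhEquiv (k := k) e 1).finrank_eq] at h1
    exact absurd (h1.trans (Nat.mul_le_mul_left _ (hbd c))) (not_le.2 hc)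
  set σ := secOf N t
  have hσ : σ ≠ 0 := fun h => ht0 (secOf_eq_zero h)
  have hzero : ∀ j, mapLin k (mulSec σ (F (m₁ + j))) 1 = 0 := fun j => by
    induction j with
    | zero => exact ht
    | succ j ih =>
      refine LinearMap.ext fun y => ?_
      obtain ⟨x, rfl⟩ := hsurj (m₁ + j) (Nat.le_add_right _ _) y
      show mapLin k (mulSec σ ((tw L).obj (F (m₁ + j)))) 1 (mapLin k (mulSec s (F (m₁ + j))) 1 x) = 0
      rw [mapLin_comp_apply k, mulSec_naturality, ← mapLin_comp_apply k, ih, LinearMap.zero_apply, map_zero]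
  have hP : PicF.IsInvertible ((itw L m₁).obj (Coh.structureModule X)) := by
    obtain ⟨θ, -⟩ := exists_itwIso L (Coh.structureModule X) m₁
    exact H23.PicMul.isInvertible_of_iso θ.symm (H23.PicMul.isInvertible_tensor hO (H23.PicMul.isInvertible_tensorPow hL m₁))
  haveI := isEquivalence_itw hL m₁
  haveI : Mono ((itw L m₁).map ι) := inferInstance
  haveI := mono_mulSec hN hσ hP ((itw L m₁).map ι)
  obtain ⟨j, hj⟩ := eventually_surjective k hdim hN (fun Z i hi hZ hd => by
      haveI := hi
      obtain ⟨b⟩ := VarInt.nonempty_pullback_tensorPow i L c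
      exact AmpleX.isAmple_of_iso b.symm (AmpleX.isAmple_tensorPow (hamp Z i hi hZ hd) hc0)) hN hσ
    (isCoh_itw_ideal k hL hI m₁)
  have hiso : ∀ i : ℕ, Nonempty ((itw N i).obj (F m₁) ≅ F (m₁ + c * i)) := fun i => H23.PicMul.cl_eq_iff.1 (by
    open scoped Groth.Agent.H23.PicMul in
    show PicF.cl ((itw N i).obj ((itw L m₁).obj I)) = PicF.cl ((itw L (m₁ + c * i)).obj I)
    rw [cl_itw, cl_itw, cl_itw, H23.PicMul.cl_tensorPow, ← pow_mul, mul_assoc, ← pow_add])
  obtain ⟨φ⟩ := hiso j
  obtain ⟨φ'⟩ := hiso (j + 1)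
  obtain ⟨ψ, hψ⟩ := exists_itw_mulSec hN σ (F m₁) j
  have hz : ∀ x, mapLin k (mulSec σ ((itw N j).obj (F m₁))) 1 x = 0 := fun x => by
    have h := congrArg (fun f => mapLin k f 1 x) (mulSec_naturality σ φ.hom)
    simp only [← mapLin_comp_apply k] at h
    rw [hzero, LinearMap.zero_apply] at h
    exact (CurveCohLib.hhEquiv (k := k) ((tw N).mapIso φ) 1).injective (h.symm.trans (map_zero _).symm)
  have hall : ∀ y : Coh.HH X ((itw N (j + 1)).obj (F m₁)) 1, y = 0 := fun y => by
    obtain ⟨x, hx⟩ := hj j le_rfl ((CurveCohLib.hhEquiv (k := k) ψ 1).symm y)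
    have h := hz x
    rw [← hψ, ← mapLin_comp_apply k, hx] at h
    exact ((CurveCohLib.hhEquiv (k := k) ψ 1).apply_symm_apply y).symm.trans h
  obtain ⟨θ, -⟩ := exists_itwIso L I (m₁ + c * (j + 1))
  haveI : Subsingleton (Coh.HH X ((itw N (j + 1)).obj (F m₁)) 1) := subsingleton_of_forall_eq 0 hall
  refine ⟨m₁ + c * (j + 1) - 1, ?_⟩
  rw [Nat.sub_add_cancel (show 1 ≤ m₁ + c * (j + 1) from Nat.le_add_left_of_le (Nat.mul_pos hc0 (Nat.succ_pos j)))]
  exact (CurveCohLib.hhEquiv (k := k) (φ' ≪≫ θ) 1).symm.toEquiv.subsingleton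

omit [IsIntegral X]

include k in
/-- A module of positive degree on every curve is ample on integral subschemes of dimension at most one. -/
theorem isAmple_of_curves {M : X.Modules} (hM : PicF.IsInvertible M)
    (h : ∀ C : X.IdealSheafData, IsIntegral C.subscheme → topologicalKrullDim (C.support : Set X) = 1 →
      0 < degOn k (ClSub.quotMod C) M)
    (Z : Scheme.{u}) (i : Z ⟶ X) [IsClosedImmersion i] [IsIntegral Z] (hZ : topologicalKrullDim Z ≤ 1) :
    CohB1.IsAmple ((Scheme.Modules.pullback i).obj M) := by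
  haveI := noeth k (X := X)
  letI := overComp k i
  haveI := isProper_comp k i rfl
  haveI := noeth k (X := Z)
  by_cases h1 : topologicalKrullDim Z = 1
  · refine VarAmp.isAmple_of_deg_pos k h1 (PicClLib.isInvertible_pullback i hM) ?_
    rw [← degOn_quot_ker k i rfl hM]
    obtain ⟨e, -⟩ := exists_iso_subscheme i
    haveI : AlgebraicGeometry.IsIntegral i.ker.subscheme :=
      haveI : Nonempty i.ker.subscheme := ⟨e.hom (genericPoint Z)⟩
      isIntegral_of_isOpenImmersion e.inv
    refine h _ inferInstance ?_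
    rw [← dim_subscheme i.ker, ← h1]
    exact IsHomeomorph.topologicalKrullDim_eq _ (Scheme.homeoOfIso e.symm).isHomeomorph
  · have h0 : topologicalKrullDim Z ≤ 0 :=
      le_of_lt_succ_dim (s := 0) (lt_of_le_of_ne (by exact_mod_cast hZ) (by exact_mod_cast h1))
    haveI : IsAffine Z := by
      haveI : IsAffine ((⊤ : Z.Opens) : Scheme.{u}) := SchTop.isAffineOpen_of_isCompact h0 isCompact_univ
      exact IsAffine.of_isIso Z.topIso.inv
    exact AmpleX.isAmple_of_isQuasiAffine (PicClLib.isInvertible_pullback i hM)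

variable [IsIntegral X]

include hdim in
/-- A module of positive degree on every curve has positive degree on effective divisors. -/
theorem degOn_effCartier_pos {F : X.IdealSheafData} (hF : BlowUp.IsEffCartierIdeal F) (hne : F ≠ ⊤)
    {M : X.Modules} (hM : PicF.IsInvertible M)
    (h : ∀ C : X.IdealSheafData, IsIntegral C.subscheme → topologicalKrullDim (C.support : Set X) = 1 →
      0 < degOn k (ClSub.quotMod C) M) : 0 < degOn k (ClSub.quotMod F) M := by
  haveI := noeth k (X := X)
  obtain ⟨C, hCi, hC, hle⟩ := exists_curve_le k hdim hF hne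
  haveI := hCi
  obtain ⟨q, hq, -⟩ := exists_quotMod_epi hle
  haveI := hq
  have hK : Coh.IsCoh (kernel q) := QCoh.isCoh_kernel (isCoh_quotMod k F) (isCoh_quotMod k C) _
  have hdK : topologicalKrullDim (CohB1.support (kernel q)) ≤ 1 := by
    refine le_trans (H23.TopDim.dim_le_dim_of_subset ?_) (dim_support_effCartier k hdim hF)
    intro x hx
    by_contra hxF
    refine hx ?_
    have hS := (CurveSlope.shortExact_kernel_of_epi q).map_of_exact (DerSch.stalkFunctor X x)
    exact @Function.Injective.subsingleton _ _ _ ((ModuleCat.mono_iff_injective _).1 hS.mono_f)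
      (ParShLib.subsingleton_stalk_quotMod F hxF)
  have h1 : degOn k (ClSub.quotMod F) M = degOn k (kernel q) M + degOn k (ClSub.quotMod C) M :=
    degOn_add k (S := ShortComplex.mk (kernel.ι q) q (kernel.condition q))
      (CurveSlope.shortExact_kernel_of_epi q) hK (isCoh_quotMod k F) (isCoh_quotMod k C) hM
  have h2 := degOn_nonneg_of_curves k hM (fun D h1 h2 => (h D h1 h2).le) hK hdK
  have h3 := h C hCi hC
  omega

include hdim in
/-- An ample module meets a module positive on curves positively. -/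
theorem dot_ample_pos_of_curves {H M : X.Modules} (hH : CohB1.IsAmple H) (hM : PicF.IsInvertible M)
    (h : ∀ C : X.IdealSheafData, IsIntegral C.subscheme → topologicalKrullDim (C.support : Set X) = 1 →
      0 < degOn k (ClSub.quotMod C) M) : 0 < dot k M H := by
  obtain ⟨a, ha, κ, hκ, σ, -, hcov, hsq⟩ := exists_power k hdim hH
  have hA := H23.PicMul.isInvertible_tensorPow hH.1 a
  obtain ⟨j, hj⟩ := hcov (genericPoint X)
  have hs : (InvX.ofSect (σ j) : Coh.structureModule X ⟶ CohB1.tensorPow H a) ≠ 0 := fun h0 => by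
    have h1 : σ j = 0 := by
      rw [← InvX.one_ofSect (σ j), h0]; rfl
    rw [h1] at hj
    have hfr := H23.TrivBasic.isFrame_res_of_le_locus (s := (0 : Γ(CohB1.tensorPow H a, ⊤))) le_rfl
    rw [map_zero] at hfr
    haveI : Nonempty (H23.TrivBasic.locus (0 : Γ(CohB1.tensorPow H a, ⊤))) := ⟨⟨_, hj⟩⟩
    exact one_ne_zero (hfr.coord_unique le_rfl (r := (1 : Γ(X, _))) (r' := 0) (by simp))
  obtain ⟨hc, -⟩ := isInverseOf_zeroScheme hA _ hs
  have hne : PicF2.zeroScheme (CohB1.tensorPow H a) (InvX.ofSect (σ j)) ≠ ⊤ := fun htop => by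
    obtain ⟨e⟩ := nonempty_iso_of_zeroScheme_eq_top hA _ hs htop
    rw [dot_congr k hdim.le hA hA e e, dot_one_left k hdim.le isInvertible_structure] at hsq
    exact absurd hsq (lt_irrefl _)
  have h1 := degOn_effCartier_pos k hdim hc hne hM h
  rw [← dot_section_eq k hdim.le hA hM _ hs, dot_tensorPow_left k hdim.le hH.1 hM, dot_comm k hdim.le hH.1 hM] at h1
  exact pos_of_mul_pos_right h1 (by positivity)

include hdim in
theorem exists_growth {L H : X.Modules} (hL : PicF.IsInvertible L) (hH : CohB1.IsAmple H)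
    (hLH : 0 < dot k L H) (hLL : 0 < dot k L L) (v : ℕ) :
    ∃ c, 0 < c ∧ v < Module.finrank k (Coh.HH X (CohB1.tensorPow L c) 0) := by
  haveI := noeth k (X := X)
  haveI : X.IsSeparated := ⟨by
    rw [← Limits.terminal.comp_from (X ↘ Spec (CommRingCat.of k))]
    infer_instance⟩
  obtain ⟨n₀, hn₀⟩ := exists_bound_h2 k hdim hH
  set b := 2 * (Curv2.euler k X L - Curv2.euler k X (Coh.structureModule X)) - dot k L L with hb
  set e := 2 * Curv2.euler k X (Coh.structureModule X) with he
  set n := n₀.toNat + b.natAbs + e.natAbs + 2 * v + 1 with hn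
  refine ⟨n, by omega, ?_⟩
  have hP := H23.PicMul.isInvertible_tensorPow hL n
  haveI := hn₀ _ hP (by
    rw [dot_tensorPow_left k hdim.le hL hH.1]
    have h1 : (n : ℤ) * 1 ≤ n * dot k L H := mul_le_mul_of_nonneg_left hLH (by positivity)
    omega)
  have hpos : 2 * (v : ℤ) < 2 * Curv2.euler k X (CohB1.tensorPow L n) := by
    rw [two_mul_euler_tensorPow k hdim.le hL n, ← hb, ← he]
    have h1 : (n : ℤ) * n * 1 ≤ n * n * dot k L L := mul_le_mul_of_nonneg_left hLL (by positivity)
    have hbn : |b| + |e| + 2 * (v : ℤ) + 1 ≤ n := by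
      rw [← Int.natCast_natAbs b, ← Int.natCast_natAbs e]
      exact_mod_cast (by omega : b.natAbs + e.natAbs + 2 * v + 1 ≤ n)
    have hn1 : (1 : ℤ) ≤ n := by exact_mod_cast (by omega : 1 ≤ n)
    have h3 : (n : ℤ) * (|b| + |e| + 2 * v + 1) ≤ n * n := mul_le_mul_of_nonneg_left hbn (by positivity)
    have h4 : -( (n : ℤ) * |b|) ≤ n * b := by
      rw [← mul_neg]; exact mul_le_mul_of_nonneg_left (neg_abs_le b) (by positivity)
    have h5 : (1 : ℤ) * (|e| + 2 * v + 1) ≤ n * (|e| + 2 * v + 1) := mul_le_mul_of_nonneg_right hn1 (by positivity)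
    nlinarith [neg_abs_le e]
  rw [Euler.euler_eq_sum k _ 3 fun i hi => Snapper.subsingleton_HH_of_dim_le (d := 2) hdim.le
    (ZeroSchX.isQCoh_inv hP) (Nat.lt_of_succ_le hi)] at hpos
  simp only [Finset.sum_range_succ, Finset.sum_range_zero] at hpos
  rw [Module.finrank_zero_of_subsingleton (M := Coh.HH X (CohB1.tensorPow L n) 2)] at hpos
  norm_num at hpos
  omega

include hdim in
/-- The criterion of Nakai and Moishezon on a projective surface. -/
theorem isAmple_of_nakai {L H : X.Modules} (hL : PicF.IsInvertible L) (hH : CohB1.IsAmple H)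
    (hLL : 0 < dot k L L)
    (h : ∀ C : X.IdealSheafData, IsIntegral C.subscheme → topologicalKrullDim (C.support : Set X) = 1 →
      0 < degOn k (ClSub.quotMod C) L) : CohB1.IsAmple L := by
  have hLH := dot_ample_pos_of_curves k hdim hH hL h
  obtain ⟨N, hN⟩ := exists_sections_of_pos k hdim hL hH hLH hLL
  set P := CohB1.tensorPow L (N + 1)
  have hP : PicF.IsInvertible P := H23.PicMul.isInvertible_tensorPow hL (N + 1)
  haveI : Nontrivial (Coh.HH X P 0) := hN (N + 1) (Nat.le_succ N)
  obtain ⟨t, ht⟩ := exists_ne (0 : Coh.HH X P 0)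
  have hPP : 0 < dot k P P := by
    rw [dot_tensorPow_left k hdim.le hL hP, dot_comm k hdim.le hL hP, dot_tensorPow_left k hdim.le hL hL]
    positivity
  have hPH : 0 < dot k P H := by
    rw [dot_tensorPow_left k hdim.le hL hH.1]
    positivity
  refine AmpleX.isAmple_of_tensorPow hL (Nat.succ_pos N) (isAmple_of_growth k hdim hP
    (fun Z i hi hZ hd => ?_) (s := secOf P t) (fun h0 => ht (secOf_eq_zero h0)) (exists_growth k hdim hP hH hPH hPP))
  haveI := hi
  refine isAmple_of_curves k hP (fun C hCi hC => ?_) Z i hd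
  rw [degOn_tensorPow k (isCoh_quotMod k C) (dim_support_quot_curve hC) hL]
  exact mul_pos (by positivity) (h C hCi hC)

end Groth.Agent.SurfInt
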