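import Groth.Agent.SurfInt.Residual
import Groth.Agent.SurfInt.Divisor
import Groth.Agent.SurfInt.Nakai

/-! The sequence `0 → M → M ⊗ N → O_D ⊗ (M ⊗ N) → 0` of a non-zero section of `N`. -/

noncomputable section

set_option linter.style.haveILetI false
set_option linter.unusedSectionVars false
set_option backward.isDefEq.respectTransparency false
set_option backward.isDefEq.respectTransparency.types false

universe u

open CategoryTheory CategoryTheory.Limits AlgebraicGeometry TopologicalSpace Opposite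

namespace Groth.Agent.SurfInt

open Groth.Agent Groth.Agent.AModX Groth.Agent.InvX

variable {X : Scheme.{u}}

/-- `O ⊗ P ≅ P`, on frames. -/
theorem exists_unit_iso {P : X.Modules} (hP : PicF.IsInvertible P) :
    ∃ u : (AmpleVan.tw P).obj (Coh.structureModule X) ≅ P, ∀ (U : X.Opens) (k : Γ(P, U)), IsFrame k →
      u.hom.app U (tmul (show Γ(Coh.structureModule X, U) from (1 : Γ(X, U))) k) = k := by
  choose U hU k hk using fun x => exists_frame hP x
  let O := Coh.structureModule X
  let one' : ∀ W : X.Opens, Γ(O, W) := fun W => (show Γ(Coh.structureModule X, W) from (1 : Γ(X, W)))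
  let f : ∀ x, Γ((AmpleVan.tw P).obj O, U x) := fun x => tmul (one' (U x)) (k x)
  have hf : ∀ x, IsFrame (f x) := fun x => isFrame_tmul (isFrame_one _) (hk x)
  have hcov : ∀ z : X, ∃ x, z ∈ U x := fun z => ⟨z, hU z⟩
  have hone : ∀ (W V : X.Opens) (h : V ≤ W), res O h (one' W) = one' V := fun W V h => map_one (resR h)
  let u : (AmpleVan.tw P).obj O ⟶ P := ofFrames (M := (AmpleVan.tw P).obj O) (N := P)
    (U := U) (e := f) (n := k) hcov hf (fun x y W hx hy g hg => by
      obtain ⟨p, hp⟩ := (hk x).exists_coord hx (res P hy (k y))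
      have : g = p := (hf x).coord_unique hx (by
        rw [← hg]
        show res (CohB1.tensorMod O P) hy (tmul _ _) = p • res (CohB1.tensorMod O P) hx (tmul _ _)
        rw [res_tmul, res_tmul, hone, hone, hp, tmul_smul_right])
      exact this ▸ hp)
  have hu : ∀ x, u.app (U x) (f x) = k x := fun x => ofFrames_app _ _ _ x
  haveI : IsIso u := isIso_of_frames' u _ hcov f hf fun x => (hu x).symm ▸ hk x
  refine ⟨asIso u, fun V m _ => AModX.eq_of_locally _ _ fun p hp => ?_⟩
  refine ⟨V ⊓ U p, inf_le_left, ⟨hp, hU p⟩, ?_⟩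
  obtain ⟨c, hc⟩ := (hk p).exists_coord (inf_le_right : V ⊓ U p ≤ U p) (res P inf_le_left m)
  show res P inf_le_left (u.app V (tmul (one' V) m)) = res P inf_le_left m
  rw [← app_res]
  refine (congrArg (u.app (V ⊓ U p)) (show res (CohB1.tensorMod O P) inf_le_left (tmul (one' V) m) =
    c • res ((AmpleVan.tw P).obj O) (inf_le_right : V ⊓ U p ≤ U p) (f p) by
      show _ = c • res (CohB1.tensorMod O P) _ (tmul _ _)
      rw [res_tmul, res_tmul, hone, hone, hc, tmul_smul_right])).trans ?_
  rw [Scheme.Modules.Hom.app_smul, app_res, hu, ← hc]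

variable [IsIntegral X]

/-- Multiplication by a non-zero section, completed to a short exact sequence. -/
theorem exists_section_seq {M N : X.Modules} (hM : PicF.IsInvertible M) (hN : PicF.IsInvertible N)
    {σ : Γ(N, ⊤)} (hσ : σ ≠ 0) :
    ∃ (π : (AmpleVan.tw N).obj M ⟶
        CohB1.tensorMod (ClSub.quotMod (PicF2.zeroScheme N (ofSect σ))) ((AmpleVan.tw N).obj M))
      (w : AmpleVan.mulSec σ M ≫ π = 0), (ShortComplex.mk (AmpleVan.mulSec σ M) π w).ShortExact := by
  classical
  set s := ofSect σ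
  set D := PicF2.zeroScheme N s
  let P := (AmpleVan.tw N).obj M
  have hs : s ≠ 0 := CurveEmbed.ofSect_ne_zero hσ
  have hP : PicF.IsInvertible P := isInvertible_tensorMod hM hN
  have hdata : ∀ p : X, ∃ (V : X.affineOpens) (_ : p ∈ (V : X.Opens)) (m : Γ(M, V.1)) (f : Γ(N, V.1))
      (c : Γ(X, V.1)), IsFrame m ∧ IsFrame f ∧ res N (le_top : V.1 ≤ ⊤) σ = c • f ∧ ArSurfX.IsGen D V c := by
    intro p
    obtain ⟨W, hpW, m, f, hm, hf⟩ := exists_frame₂ hM hN p
    obtain ⟨_, ⟨V, hV, rfl⟩, hpV, hVW⟩ := X.isBasis_affineOpens.exists_subset_of_mem_open hpW W.isOpen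
    obtain ⟨c, hc⟩ := (hf.res hVW).exists_coord le_rfl (res N (le_top : V ≤ ⊤) σ)
    rw [res_self] at hc
    have hsv : ZeroSchX.sv s V = c • res N hVW f := by
      rw [← hc]
      exact (CurveEmbed.ofSect_app σ V 1).trans (one_smul _ _)
    refine ⟨⟨V, hV⟩, hpV, _, _, c, hm.res hVW, hf.res hVW, hc, ?_, ?_⟩
    · exact mem_nonZeroDivisors_iff_right.2 fun r hr => sv_coord_cancel hN s hs hsv r hr
    · rw [ZeroSchX.ideal_zeroScheme hN, ZeroSchX.zeroIdealOn_eq_span s (hf.res hVW) hsv]
  choose V hpV m f c hm hf hc hgen using hdata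
  have hcov : ∀ z : X, ∃ x, z ∈ (V x).1 := fun z => ⟨z, hpV z⟩
  choose n hn hn' using fun x => ArSurfX.exists_frame_of_isGen (hgen x)
  obtain ⟨u, hu⟩ := exists_unit_iso hP
  haveI := AmpleVan.isEquivalence_tw hP
  haveI : (AmpleVan.tw P).Additive := Functor.additive_of_preserves_binary_products _
  have hS := (shortExact_ideal D).map_of_exact (AmpleVan.tw P)
  haveI : Mono ((AmpleVan.tw P).map (ClSub.idealModι D)) := hS.mono_f
  haveI : Epi ((AmpleVan.tw P).map (ClSub.toSubscheme D)) := hS.epi_g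
  let k : ∀ x, Γ(P, (V x).1) := fun x => tmul (m x) (f x)
  have hk : ∀ x, IsFrame (k x) := fun x => isFrame_tmul (hm x) (hf x)
  let one' : ∀ x, Γ(Coh.structureModule X, (V x).1) :=
    fun x => (show Γ(Coh.structureModule X, (V x).1) from (1 : Γ(X, (V x).1)))
  have hι : ∀ x, ((AmpleVan.tw P).map (ClSub.idealModι D) ≫ u.hom).app (V x).1 (tmul (n x) (k x)) =
      c x • k x := fun x => by
    show u.hom.app _ (((AmpleVan.tw P).map (ClSub.idealModι D)).app _ (tmul (n x) (k x))) = _
    rw [AmpleVan.map_tmul_left,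
      show (ClSub.idealModι D).app (V x).1 (n x) = c x • one' x from
        (hn x).trans (mul_one _).symm, tmul_smul_left, Scheme.Modules.Hom.app_smul, hu _ _ (hk x)]
  have hmul : ∀ x, (AmpleVan.mulSec σ M).app (V x).1 (m x) = c x • k x := fun x => by
    rw [AmpleVan.mulSec_app, hc, tmul_smul_right]
  let π := u.inv ≫ (AmpleVan.tw P).map (ClSub.toSubscheme D)
  have hι0 : ((AmpleVan.tw P).map (ClSub.idealModι D) ≫ u.hom) ≫ π = 0 := by
    simp only [π, Category.assoc, Iso.hom_inv_id_assoc]
    rw [← Functor.map_comp, show ClSub.idealModι D ≫ ClSub.toSubscheme D = 0 from kernel.condition _,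
      Functor.map_zero]
  have hw : AmpleVan.mulSec σ M ≫ π = 0 := hom_ext_of_frames _ hcov m hm fun x => by
    have h1 := congr(($hι0).app (V x).1 (tmul (n x) (k x)))
    show π.app _ ((AmpleVan.mulSec σ M).app (V x).1 (m x)) = _
    rw [hmul, ← hι x]
    exact h1
  haveI : Epi π := epi_comp _ _
  have hT : (ShortComplex.mk _ π hι0).ShortExact := by
    refine ShortComplex.shortExact_of_iso ?_ hS
    exact ShortComplex.isoMk (Iso.refl _) u (Iso.refl _) (Category.id_comp _)
      ((u.hom_inv_id_assoc _).trans (Category.comp_id _).symm)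
  haveI := hT.mono_f
  obtain ⟨z, hz⟩ := KernelFork.IsLimit.lift' hT.exact.fIsKernel (AmpleVan.mulSec σ M) hw
  have hzm : ∀ x, z.app (V x).1 (m x) = tmul (n x) (k x) := fun x => by
    refine QCoh.app_injective ((AmpleVan.tw P).map (ClSub.idealModι D) ≫ u.hom) (V x).1 ?_
    exact (congr(($hz).app (V x).1 (m x))).trans ((hmul x).trans (hι x).symm)
  haveI : IsIso z := isIso_of_frames' z _ hcov m hm fun x => (hzm x).symm ▸ isFrame_tmul (hn' x) (hk x)
  refine ⟨π, hw, ShortComplex.shortExact_of_iso ?_ hT⟩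
  refine ShortComplex.isoMk (asIso z).symm (Iso.refl _) (Iso.refl _) ?_ ((Category.id_comp _).trans (Category.comp_id _).symm)
  show inv z ≫ AmpleVan.mulSec σ M = _ ≫ 𝟙 _
  rw [Category.comp_id, IsIso.inv_comp_eq]
  exact hz.symm

end Groth.Agent.SurfInt
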