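import Groth.Agent.SurfInt.NumConn
import Groth.Agent.SurfInt.TwistStalk
import Groth.Agent.SurfInt.SectionSeq
import Groth.Agent.LA96.FibreStalk

/-! Intersection numbers of divisors meeting in finitely many points. -/

noncomputable section

set_option linter.style.haveILetI false
set_option linter.unusedSectionVars false
set_option backward.isDefEq.respectTransparency false
set_option backward.isDefEq.respectTransparency.types false

universe u

open CategoryTheory CategoryTheory.Limits AlgebraicGeometry TopologicalSpace Opposite IsLocalRing Pointwise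

namespace Groth.Agent.SurfInt

open Groth.Agent

/-- In a Cohen–Macaulay local ring of dimension at least two, two elements generating an ideal primary
to the maximal one form a regular sequence. -/
theorem eq_zero_mod_of_cm {R : Type u} [CommRing R] [LocCoh.IsCohenMacaulayLocalRing R] [IsNoetherianRing R]
    (hdim : (2 : WithBot ℕ∞) ≤ ringKrullDim R) {c d : R} (hcm : c ∈ maximalIdeal R) (hc : IsSMulRegular R c)
    (hp : ∀ p : Ideal R, p.IsPrime → c ∈ p → d ∈ p → p = maximalIdeal R) {a : R}
    (ha : d * a ∈ Ideal.span {c}) : a ∈ Ideal.span {c} := by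
  have h2 : (2 : ℕ∞) ≤ LocCoh.depth R R := by
    rw [← LA96.depth_eq_ringKrullDim R] at hdim
    exact WithBot.coe_le_coe.1 hdim
  have h1 : (1 : ℕ∞) ≤ LocCoh.depth R (QuotSMulTop c R) := by
    have e : LocCoh.depth R (QuotSMulTop c R) + 1 = LocCoh.depth R R :=
      LC.idealDepth_quotSMulTop_add_one (maximalIdeal R) hcm hc
    rw [← e] at h2
    exact WithTop.le_of_add_le_add_right (by simp) ((show (1 : ℕ∞) + 1 = 2 by norm_num).le.trans h2)
  have hkill : ∀ z : QuotSMulTop c R, c • z = 0 := fun z => by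
    obtain ⟨y, rfl⟩ := Submodule.mkQ_surjective _ z
    rw [← map_smul, Submodule.mkQ_apply, Submodule.Quotient.mk_eq_zero]
    exact Submodule.smul_mem_pointwise_smul y c ⊤ Submodule.mem_top
  have hass := Alg6.one_le_depth_iff.1 h1
  have hreg : IsSMulRegular (QuotSMulTop c R) d := Alg6.isSMulRegular_iff_forall_ass.2 fun p hp' hd => by
    obtain ⟨hpp, z, hz⟩ := Alg6.mem_ass_iff.1 hp'
    exact hass (hp p hpp ((hz c).2 (hkill z)) hd ▸ hp')
  have key : ∀ r : R, Submodule.Quotient.mk (p := c • (⊤ : Submodule R R)) r = 0 ↔ r ∈ Ideal.span {c} := fun r => by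
    rw [Submodule.Quotient.mk_eq_zero, ← Submodule.ideal_span_singleton_smul, Ideal.smul_eq_mul, Ideal.mul_top]
  refine (key a).1 (isSMulRegular_iff_right_eq_zero_of_smul.1 hreg _ ?_)
  rw [← Submodule.Quotient.mk_smul, smul_eq_mul]
  exact (key _).2 ha

variable {X : Scheme.{u}}

theorem st_unit_germ (C : X.IdealSheafData) {V : X.Opens} {x : X} (hx : x ∈ V) (r : Γ(X, V)) :
    st (ClSub.toSubscheme C) x ((Coh.structureModule X).presheaf.germ V x hx r) =
      (ClSub.quotMod C).presheaf.germ V x hx (C.subschemeι.app V r) :=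
  st_germ _ hx _

/-- The kernel of `O_{X,x} → (O_C)_x` is generated by a local equation. -/
theorem stalk_toSubscheme_eq_zero {C : X.IdealSheafData} {V : X.affineOpens} {c : Γ(X, V.1)}
    (hc : ArSurfX.IsGen C V c) {x : X} (hx : x ∈ V.1) {a : X.presheaf.stalk x}
    (h : st (ClSub.toSubscheme C) x (a • oneSt x) = 0) : a ∈ Ideal.span {X.presheaf.germ V.1 x hx c} := by
  have hS := (shortExact_ideal C).map_of_exact (DerSch.stalkFunctor X x)
  obtain ⟨l, hl⟩ := (ShortComplex.moduleCat_exact_iff _).1 hS.exact (a • oneSt x) h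
  obtain ⟨n, hn, hn'⟩ := ArSurfX.exists_frame_of_isGen hc
  obtain ⟨b, rfl⟩ := (hn'.germ_bijective hx).2 l
  change st (ClSub.idealModι C) x (b • _) = _ at hl
  rw [map_smul, st_germ] at hl
  have hv : (ClSub.idealModι C).app V.1 n = c • (show Γ(Coh.structureModule X, V.1) from (1 : Γ(X, V.1))) :=
    hn.trans (mul_one c).symm
  rw [hv, QCoh.germ_smul', smul_smul] at hl
  have h1 : (Coh.structureModule X).presheaf.germ V.1 x hx (1 : Γ(X, V.1)) = oneSt x := by
    rw [oneSt, ← InvX.germ_res' (M := Coh.structureModule X) (le_top : V.1 ≤ ⊤) hx]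
    congr 1
    exact (map_one (AModX.resR (le_top : V.1 ≤ ⊤))).symm
  refine Ideal.mem_span_singleton'.2 ⟨b, ((InvX.isFrame_one (X := X) ⊤).germ_bijective (x := x) trivial).1 ?_⟩
  exact (congrArg ((b * X.presheaf.germ V.1 x hx c) • ·) h1.symm).trans hl

variable (k : Type u) [Field k] [X.Over (Spec (CommRingCat.of k))] [IsProper (X ↘ Spec (CommRingCat.of k))]

include k in
theorem isClosed_of_mem_finite {S : Set X} (hS : IsClosed S) (hfin : S.Finite) {x : X} (hx : x ∈ S) :
    IsClosed ({x} : Set X) := by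
  haveI : JacobsonSpace X := LocallyOfFiniteType.jacobsonSpace (X ↘ Spec (CommRingCat.of k))
  have h1 := JacobsonSpace.closure_inter_closedPoints (X := X) (Z := S) hS
  have h2 : IsClosed (S ∩ closedPoints X) := by
    rw [← Set.biUnion_of_singleton (S ∩ closedPoints X)]
    exact (hfin.inter_of_left _).isClosed_biUnion fun y hy => hy.2
  rw [h2.closure_eq] at h1
  rw [← h1] at hx
  exact hx.2

include k in
/-- A closed point of a scheme of pure dimension two has a local ring of dimension at least two. -/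
theorem two_le_dim_stalk (hdim : ∀ Z ∈ irreducibleComponents (X : Type u), topologicalKrullDim Z = 2) {x : X}
    (hx : IsClosed ({x} : Set X)) : (2 : WithBot ℕ∞) ≤ ringKrullDim (X.presheaf.stalk x) := by
  let f := X ↘ Spec (CommRingCat.of k)
  obtain ⟨b, hb, -, hle⟩ := VarDim.exists_deg_add_stalk f x
  obtain ⟨η, hη⟩ := QuasiSober.sober (isIrreducible_irreducibleComponent (x := x)) isClosed_irreducibleComponent
  have hsp : η ⤳ x := hη.specializes mem_irreducibleComponent
  have h2 : VarDim.deg f η = 2 := by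
    have h := VarDim.topologicalKrullDim_closure_singleton f η
    rw [hη.def, hdim _ (irreducibleComponent_mem_irreducibleComponents x)] at h
    have h' := WithBot.coe_injective (h.symm.trans (rfl : (2 : WithBot ℕ∞) = ((2 : ℕ∞) : WithBot ℕ∞)))
    exact_mod_cast h'
  have h0 : VarDim.deg f x = 0 := by
    have h := VarDim.topologicalKrullDim_closure_singleton f x
    rw [hx.closure_eq] at h
    have h1 : topologicalKrullDim ({x} : Set X) ≤ 0 := topologicalKrullDim_zero_of_discreteTopology _
    rw [h] at h1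
    have h' : ((VarDim.deg f x : ℕ∞)) ≤ 0 := by exact_mod_cast h1
    simpa using h'
  have h3 := hle η hsp
  rw [hb]
  exact_mod_cast (show 2 ≤ b by omega)

include k in
/-- The equation of `D` is a non-zero-divisor on `O_C`. -/
theorem injective_mult (hdim : ∀ Z ∈ irreducibleComponents (X : Type u), topologicalKrullDim Z = 2)
    (hCM : ∀ x : X, LocCoh.IsCohenMacaulayLocalRing (X.presheaf.stalk x)) {C D : X.IdealSheafData}
    (hfin : ((C ⊔ D).support : Set X).Finite) {V : X.affineOpens} {c d : Γ(X, V.1)}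
    (hc : ArSurfX.IsGen C V c) (hd : ArSurfX.IsGen D V d) {x : X} (hx : x ∈ V.1) {a : X.presheaf.stalk x}
    (h : X.presheaf.germ V.1 x hx d * a ∈ Ideal.span {X.presheaf.germ V.1 x hx c}) :
    a ∈ Ideal.span {X.presheaf.germ V.1 x hx c} := by
  haveI := noeth k (X := X)
  set R := X.presheaf.stalk x
  set c' := X.presheaf.germ V.1 x hx c
  set d' := X.presheaf.germ V.1 x hx d
  by_cases hcm : c' ∈ maximalIdeal R
  swap
  · rw [Ideal.span_singleton_eq_top.2 (not_not.1 hcm)]; trivial
  by_cases hdm : d' ∈ maximalIdeal R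
  swap
  · exact (Ideal.unit_mul_mem_iff_mem _ (not_not.1 hdm)).1 h
  have hmem : ∀ y : X, (hy : y ∈ V.1) → ¬ IsUnit (X.presheaf.germ V.1 y hy c) →
      ¬ IsUnit (X.presheaf.germ V.1 y hy d) → y ∈ ((C ⊔ D).support : Set X) := by
    intro y hy hyc hyd
    refine (((C ⊔ D).coe_support_inter V).ge ⟨?_, hy⟩).1
    rw [Scheme.mem_zeroLocus_iff]
    intro g hg hbo
    rw [Scheme.IdealSheafData.ideal_sup, Pi.sup_apply, hc.2, hd.2] at hg
    obtain ⟨g₁, h₁, g₂, h₂, rfl⟩ := Submodule.mem_sup.1 hg
    obtain ⟨u, rfl⟩ := Ideal.mem_span_singleton'.1 h₁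
    obtain ⟨v, rfl⟩ := Ideal.mem_span_singleton'.1 h₂
    rw [Scheme.mem_basicOpen _ _ _ hy] at hbo
    refine (show ¬ IsUnit (X.presheaf.germ V.1 y hy (u * c + v * d)) from ?_) hbo
    rw [← mem_nonunits_iff, ← IsLocalRing.mem_maximalIdeal, map_add, map_mul, map_mul]
    exact Ideal.add_mem _ (Ideal.mul_mem_left _ _ hyc) (Ideal.mul_mem_left _ _ hyd)
  have hxS := hmem x hx hcm hdm
  have hxcl := isClosed_of_mem_finite k (C ⊔ D).support.isClosed hfin hxS
  haveI := hCM x
  refine eq_zero_mod_of_cm (two_le_dim_stalk k hdim hxcl) hcm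
    (isRegular_iff_mem_nonZeroDivisors.2 (hc.germ_nzd hx)).left.isSMulRegular (fun p hp hcp hdp => ?_) h
  let P : Spec (X.presheaf.stalk x) := ⟨p, hp⟩
  have hsp : X.fromSpecStalk x P ⤳ x := by
    have : X.fromSpecStalk x P ∈ Set.range (X.fromSpecStalk x) := ⟨P, rfl⟩
    rwa [Scheme.range_fromSpecStalk] at this
  set y := X.fromSpecStalk x P with hy
  have hyV : y ∈ V.1 := hsp.mem_open V.1.2 hx
  have hun : ∀ g : Γ(X, V.1), X.presheaf.germ V.1 x hx g ∈ p → ¬ IsUnit (X.presheaf.germ V.1 y hyV g) := by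
    intro g hgp hu
    have hb : P ∈ (X.fromSpecStalk x) ⁻¹ᵁ X.basicOpen g := (Scheme.mem_basicOpen _ _ _ hyV).2 hu
    rw [Scheme.preimage_basicOpen, Scheme.fromSpecStalk_app hx] at hb
    simp only [CommRingCat.comp_apply] at hb
    rw [Scheme.basicOpen_res] at hb
    have hb' := hb.2
    rw [basicOpen_eq_of_affine] at hb'
    exact hb' hgp
  have hyS := hmem y hyV (hun c hcp) (hun d hdp)
  have hycl := isClosed_of_mem_finite k (C ⊔ D).support.isClosed hfin hyS
  have hyx : x = y := by
    have := specializes_iff_mem_closure.1 hsp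
    rwa [hycl.closure_eq] at this
  have hP : P = closedPoint (X.presheaf.stalk x) := by
    apply (X.fromSpecStalk x).isEmbedding.injective
    rw [Scheme.fromSpecStalk_closedPoint]
    exact hyx.symm
  exact congrArg PrimeSpectrum.asIdeal hP

end Groth.Agent.SurfInt
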