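import Groth.Agent.SurfInt.RatCycle
import Groth.Agent.ArSurfX.PullIdeal
import Groth.Agent.CurveEmbed.Points
import Groth.Agent.ModPairLib.Basic

/-! Fibres over closed points of a curve. -/

noncomputable section

set_option linter.style.haveILetI false
set_option linter.unusedSectionVars false
set_option backward.isDefEq.respectTransparency false
set_option backward.isDefEq.respectTransparency.types false

universe u

open CategoryTheory CategoryTheory.Limits AlgebraicGeometry TopologicalSpace Opposite

namespace Groth.Agent.SurfInt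

open Groth.Agent

variable (k : Type u) [Field k] {X : Scheme.{u}} [X.Over (Spec (CommRingCat.of k))]
  [IsProper (X ↘ Spec (CommRingCat.of k))] {Y : Scheme.{u}}

/-- A module pulled back along a map that is constant on a closed subscheme has degree zero there. -/
theorem degOn_pullback_const (g : X ⟶ Y) {M : Y.Modules} (hM : PicF.IsInvertible M) (p : Y)
    (C : X.IdealSheafData) (hconst : ∀ x ∈ (C.support : Set X), g x = p) :
    degOn k (ClSub.quotMod C) ((Scheme.Modules.pullback g).obj M) = 0 := by
  letI := overComp k C.subschemeι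
  haveI := isProper_comp k C.subschemeι rfl
  obtain ⟨U, hp, ⟨e⟩⟩ := hM p
  have hr : Set.range (C.subschemeι ≫ g) ⊆ Set.range U.ι := by
    rintro _ ⟨x, rfl⟩
    rw [Scheme.Opens.range_ι]
    have h := hconst _ (C.range_subschemeι.le ⟨x, rfl⟩)
    show g (C.subschemeι x) ∈ U
    rw [h]
    exact hp
  let l := IsOpenImmersion.lift U.ι (C.subschemeι ≫ g) hr
  have hl : l ≫ U.ι = C.subschemeι ≫ g := IsOpenImmersion.lift_fac _ _ _
  obtain ⟨eO⟩ := PicClLib.nonempty_pullback_structureModule l
  let ii : (Scheme.Modules.pullback C.subschemeι).obj ((Scheme.Modules.pullback g).obj M) ≅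
      Coh.structureModule C.subscheme :=
    (Scheme.Modules.pullbackComp C.subschemeι g).app M ≪≫ (Scheme.Modules.pullbackCongr hl.symm).app M ≪≫
      ((Scheme.Modules.pullbackComp l U.ι).app M).symm ≪≫
      (Scheme.Modules.pullback l).mapIso (((Scheme.Modules.restrictFunctorIsoPullback U.ι).app M).symm ≪≫ e) ≪≫ eO
  have h1 := degOn_push k C.subschemeι rfl (PicClLib.isInvertible_pullback g hM)
  have h2 := degOn_push k C.subschemeι rfl (isInvertible_structure (X := X))
  obtain ⟨eX⟩ := PicClLib.nonempty_pullback_structureModule C.subschemeι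
  rw [degOn_one] at h2
  have hd : ∀ {A B : C.subscheme.Modules}, (A ≅ B) → Curv2.deg k C.subscheme A 1 = Curv2.deg k C.subscheme B 1 :=
    fun {A B} i => by rw [Curv2.deg, Curv2.deg, CurveCohLib.euler_congr (k := k) i]
  show degOn k ((Scheme.Modules.pushforward C.subschemeι).obj (Coh.structureModule C.subscheme)) _ = 0
  rw [h1, hd ii, ← hd eX, ← h2]

variable [IsIntegral X]
  [Y.Over (Spec (CommRingCat.of k))] [IsProper (Y ↘ Spec (CommRingCat.of k))] [IsIntegral Y]

include k in
/-- The fibre over a regular closed point of a curve is an effective Cartier divisor with the module of the point. -/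
theorem fibre_effCartier (f : X ⟶ Y) [Surjective f] (hdimY : topologicalKrullDim Y = 1) {p : Y}
    (hp : IsClosed ({p} : Set Y)) (hn : IsIntegrallyClosed (Y.presheaf.stalk p)) :
    BlowUp.IsEffCartierIdeal (f.fiberι p).ker ∧
      Nonempty ((Scheme.Modules.pullback f).obj (ClSub.idealMod (CurvePoint.ptIdeal p hp)) ≅
        ClSub.idealMod (f.fiberι p).ker) ∧
      (((f.fiberι p).ker.support : Set X) = f ⁻¹' {p}) := by
  let j := Y.fromSpecResidueField p
  haveI : IsClosedImmersion j := .of_isPreimmersion _ (by rw [Scheme.range_fromSpecResidueField]; exact hp)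
  have hker : (f.fiberι p).ker = j.ker.comap f := Scheme.IdealSheafData.ker_fst_of_isClosedImmersion j f
  have hjk : j.ker = CurvePoint.ptIdeal p hp := by
    obtain ⟨e, he⟩ := exists_iso_subscheme j
    haveI : IsReduced j.ker.subscheme := isReduced_of_isOpenImmersion e.inv
    have hs : j.ker.support = ⟨{p}, hp⟩ := Closeds.ext (by
      show (j.ker.support : Set Y) = {p}
      rw [Scheme.Hom.support_ker, Scheme.range_fromSpecResidueField, hp.closure_eq])
    show _ = Scheme.IdealSheafData.vanishingIdeal ⟨{p}, hp⟩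
    rw [← hs]
    exact AlgSpLib.CartierRegular.eq_vanishingIdeal_support j.ker
  have hP := CurveEmbed.isEffCartier_point k hdimY hp hn
  rw [hker, hjk]
  have hsupp : (((CurvePoint.ptIdeal p hp).comap f).support : Set X) = f ⁻¹' {p} := by
    rw [Scheme.IdealSheafData.support_comap, TopologicalSpace.Closeds.coe_preimage]
    show f ⁻¹' ((CurvePoint.ptIdeal p hp).support : Set Y) = _
    rw [CurvePoint.ptIdeal, Scheme.IdealSheafData.coe_support_vanishingIdeal]
    rfl
  have hgen : genericPoint X ∉ f ⁻¹' {p} := fun h => by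
    have hY : ∀ y : Y, y = p := fun y => by
      obtain ⟨x, rfl⟩ := f.surjective y
      have hx := (genericPoint_specializes x).map f.continuous
      rw [show f (genericPoint X) = p from h] at hx
      exact hx.mem_closed hp rfl
    haveI : Subsingleton Y := ⟨fun a b => (hY a).trans (hY b).symm⟩
    haveI : Subsingleton (IrreducibleCloseds Y) := ⟨fun A B => IrreducibleCloseds.ext (Set.ext fun y => by
      obtain ⟨a, ha⟩ := A.isIrreducible.nonempty
      obtain ⟨b, hb⟩ := B.isIrreducible.nonempty
      exact ⟨fun _ => Subsingleton.elim b y ▸ hb, fun _ => Subsingleton.elim a y ▸ ha⟩)⟩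
    have h0 : topologicalKrullDim Y ≤ 0 := Order.krullDim_nonpos_of_subsingleton
    rw [hdimY] at h0
    exact absurd h0 (by norm_num)
  have hF : BlowUp.IsEffCartierIdeal ((CurvePoint.ptIdeal p hp).comap f) := by
    intro x
    obtain ⟨V, hV, b, hb, hb'⟩ :=
      ((ModPairLib.isLocPrincipal_of_isEffCartier hP).comap f).exists_basicOpen x
    haveI : Nonempty V.1 := ⟨⟨x, hV⟩⟩
    refine ⟨V, hV, b, mem_nonZeroDivisors_of_ne_zero fun h0 => ?_, hb⟩
    have hη : genericPoint X ∈ V.1 ⊓ ModPair.interior ((CurvePoint.ptIdeal p hp).comap f) :=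
      ⟨(genericPoint_spec X).mem_open_set_iff V.1.isOpen |>.2 ⟨x, Set.mem_univ _, hV⟩,
        fun hs => hgen (hsupp ▸ hs)⟩
    rw [hb', h0, Scheme.basicOpen_zero] at hη
    exact hη
  exact ⟨hF, ArSurfX.nonempty_pullback_idealMod hP f hF, hsupp⟩

include k in
theorem degOn_fibre_nonpos [IsAlgClosed k] (f : X ⟶ Y) [Surjective f] (hdimY : topologicalKrullDim Y = 1) {p : Y}
    (hp : IsClosed ({p} : Set Y)) (hn : IsIntegrallyClosed (Y.presheaf.stalk p)) (C : X.IdealSheafData)
    [IsIntegral C.subscheme] (hC : topologicalKrullDim (C.support : Set X) = 1) :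
    degOn k (ClSub.quotMod C) (ClSub.idealMod (f.fiberι p).ker) ≤ 0 := by
  obtain ⟨hF, ⟨e⟩, hs⟩ := fibre_effCartier k f hdimY hp hn
  by_cases hg : genC C ∈ ((f.fiberι p).ker.support : Set X)
  · rw [← degOn_congr k e, degOn_pullback_const k f
      (ArSurfX.isInvertible_idealMod (CurveEmbed.isEffCartier_point k hdimY hp hn)) p C fun x hx => ?_]
    have h := (support_subset_iff C (Z := (f.fiberι p).ker.support)).2 hg hx
    rw [hs] at h
    exact h
  · exact degOn_curve_ideal_nonpos k C hC (ArSurfX.isInvertible_idealMod hF) hg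

end Groth.Agent.SurfInt
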