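import Groth.Agent.SurfInt.ContractSect
import Groth.Agent.SurfInt.Conn
import Groth.Agent.CurveCohLib.RankTwo

/-! Dimension estimates for cohomology of invertible modules on a surface. -/

noncomputable section

set_option linter.style.haveILetI false
set_option linter.unusedSectionVars false
set_option backward.isDefEq.respectTransparency false
set_option backward.isDefEq.respectTransparency.types false

universe u

open CategoryTheory CategoryTheory.Limits AlgebraicGeometry TopologicalSpace Opposite
open scoped Groth.Agent.H23.PicMul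

namespace Groth.Agent.SurfInt

open Groth.Agent AmpleVan
open Groth.Agent.PnCoh.Finite (mapLin deltaLin)

variable (k : Type u) [Field k] {X : Scheme.{u}} [X.Over (Spec (CommRingCat.of k))]

/-- Dimension of cohomology on classes. -/
def hCl (n : ℕ) : PicF.Cl X → ℕ :=
  Quot.lift (fun A => Module.finrank k (Coh.HH X A n)) fun _ _ ⟨e⟩ =>
    (CurveCohLib.hhEquiv (k := k) e n).finrank_eq

theorem hCl_cl (n : ℕ) (A : X.Modules) : hCl k n (PicF.cl A) = Module.finrank k (Coh.HH X A n) := rfl

theorem finrank_congr {A B : X.Modules} (e : A ≅ B) (n : ℕ) :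
    Module.finrank k (Coh.HH X A n) = Module.finrank k (Coh.HH X B n) :=
  (CurveCohLib.hhEquiv (k := k) e n).finrank_eq

/-- Additive functions on invertible modules are linear on multi-twists. -/
theorem additive_multiTwist (f : X.Modules → ℤ)
    (h1 : f (Coh.structureModule X) = 0)
    (hmul : ∀ A B : X.Modules, PicF.IsInvertible A → PicF.IsInvertible B →
      f (CohB1.tensorMod A B) = f A + f B)
    {r : ℕ} (O : Fin r → X.Modules) (hO : ∀ i, PicF.IsInvertible (O i)) (e : Fin r → ℕ) :
    PicF.IsInvertible (FGA.multiTwist O e) ∧ f (FGA.multiTwist O e) = ∑ i, (e i : ℤ) * f (O i) := by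
  have hpow : ∀ i (n : ℕ), f (CohB1.tensorPow (O i) n) = n * f (O i) := fun i n => by
    induction n with
    | zero => simpa [CohB1.tensorPow] using h1
    | succ n ih =>
      show f (CohB1.tensorMod (CohB1.tensorPow (O i) n) (O i)) = _
      rw [hmul _ _ (H23.PicMul.isInvertible_tensorPow (hO i) n) (hO i), ih]
      push_cast; ring
  have hlist : ∀ l : List (Fin r),
      PicF.IsInvertible (FGA.tensorList (l.map fun i => CohB1.tensorPow (O i) (e i))) ∧
        f (FGA.tensorList (l.map fun i => CohB1.tensorPow (O i) (e i))) = (l.map fun i => (e i : ℤ) * f (O i)).sum := by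
    intro l
    induction l with
    | nil => exact ⟨isInvertible_structure, h1⟩
    | cons a l ih =>
      refine ⟨H23.PicMul.isInvertible_tensor (H23.PicMul.isInvertible_tensorPow (hO a) _) ih.1, ?_⟩
      show f (CohB1.tensorMod _ _) = _
      rw [hmul _ _ (H23.PicMul.isInvertible_tensorPow (hO a) _) ih.1, ih.2, hpow]
      rfl
  refine ⟨(hlist (List.finRange r)).1, (hlist (List.finRange r)).2.trans ?_⟩
  simp only [← List.ofFn_eq_map, List.sum_ofFn]

theorem cl_multiTwist_mul {r : ℕ} (O : Fin r → X.Modules) (e : Fin r → ℕ) (n : Fin r → ℕ) :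
    PicF.cl (FGA.multiTwist O (e + n)) = PicF.cl (FGA.multiTwist O e) * PicF.cl (FGA.multiTwist O n) := by
  simp only [cl_multiTwist, Pi.add_apply, pow_add, Finset.prod_mul_distrib]

variable [IsProper (X ↘ Spec (CommRingCat.of k))]

theorem nontrivial_of_hom {N : X.Modules} (r : Coh.structureModule X ⟶ N) (hr : r ≠ 0) :
    Nontrivial (Coh.HH X N 0) := by
  by_contra h
  rw [not_nontrivial_iff_subsingleton] at h
  refine hr (CurveRR.hom_ext_one ?_)
  refine (AddEquiv.apply_symm_apply (Sheaf.H.equiv₀ (Coh.toAb N) isTerminalTop) _).symm.trans ?_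
  rw [Subsingleton.elim ((Sheaf.H.equiv₀ (Coh.toAb N) isTerminalTop).symm _) 0]
  exact map_zero _

variable [IsIntegral X]

theorem nontrivial_h0_mul {A B : X.Modules} (hA : PicF.IsInvertible A) (hB : PicF.IsInvertible B)
    (h : Nontrivial (Coh.HH X A 0)) (h' : Nontrivial (Coh.HH X B 0)) :
    Nontrivial (Coh.HH X (CohB1.tensorMod A B) 0) := by
  obtain ⟨s, hs⟩ := exists_section_ne_zero h
  obtain ⟨t, ht⟩ := exists_section_ne_zero h'
  obtain ⟨r, hr⟩ := exists_tensor_section hA hB s hs t ht
  exact nontrivial_of_hom r hr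

theorem nontrivial_h0_multiTwist {r : ℕ} (O : Fin r → X.Modules) (hO : ∀ i, PicF.IsInvertible (O i))
    (h : ∀ i, Nontrivial (Coh.HH X (O i) 0)) (e : Fin r → ℕ) :
    Nontrivial (Coh.HH X (FGA.multiTwist O e) 0) := by
  have h1 : Nontrivial (Coh.HH X (Coh.structureModule X) 0) :=
    nontrivial_of_hom (𝟙 (Coh.structureModule X)) fun h0 =>
      one_ne_zero (α := Γ(X, ⊤)) (congrArg (fun φ => Scheme.Modules.Hom.app φ ⊤ (1 : Γ(X, ⊤))) h0)
  have hpow : ∀ i (n : ℕ), Nontrivial (Coh.HH X (CohB1.tensorPow (O i) n) 0) := fun i n => by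
    induction n with
    | zero => exact h1
    | succ n ih => exact nontrivial_h0_mul (H23.PicMul.isInvertible_tensorPow (hO i) n) (hO i) ih (h i)
  suffices ∀ l : List (Fin r), PicF.IsInvertible (FGA.tensorList (l.map fun i => CohB1.tensorPow (O i) (e i))) ∧
      Nontrivial (Coh.HH X (FGA.tensorList (l.map fun i => CohB1.tensorPow (O i) (e i))) 0) from
    (this (List.finRange r)).2
  intro l
  induction l with
  | nil => exact ⟨isInvertible_structure, h1⟩
  | cons a l ih =>
    exact ⟨H23.PicMul.isInvertible_tensor (H23.PicMul.isInvertible_tensorPow (hO a) _) ih.1,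
      nontrivial_h0_mul (H23.PicMul.isInvertible_tensorPow (hO a) _) ih.1 (hpow a _) ih.2⟩

/-- Twisting by a module with a section does not lose sections. -/
theorem h0_le_tensor {M N : X.Modules} (hM : PicF.IsInvertible M) (hN : PicF.IsInvertible N)
    (h : Nontrivial (Coh.HH X N 0)) :
    Module.finrank k (Coh.HH X M 0) ≤ Module.finrank k (Coh.HH X (CohB1.tensorMod M N) 0) := by
  haveI := noeth k (X := X)
  obtain ⟨t, ht⟩ := exists_ne (0 : Coh.HH X N 0)
  have hσ : secOf N t ≠ 0 := fun h0 => ht (secOf_eq_zero h0)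
  let φ : M ⟶ CohB1.tensorMod M N := mulSec (secOf N t) M
  haveI : Mono φ := mono_mulSec hN hσ hM (𝟙 M)
  let S : ShortComplex X.Modules := ShortComplex.mk φ (cokernel.π φ) (cokernel.condition φ)
  have hS : S.ShortExact := { exact := ShortComplex.exact_of_g_is_cokernel _ (cokernelIsCokernel φ) }
  haveI := CurveCohLib.finite_HH (k := k) (CurveDeg.isCoh_of_isInvertible
    (H23.PicMul.isInvertible_tensor hM hN)) 0
  have hinj : Function.Injective (mapLin k φ 0) := CurveCohLib.mapLin_f_zero_injective (A := k) (S := S) hS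
  exact LinearMap.finrank_le_finrank_of_injective hinj

section Curve

variable (C : X.IdealSheafData) [IsIntegral C.subscheme] (hC : topologicalKrullDim (C.support : Set X) = 1)

theorem finrank_twist_curve {M : X.Modules} (hM : PicF.IsInvertible M) (n : ℕ) :
    letI := overComp k C.subschemeι
    Module.finrank k (Coh.HH X (CohB1.tensorMod M (ClSub.quotMod C)) n) =
      Module.finrank k (Coh.HH C.subscheme ((Scheme.Modules.pullback C.subschemeι).obj M) n) := by
  letI := overComp k C.subschemeι
  haveI := isProper_comp k C.subschemeι rfl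
  haveI := noeth k (X := C.subscheme)
  have hMi := PicClLib.isInvertible_pullback C.subschemeι hM
  haveI := KFlatLib.isIso_projMod_of_isClosedImmersion C.subschemeι (Coh.structureModule C.subscheme) M
  obtain ⟨ec⟩ := H23.PicMul.comm M (ClSub.quotMod C)
  obtain ⟨e⟩ := QCoh.HH_push_linear C.subschemeι (Coh.toGlobal (X ↘ Spec (CommRingCat.of k)))
    (Coh.toGlobal (C.subscheme ↘ Spec (CommRingCat.of k))) (fun a => rfl) (CurveDeg.isCoh_of_isInvertible hMi).1 n
  exact (finrank_congr k (ec ≪≫ asIso (KFlatLib.projMod C.subschemeι (Coh.structureModule C.subscheme) M) ≪≫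
    (Scheme.Modules.pushforward C.subschemeι).mapIso (CurveTensor.structureTensorIso _)) n).trans e.finrank_eq.symm

include hC in
/-- Sections and first cohomology of invertible modules on a curve grow at most linearly in the degree. -/
theorem exists_h_curve_le : ∃ B : ℕ, ∀ M : X.Modules, PicF.IsInvertible M →
    (degOn k (ClSub.quotMod C) M < 0 → Module.finrank k (Coh.HH X (CohB1.tensorMod M (ClSub.quotMod C)) 0) = 0) ∧
    Module.finrank k (Coh.HH X (CohB1.tensorMod M (ClSub.quotMod C)) 1) ≤
      B + (degOn k (ClSub.quotMod C) M).natAbs := by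
  letI := overComp k C.subschemeι
  haveI := isProper_comp k C.subschemeι rfl
  haveI := noeth k (X := C.subscheme)
  have hd : topologicalKrullDim C.subscheme = 1 := (dim_subscheme C).trans hC
  have hO : Coh.IsCoh (Coh.structureModule C.subscheme) :=
    CurveDeg.isCoh_of_isInvertible isInvertible_structure
  have hOe := CurveRR.euler_eq_h0_sub_h1 k hd.le hO.1
  refine ⟨2 * Module.finrank k (Coh.HH C.subscheme (Coh.structureModule C.subscheme) 0) +
    2 * Module.finrank k (Coh.HH C.subscheme (Coh.structureModule C.subscheme) 1), fun M hM => ?_⟩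
  have hMi := PicClLib.isInvertible_pullback C.subschemeι hM
  have hMc := CurveDeg.isCoh_of_isInvertible hMi
  rw [finrank_twist_curve k C hM, finrank_twist_curve k C hM,
    show degOn k (ClSub.quotMod C) M = _ from degOn_push k C.subschemeι rfl hM, Curv2.deg]
  have hMe := CurveRR.euler_eq_h0_sub_h1 k hd.le hMc.1
  simp only [Nat.cast_one, one_mul] at *
  by_cases hz : Subsingleton (Coh.HH C.subscheme ((Scheme.Modules.pullback C.subschemeι).obj M) 0)
  · rw [Module.finrank_zero_of_subsingleton (M := Coh.HH C.subscheme ((Scheme.Modules.pullback C.subschemeι).obj M) 0)] at hMe ⊢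
    refine ⟨fun _ => rfl, ?_⟩
    omega
  · rw [not_subsingleton_iff_nontrivial] at hz
    obtain ⟨s, hs⟩ := exists_section_ne_zero hz
    haveI : Mono s := InvEnd.mono_of_ne_zero isInvertible_structure hMi s hs
    obtain ⟨hle, -⟩ := CurveDeg.euler_le_and_isIso k hd.le isInvertible_structure hMi s hs
    have hQ : Coh.IsCoh (cokernel s) := QCoh.isCoh_cokernel hO.1 hMc s
    have hpts : ∀ x ∈ CohB1.support (cokernel s), IsClosed ({x} : Set C.subscheme) := by
      obtain ⟨W, ⟨⟨w, hw⟩⟩, hW⟩ := CurveDeg.exists_open_surjective isInvertible_structure hMi s hs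
      refine fun x hx => closure_eq_iff_isClosed.1 (Euler.closure_eq_self_of_dim_le_zero
        (QCoh.isClosed_support_of_isFT hQ.1 hQ.2) (CurveDeg.topologicalKrullDim_le_zero_of_ne_univ hd.le
          (QCoh.isClosed_support_of_isFT hQ.1 hQ.2) fun hu => ?_) hx)
      obtain ⟨_, ⟨V, hV, rfl⟩, hwV, hVW⟩ := C.subscheme.isBasis_affineOpens.exists_subset_of_mem_open hw W.isOpen
      refine absurd (hu.symm.subset (Set.mem_univ w)) ((QCoh.notMem_support_iff hQ.1 hV hwV).2 fun m => ?_)
      obtain ⟨l, rfl⟩ := QCoh.app_surjective_of_epi hMc.1 hQ.1 (cokernel.π s) hV m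
      obtain ⟨n, rfl⟩ := hW V hVW l
      refine ⟨1, by rw [C.subscheme.basicOpen_of_isUnit isUnit_one]; exact hwV, ?_⟩
      rw [one_smul]
      exact congrArg (fun ψ => Scheme.Modules.Hom.app ψ V n) (cokernel.condition s)
    obtain ⟨h0le, -⟩ := CurveCohLib.finrank_h0_le_and_injective (k := k) s hO hMc hpts
    refine ⟨fun h => absurd hle (by omega), ?_⟩
    omega

end Curve

end Groth.Agent.SurfInt
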