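import Groth.Agent.SurfInt.Nakai

/-! The ample cone of a surface. -/

noncomputable section

set_option linter.style.haveILetI false
set_option linter.unusedSectionVars false
set_option backward.isDefEq.respectTransparency false
set_option backward.isDefEq.respectTransparency.types false

universe u

open CategoryTheory CategoryTheory.Limits AlgebraicGeometry TopologicalSpace Opposite

namespace Groth.Agent.SurfInt

open Groth.Agent

variable {k : Type u} [Field k] {X : Scheme.{u}} [X.Over (Spec (CommRingCat.of k))]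
  [IsProper (X ↘ Spec (CommRingCat.of k))] [IsIntegral X] (hdim : topologicalKrullDim X = 2)

include k in
theorem finite_curves_through (S : Closeds X) (hS : topologicalKrullDim (S : Set X) ≤ 1) :
    {C : X.IdealSheafData | IsIntegral C.subscheme ∧ topologicalKrullDim (C.support : Set X) = 1 ∧
      (C.support : Set X) ⊆ S}.Finite := by
  haveI := noeth k (X := X)
  obtain ⟨T, hTf, hTi, hTS⟩ := NoetherianSpace.exists_finite_set_closeds_irreducible S
  refine Set.Finite.of_finite_image (f := fun C => C.support) (hTf.subset ?_) ?_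
  · rintro _ ⟨C, ⟨hCi, hC, hCS⟩, rfl⟩
    haveI := hCi
    obtain ⟨Z, hZT, hZ⟩ : ∃ Z ∈ T, genC C ∈ Z := by
      have h := hCS (genC_mem C)
      rw [hTS] at h
      lift T to Finset (Closeds X) using hTf
      rw [← Finset.sup_id_eq_sSup, Closeds.coe_finset_sup, Finset.sup_set_eq_biUnion, Set.mem_iUnion₂] at h
      obtain ⟨Z, hZ, hmem⟩ := h
      exact ⟨Z, hZ, hmem⟩
    obtain ⟨η, hη⟩ := QuasiSober.sober (hTi Z hZT) Z.isClosed
    have hspec : η ⤳ genC C := hη.specializes hZ
    have hle : VarDim.deg (X ↘ Spec (CommRingCat.of k)) η ≤ 1 := by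
      have h1 : topologicalKrullDim (Z : Set X) ≤ 1 :=
        le_trans (H23.TopDim.dim_le_dim_of_subset (by rw [hTS]; exact SetLike.coe_subset_coe.2 (le_sSup hZT))) hS
      rw [← hη.def, VarDim.topologicalKrullDim_closure_singleton (X ↘ Spec (CommRingCat.of k))] at h1
      exact_mod_cast h1
    have heq : genC C = η := by
      by_contra hne
      have h1 := VarDim.deg_strictMono (X ↘ Spec (CommRingCat.of k))
        (show genC C < η from lt_iff_le_not_ge.2 ⟨hspec, fun h' => hne (hspec.antisymm h').eq.symm⟩)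
      rw [deg_genC k C hC] at h1
      omega
    show C.support ∈ T
    convert hZT
    exact SetLike.coe_injective (by rw [← closure_genC C, heq, hη.def])
  · intro C hC D hD h
    haveI := hC.1; haveI := hD.1
    exact eq_of_support_eq C D h

variable [PicGrp.Law X] [Module.Finite ℝ (NumR.N1R k X)]
  {B : NumR.N1R k X →ₗ[ℝ] NumR.N1R k X →ₗ[ℝ] ℝ} (hB : NumR.IsIntForm₂ k X B)
  (hreg : ∀ x : X, IsRegularLocalRing (X.presheaf.stalk x))

omit [Module.Finite ℝ (NumR.N1R k X)]

include hdim hB

/-- The pairing with a curve is the degree on it. -/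
theorem form_clR_curveCl {L : X.Modules} (hL : PicF.IsInvertible L) (C : X.IdealSheafData)
    (hI : PicF.IsInvertible (ClSub.idealMod C)) :
    B (NumR.clR k X L hL) (NumR.curveCl k X C hI) = (degOn k (ClSub.quotMod C) L : ℝ) := by
  show B _ (-NumR.clR k X (ClSub.idealMod C) hI) = _
  rw [map_neg, hB, show FGA.intNum k X 2 ![L, ClSub.idealMod C] (Coh.structureModule X) =
    dot k L (ClSub.idealMod C) from rfl, dot_comm k hdim.le hL hI, dot_ideal_left k hdim.le C hI hL]
  push_cast
  ring

variable [Module.Finite ℝ (NumR.N1R k X)]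

include hreg

/-- A rational class of positive square and positive on curves is ample. -/
theorem clR_mem_ampleCone {L H : X.Modules} (hL : PicF.IsInvertible L) (hH : CohB1.IsAmple H)
    (hLL : 0 < B (NumR.clR k X L hL) (NumR.clR k X L hL))
    (h : ∀ C : X.IdealSheafData, IsIntegral C.subscheme → topologicalKrullDim (C.support : Set X) = 1 →
      ∀ hI : PicF.IsInvertible (ClSub.idealMod C), 0 < B (NumR.clR k X L hL) (NumR.curveCl k X C hI)) :
    NumR.clR k X L hL ∈ NumR.ampleCone k X := by
  refine ConvexCone.subset_hull ⟨L, hL, isAmple_of_nakai k hdim hL hH ?_ (fun C hCi hC => ?_), rfl⟩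
  · rw [hB] at hLL
    exact Int.cast_pos.1 hLL
  · haveI := hCi
    have h1 := h C hCi hC (isInvertible_curve k hdim hreg C hC)
    rw [form_clR_curveCl hdim hB hL] at h1
    exact Int.cast_pos.1 h1

/-- A class between a nef class and an ample translate lies in the ample cone. -/
theorem mem_ampleCone_of_between {z a : NumR.N1R k X} (hz : z ∈ NumR.nefCone₂ k X B) {H : X.Modules}
    (hH : CohB1.IsAmple H) (ha : a ∈ NumR.ampleCone k X) : z + a ∈ NumR.ampleCone k X := by
  have hA := ampleCone_subset_posCone hdim hB hH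
  have hpos : ∀ b ∈ NumR.ampleCone k X, ∀ (C : X.IdealSheafData), IsIntegral C.subscheme →
      topologicalKrullDim (C.support : Set X) = 1 → ∀ hI : PicF.IsInvertible (ClSub.idealMod C),
        0 < B b (NumR.curveCl k X C hI) := by
    intro b hb C hCi hC hI
    haveI := hCi
    let P : ConvexCone ℝ (NumR.N1R k X) :=
      { carrier := {w | 0 < B w (NumR.curveCl k X C hI)}
        smul_mem' := fun c hc w hw => by
          show 0 < B (c • w) _
          rw [map_smul, LinearMap.smul_apply, smul_eq_mul]
          exact mul_pos hc hw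
        add_mem' := fun v hv w hw => by
          show 0 < B (v + w) _
          rw [map_add, LinearMap.add_apply]
          exact add_pos hv hw }
    refine ConvexCone.hull_min (C := P) ?_ hb
    rintro _ ⟨N, hN, hamp, rfl⟩
    show 0 < B _ _
    rw [form_clR_curveCl hdim hB hN]
    exact Int.cast_pos.2 (degOn_ample_pos k C hC hamp)
  have hsub : ∀ c : NumR.N1R k X, IsOpen {q | c - q ∈ NumR.ampleCone k X} := fun c => by
    have e : {q | c - q ∈ NumR.ampleCone k X} = (fun q => c + (-1 : ℝ) • q) ⁻¹' (NumR.ampleCone k X) :=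
      Set.ext fun q => by simp [sub_eq_add_neg]
    rw [e]
    exact (isOpen_ampleCone (k := k) (X := X)).preimage (continuous_const.add (continuous_const_smul _))
  let U : Set (NumR.N1R k X) := {q | q - z ∈ NumR.ampleCone k X ∧ z + a - q ∈ NumR.ampleCone k X}
  have hU : IsOpen U := by
    refine IsOpen.inter ?_ (hsub (z + a))
    have e : {q | q - z ∈ NumR.ampleCone k X} = (fun q => q + (-z)) ⁻¹' (NumR.ampleCone k X) :=
      Set.ext fun q => by simp [sub_eq_add_neg]
    show IsOpen {q | q - z ∈ NumR.ampleCone k X}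
    rw [e]
    exact (isOpen_ampleCone (k := k) (X := X)).preimage (continuous_id.add continuous_const)
  obtain ⟨_, ⟨N, y, hN, rfl⟩, hq1, hq2⟩ := (dense_rational (k := k) (X := X)).exists_mem_open hU
    ⟨z + (2 : ℝ)⁻¹ • a, by
      rw [add_sub_cancel_left]; exact (NumR.ampleCone k X).smul_mem (by norm_num) ha, by
      rw [add_sub_add_left_eq_sub, show a - (2 : ℝ)⁻¹ • a = (2 : ℝ)⁻¹ • a by module]
      exact (NumR.ampleCone k X).smul_mem (by norm_num) ha⟩
  obtain ⟨L, hL, hy⟩ := exists_clR y
  have hN' : (0 : ℝ) < (N : ℝ)⁻¹ := inv_pos.2 (Nat.cast_pos.2 hN)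
  set q := (N : ℝ)⁻¹ • NumR.toN1R k X y
  have hqq : 0 < B q q := by
    obtain ⟨h1, h1h⟩ := hA hq1
    have h2 := form_nef_self_nonneg hdim hB hreg hz hH
    have h3 := form_nef_pos_nonneg hdim hB hreg hz hH ⟨h1, h1h⟩
    have e : B q q = B z z + 2 * B z (q - z) + B (q - z) (q - z) := by
      have h4 := form_comm hdim hB z q
      simp only [map_sub, LinearMap.sub_apply]
      linarith
    linarith
  have hqC : ∀ C : X.IdealSheafData, IsIntegral C.subscheme → topologicalKrullDim (C.support : Set X) = 1 →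
      ∀ hI : PicF.IsInvertible (ClSub.idealMod C), 0 < B q (NumR.curveCl k X C hI) := fun C hCi hC hI => by
    rw [show q = z + (q - z) by abel, map_add, LinearMap.add_apply]
    exact add_pos_of_nonneg_of_pos (hz C hCi hC hI) (hpos _ hq1 C hCi hC hI)
  have hq : q ∈ NumR.ampleCone k X := by
    refine (NumR.ampleCone k X).smul_mem hN' (hy ▸ clR_mem_ampleCone hdim hB hreg hL hH ?_ fun C hCi hC hI => ?_)
    · simp only [q, map_smul, LinearMap.smul_apply, smul_eq_mul, hy] at hqq
      exact (pos_iff_pos_of_mul_pos ((pos_iff_pos_of_mul_pos hqq).1 hN')).1 hN'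
    · have h := hqC C hCi hC hI
      simp only [q, map_smul, LinearMap.smul_apply, smul_eq_mul, hy] at h
      exact (pos_iff_pos_of_mul_pos h).1 hN'
  rw [show z + a = q + (z + a - q) by abel]
  exact (NumR.ampleCone k X).add_mem hq hq2

/-- The ample cone consists of the classes of positive square which are positive on curves. -/
theorem mem_ampleCone_iff {H : X.Modules} (hH : CohB1.IsAmple H) (x : NumR.N1R k X) :
    x ∈ NumR.ampleCone k X ↔
      (0 < B x x ∧ ∀ (C : X.IdealSheafData), IsIntegral C.subscheme →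
        topologicalKrullDim (C.support : Set X) = 1 → ∀ hI : PicF.IsInvertible (ClSub.idealMod C),
          0 < B x (NumR.curveCl k X C hI)) := by
  classical
  have hA := ampleCone_subset_posCone hdim hB hH
  constructor
  · intro hx
    refine ⟨(hA hx).1, fun C hCi hC hI => ?_⟩
    haveI := hCi
    let P : ConvexCone ℝ (NumR.N1R k X) :=
      { carrier := {w | 0 < B w (NumR.curveCl k X C hI)}
        smul_mem' := fun c hc w hw => by
          show 0 < B (c • w) _
          rw [map_smul, LinearMap.smul_apply, smul_eq_mul]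
          exact mul_pos hc hw
        add_mem' := fun v hv w hw => by
          show 0 < B (v + w) _
          rw [map_add, LinearMap.add_apply]
          exact add_pos hv hw }
    refine ConvexCone.hull_min (C := P) ?_ hx
    rintro _ ⟨N, hN, hamp, rfl⟩
    show 0 < B _ _
    rw [form_clR_curveCl hdim hB hN]
    exact Int.cast_pos.2 (degOn_ample_pos k C hC hamp)
  rintro ⟨hxx, hxC⟩
  set h := NumR.clR k X H hH.1
  have hh : h ∈ NumR.ampleCone k X := ConvexCone.subset_hull ⟨H, hH.1, hH, rfl⟩
  have hnef : x ∈ NumR.nefCone₂ k X B := fun C hCi hC hI => (hxC C hCi hC hI).le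
  have hxh : 0 < B x h := lt_of_le_of_ne
    (form_nef_pos_nonneg hdim hB hreg hnef hH (hA hh)) (form_ne_zero hdim hB hH hxx).symm
  let U : Set (NumR.N1R k X) := {q | q ∈ NumR.posCone k X B H hH.1 ∧ x - q ∈ NumR.ampleCone k X}
  have hU : IsOpen U := (isOpen_posCone hdim hB hH).inter
    (show IsOpen {q | x - q ∈ NumR.ampleCone k X} from by
      have e : {q | x - q ∈ NumR.ampleCone k X} = (fun q => x + (-1 : ℝ) • q) ⁻¹' (NumR.ampleCone k X) :=
        Set.ext fun q => by simp [sub_eq_add_neg]
      rw [e]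
      exact (isOpen_ampleCone (k := k) (X := X)).preimage (continuous_const.add (continuous_const_smul _)))
  obtain ⟨ε, hε, hεp⟩ : ∃ ε : ℝ, 0 < ε ∧ x - ε • h ∈ NumR.posCone k X B H hH.1 := by
    have hc : Continuous fun ε : ℝ => x + ε • (-h) := continuous_const.add (continuous_id.smul (continuous_const (y := -h)))
    obtain ⟨δ, hδ, hball⟩ := Metric.isOpen_iff.1 ((isOpen_posCone hdim hB hH).preimage hc) 0
      (by show x + (0 : ℝ) • (-h) ∈ NumR.posCone k X B H hH.1; rw [zero_smul, add_zero]; exact ⟨hxx, hxh⟩)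
    refine ⟨δ / 2, half_pos hδ, ?_⟩
    have := hball (show δ / 2 ∈ Metric.ball (0 : ℝ) δ by
      rw [Metric.mem_ball, Real.dist_eq, sub_zero, abs_of_pos (half_pos hδ)]; linarith)
    rwa [Set.mem_preimage, smul_neg, ← sub_eq_add_neg] at this
  obtain ⟨_, ⟨N, y, hN, rfl⟩, hyp, hya⟩ := (dense_rational (k := k) (X := X)).exists_mem_open hU
    ⟨x - ε • h, hεp, by rw [sub_sub_cancel]; exact (NumR.ampleCone k X).smul_mem hε hh⟩
  obtain ⟨L, hL, hy⟩ := exists_clR y
  have hN' : (0 : ℝ) < (N : ℝ)⁻¹ := inv_pos.2 (Nat.cast_pos.2 hN)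
  set q := (N : ℝ)⁻¹ • NumR.toN1R k X y with hq
  obtain ⟨hqq, hqh⟩ := hyp
  simp only [hq, map_smul, LinearMap.smul_apply, smul_eq_mul, hy] at hqq hqh
  rw [hB] at hqq hqh
  obtain ⟨M, hM⟩ := exists_sections_of_pos k hdim hL hH
    (Int.cast_pos.1 ((pos_iff_pos_of_mul_pos hqh).1 hN'))
    (Int.cast_pos.1 ((pos_iff_pos_of_mul_pos ((pos_iff_pos_of_mul_pos hqq).1 hN')).1 hN'))
  obtain ⟨s, hs⟩ := exists_section_ne_zero (hM (M + 1) (Nat.le_succ M))
  have hP := H23.PicMul.isInvertible_tensorPow hL (M + 1)
  obtain ⟨hF, -⟩ := isInverseOf_zeroScheme hP s hs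
  have hbad : ∀ C : X.IdealSheafData, IsIntegral C.subscheme → topologicalKrullDim (C.support : Set X) = 1 →
      ∀ hI : PicF.IsInvertible (ClSub.idealMod C),
        ¬ (C.support : Set X) ⊆ (PicF2.zeroScheme (CohB1.tensorPow L (M + 1)) s).support →
          0 ≤ B q (NumR.curveCl k X C hI) := by
    intro C hCi hC hI hnot
    haveI := hCi
    have hg : genC C ∉ ((PicF2.zeroScheme (CohB1.tensorPow L (M + 1)) s).support : Set X) := fun hg =>
      hnot ((support_subset_iff C).2 hg)
    have h1 : 0 ≤ degOn k (ClSub.quotMod C) (CohB1.tensorPow L (M + 1)) := by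
      have := degOn_curve_ideal_nonpos k C hC (isInvertible_of_effCartier hF) hg
      obtain ⟨-, hinv⟩ := isInverseOf_zeroScheme hP s hs
      rw [degOn_inv k (isCoh_quotMod k C) (dim_support_quot_curve hC) hP (isInvertible_of_effCartier hF) hinv] at this
      omega
    rw [degOn_tensorPow k (isCoh_quotMod k C) (dim_support_quot_curve hC) hL] at h1
    have h2 : 0 ≤ degOn k (ClSub.quotMod C) L := (mul_nonneg_iff_of_pos_left (by positivity)).1 h1
    simp only [hq, map_smul, LinearMap.smul_apply, smul_eq_mul, hy, form_clR_curveCl hdim hB hL]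
    exact mul_nonneg hN'.le (Int.cast_nonneg h2)
  have hfin := finite_curves_through (k := k) _ (dim_support_effCartier k hdim hF)
  have hev : ∀ C ∈ hfin.toFinset, ∃ t : ℝ, 0 < t ∧ ∀ hI : PicF.IsInvertible (ClSub.idealMod C),
      t * B (x - q) (NumR.curveCl k X C hI) ≤ B x (NumR.curveCl k X C hI) := by
    intro C hC
    obtain ⟨hCi, hCd, -⟩ := hfin.mem_toFinset.1 hC
    haveI := hCi
    have hI := isInvertible_curve k hdim hreg C hCd
    have hf := hxC C hCi hCd hI
    rcases le_or_gt (B (x - q) (NumR.curveCl k X C hI)) 0 with hg | hg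
    · exact ⟨1, one_pos, fun hI' => by linarith⟩
    · exact ⟨_, div_pos hf hg, fun hI' => (div_mul_cancel₀ _ hg.ne').le⟩
  choose t ht hle using hev
  let τ : ℝ := (insert (1 : ℝ) (hfin.toFinset.attach.image fun C => t C.1 C.2)).min' (Finset.insert_nonempty _ _)
  have hτ : 0 < τ := by
    refine (Finset.lt_min'_iff _ _).2 fun r hr => ?_
    rcases Finset.mem_insert.1 hr with rfl | hr
    · exact one_pos
    · obtain ⟨C, -, rfl⟩ := Finset.mem_image.1 hr
      exact ht _ _
  have hτ1 : τ ≤ 1 := Finset.min'_le _ _ (Finset.mem_insert_self _ _)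
  have hz : x - τ • (x - q) ∈ NumR.nefCone₂ k X B := by
    intro C hCi hC hI
    rw [map_sub, map_smul, LinearMap.sub_apply, LinearMap.smul_apply, smul_eq_mul, sub_nonneg]
    have hf := hxC C hCi hC hI
    rcases le_or_gt (B (x - q) (NumR.curveCl k X C hI)) 0 with hg | hg
    · nlinarith
    by_cases hsub : (C.support : Set X) ⊆ (PicF2.zeroScheme (CohB1.tensorPow L (M + 1)) s).support
    · have hmem : C ∈ hfin.toFinset := hfin.mem_toFinset.2 ⟨hCi, hC, hsub⟩
      refine le_trans ?_ (hle C hmem hI)
      exact mul_le_mul_of_nonneg_right (Finset.min'_le _ _ (Finset.mem_insert_of_mem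
        (Finset.mem_image.2 ⟨⟨C, hmem⟩, Finset.mem_attach _ _, rfl⟩))) hg.le
    · have h1 := hbad C hCi hC hI hsub
      rw [map_sub, LinearMap.sub_apply] at hg ⊢
      nlinarith
  have := mem_ampleCone_of_between hdim hB hreg hz hH ((NumR.ampleCone k X).smul_mem hτ hya)
  rwa [sub_add_cancel] at this

/-- The closure of the ample cone. -/
theorem closure_ampleCone {H : X.Modules} (hH : CohB1.IsAmple H) :
    closure (NumR.ampleCone k X : Set (NumR.N1R k X)) = {x | 0 ≤ B x x ∧ x ∈ NumR.nefCone₂ k X B} := by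
  refine subset_antisymm (closure_minimal (fun x hx => ?_) ?_) fun x hx => ?_
  · obtain ⟨h1, h2⟩ := (mem_ampleCone_iff hdim hB hreg hH x).1 hx
    exact ⟨h1.le, fun C a b c => (h2 C a b c).le⟩
  · refine (isClosed_le continuous_const (continuous_quad B)).inter ?_
    simp only [NumR.nefCone₂, Set.setOf_forall]
    exact isClosed_iInter fun C => isClosed_iInter fun _ => isClosed_iInter fun _ => isClosed_iInter fun hI =>
      isClosed_le continuous_const (continuous_left B _)
  · set h := NumR.clR k X H hH.1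
    have hc : Continuous fun t : ℝ => x + t • h := continuous_const.add (continuous_id.smul (continuous_const (y := h)))
    have h0 : (0 : ℝ) ∈ closure (Set.Ioi (0 : ℝ)) := by rw [closure_Ioi]; exact Set.self_mem_Ici
    have := map_mem_closure hc h0 (t := (NumR.ampleCone k X : Set (NumR.N1R k X))) fun t ht =>
      mem_ampleCone_of_between hdim hB hreg hx.2 hH
        ((NumR.ampleCone k X).smul_mem ht (ConvexCone.subset_hull ⟨H, hH.1, hH, rfl⟩))
    simpa using this

end Groth.Agent.SurfInt
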