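import Groth.Agent.SurfInt.AffSect
import Groth.Agent.SurfInt.AmpleCone
import Groth.Agent.RegUFD.Basic
import Groth.Agent.S1572
import Groth.Agent.Lib.AVAmple

/-! An ample effective divisor with support the complement of an affine open of a regular proper surface. -/

noncomputable section

set_option linter.style.haveILetI false
set_option linter.unusedSectionVars false
set_option backward.isDefEq.respectTransparency false
set_option backward.isDefEq.respectTransparency.types false

universe u

open CategoryTheory CategoryTheory.Limits AlgebraicGeometry TopologicalSpace Opposite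

namespace Groth.Agent.SurfInt

open Groth.Agent

/-- Positive parts of vectors positive against an intersection matrix sum to a positive vector which is
positive against it. -/
theorem exists_pos_combination {r : ℕ} (M : Fin r → Fin r → ℤ) (hoff : ∀ i l, i ≠ l → 0 ≤ M i l)
    (w : Fin r → Fin r → ℤ) (hw : ∀ j, 0 < w j j) (hpos : ∀ j i, 0 < ∑ l, w j l * M i l) :
    ∃ W : Fin r → ℕ, (∀ i, 0 < W i) ∧ ∀ i, 0 < ∑ l, (W l : ℤ) * M i l := by
  classical
  refine ⟨fun l => ∑ j, (w j l).toNat, fun i => ?_, fun i => ?_⟩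
  · exact lt_of_lt_of_le (Int.pos_iff_toNat_pos.1 (hw i))
      (Finset.single_le_sum (f := fun j => (w j i).toNat) (fun j _ => Nat.zero_le _) (Finset.mem_univ i))
  · have hle : ∀ j l, 0 ≤ w j i → w j l * M i l ≤ ((w j l).toNat : ℤ) * M i l := by
      intro j l h
      rcases eq_or_ne i l with rfl | hne
      · rw [Int.toNat_of_nonneg h]
      · exact mul_le_mul_of_nonneg_right (Int.self_le_toNat _) (hoff i l hne)
    have hnn : ∀ j, 0 ≤ ∑ l, ((w j l).toNat : ℤ) * M i l := by
      intro j
      rcases le_or_gt 0 (w j i) with h | h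
      · exact (hpos j i).le.trans (Finset.sum_le_sum fun l _ => hle j l h)
      · refine Finset.sum_nonneg fun l _ => ?_
        rcases eq_or_ne i l with rfl | hne
        · rw [Int.toNat_of_nonpos h.le, Nat.cast_zero, zero_mul]
        · exact mul_nonneg (Int.natCast_nonneg _) (hoff i l hne)
    push_cast
    simp only [Finset.sum_mul]
    rw [Finset.sum_comm]
    exact lt_of_lt_of_le ((hpos i i).trans_le (Finset.sum_le_sum fun l _ => hle i l (hw i).le))
      (Finset.single_le_sum (f := fun j => ∑ l, ((w j l).toNat : ℤ) * M i l) (fun j _ => hnn j) (Finset.mem_univ i))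

variable {X : Scheme.{u}}

theorem mem_support_prod {ι : Type*} (s : Finset ι) (C : ι → X.IdealSheafData) (e : ι → ℕ) (x : X) :
    x ∈ (∏ i ∈ s, C i ^ e i).support ↔ ∃ i ∈ s, e i ≠ 0 ∧ x ∈ (C i).support := by
  classical
  have hbot : x ∉ (1 : X.IdealSheafData).support := fun h => by
    rw [Scheme.IdealSheafData.one_eq_top, Scheme.IdealSheafData.support_top] at h
    exact h
  have hpow : ∀ (F : X.IdealSheafData) (n : ℕ), x ∈ (F ^ n).support ↔ n ≠ 0 ∧ x ∈ F.support := by
    intro F n
    induction n with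
    | zero => simp only [pow_zero, ne_eq, not_true_eq_false, false_and, iff_false]; exact hbot
    | succ n ih =>
      rw [pow_succ, Scheme.IdealSheafData.support_mul, ← SetLike.mem_coe, Closeds.coe_sup, Set.mem_union,
        SetLike.mem_coe, SetLike.mem_coe, ih]
      exact ⟨fun h => ⟨n.succ_ne_zero, h.elim (·.2) id⟩, fun h => Or.inr h.2⟩
  induction s using Finset.induction_on with
  | empty => simp only [Finset.prod_empty, Finset.notMem_empty, false_and, exists_false, iff_false]; exact hbot
  | insert a t ha ih =>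
    rw [Finset.prod_insert ha, Scheme.IdealSheafData.support_mul, ← SetLike.mem_coe, Closeds.coe_sup,
      Set.mem_union]
    refine (or_congr (hpow _ _) ih).trans ?_
    simp [Finset.exists_mem_insert]

theorem le_curve_iff {F : X.IdealSheafData} (C : X.IdealSheafData) [IsIntegral C.subscheme] :
    F ≤ C ↔ genC C ∈ (F.support : Set X) := by
  refine ⟨fun h => Scheme.IdealSheafData.support_antitone h (genC_mem C), fun h => ?_⟩
  rw [AlgSpLib.CartierRegular.eq_vanishingIdeal_support C]
  exact Scheme.IdealSheafData.le_support_iff_le_vanishingIdeal.1 ((support_subset_iff C).2 h)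

variable (k : Type u) [Field k] [X.Over (Spec (CommRingCat.of k))]
  [IsProper (X ↘ Spec (CommRingCat.of k))] [IsIntegral X]

include k in
theorem mem_support_curve_iff (C : X.IdealSheafData) [IsIntegral C.subscheme] (x : X) :
    x ∈ (C.support : Set X) ↔ genC C ⤳ x := by
  rw [← closure_genC C, specializes_iff_mem_closure]

variable (hdim : topologicalKrullDim X = 2)

include hdim in
theorem genC_ne_genericPoint (C : X.IdealSheafData) [IsIntegral C.subscheme]
    (hC : topologicalKrullDim (C.support : Set X) = 1) : genC C ≠ genericPoint X := fun h => by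
  rw [← closure_genC C, h, (genericPoint_spec X).def] at hC
  rw [IsHomeomorph.topologicalKrullDim_eq _ (Homeomorph.Set.univ X).isHomeomorph, hdim] at hC
  norm_num at hC

include k in
/-- Generic points of curves are not closed. -/
theorem exists_closed_on_curve (C : X.IdealSheafData) [IsIntegral C.subscheme]
    (hC : topologicalKrullDim (C.support : Set X) = 1) :
    ∃ x ∈ (C.support : Set X), IsClosed ({x} : Set X) := by
  haveI := noeth k (X := X)
  exact C.support.isClosed.exists_closed_singleton ⟨_, genC_mem C⟩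

include k in
theorem not_isClosed_genC (C : X.IdealSheafData) [IsIntegral C.subscheme]
    (hC : topologicalKrullDim (C.support : Set X) = 1) : ¬ IsClosed ({genC C} : Set X) := fun h => by
  have h1 := VarDim.topologicalKrullDim_closure_singleton (X ↘ Spec (CommRingCat.of k)) (genC C)
  rw [closure_genC C, hC] at h1
  have h2 : topologicalKrullDim ({genC C} : Set X) ≤ 0 := by
    haveI : Subsingleton (IrreducibleCloseds ({genC C} : Set X)) := ⟨fun A B => SetLike.coe_injective (by
      obtain ⟨a, ha⟩ := A.isIrreducible.nonempty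
      obtain ⟨b, hb⟩ := B.isIrreducible.nonempty
      ext z
      exact ⟨fun _ => Subsingleton.elim b z ▸ hb, fun _ => Subsingleton.elim a z ▸ ha⟩)⟩
    exact Order.krullDim_nonpos_of_subsingleton
  rw [← h.closure_eq, closure_genC C, hC] at h2
  exact absurd h2 (by norm_num)

/-- Exponents of the section extending a function, and their intersection numbers. -/
theorem exists_sect_decomp {P : X.Modules} (hP : PicF.IsInvertible P) {s : Γ(P, ⊤)} {U : X.Opens}
    (hs : AmpleX.locus s = U) (hUne : (U : Set X).Nonempty) (hd : topologicalKrullDim X ≤ 2) {r : ℕ} (C : Fin r → X.IdealSheafData)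
    [∀ i, IsIntegral (C i).subscheme] (hC : ∀ i, topologicalKrullDim ((C i).support : Set X) = 1)
    (hCc : ∀ i, BlowUp.IsEffCartierIdeal (C i)) (d : Fin r → ℕ)
    (hD : PicF2.zeroScheme P (InvX.ofSect s) = ∏ i, C i ^ d i) (g : Γ(X, U)) (hg : g ≠ 0) :
    ∃ (n : ℕ) (T : Γ(CohB1.tensorMod P (CohB1.tensorPow P n), ⊤)) (e : Fin r → ℕ) (E : X.IdealSheafData),
      AModX.res _ (le_top : U ≤ ⊤) T = g • AModX.res _ (le_top : U ≤ ⊤) (twistSect s n) ∧
      BlowUp.IsEffCartierIdeal E ∧
      PicF2.zeroScheme _ (InvX.ofSect T) = (∏ i, C i ^ e i) * E ∧ (∀ i, genC (C i) ∉ (E.support : Set X)) ∧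
      ∀ i, ∑ l, (((n + 1 : ℕ) : ℤ) * d l - e l) * dot k (ClSub.idealMod (C i)) (ClSub.idealMod (C l)) =
        dot k (ClSub.idealMod (C i)) (ClSub.idealMod E) := by
  haveI := noeth k (X := X)
  haveI : X.IsSeparated := ⟨by
    rw [← Limits.terminal.comp_from (X ↘ Spec (CommRingCat.of k))]
    infer_instance⟩
  haveI : Nonempty U := hUne.to_subtype
  obtain ⟨n, hn⟩ := exists_extend_function hP hs g
  let N := CohB1.tensorMod P (CohB1.tensorPow P n)
  obtain ⟨T, hT⟩ : ∃ T : Γ(N, ⊤), AModX.res N (le_top : U ≤ ⊤) T = g • AModX.res N (le_top : U ≤ ⊤) (twistSect s n) :=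
    hn n le_rfl
  have _ := CohB1.tensorMod P (CohB1.tensorPow P n)
  have hN : PicF.IsInvertible N := InvX.isInvertible_tensorMod hP (H23.PicMul.isInvertible_tensorPow hP n)
  have hne : ∀ {M : X.Modules} {t : Γ(M, ⊤)}, t ≠ 0 → InvX.ofSect t ≠ 0 := fun {M t} ht h => ht (by
    rw [← InvX.one_ofSect t, h]; rfl)
  have hs0 : s ≠ 0 := fun h => by
    have hf := AmpleX.isFrame_res_of_le s hs.ge
    rw [show AModX.res P (le_top : U ≤ ⊤) s = 0 from (congrArg _ h).trans (map_zero _)] at hf
    exact zero_ne_one (hf.coord_unique le_rfl (r := (0 : Γ(X, U))) (r' := 1) (by simp))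
  have hT0 : T ≠ 0 := fun h => by
    rw [h, map_zero] at hT
    exact hg ((isFrame_res_twistSect s hs.ge n).coord_unique le_rfl (by rw [AModX.res_self, ← hT, zero_smul]))
  obtain ⟨hZc, hZi⟩ := isInverseOf_zeroScheme hN _ (hne hT0)
  obtain ⟨hDc, hDi⟩ := isInverseOf_zeroScheme hP _ (hne hs0)
  obtain ⟨e, E, hE, hZ, hEC⟩ := exists_decomp C hCc (fun i h => by
    have hm := genC_mem (C i)
    have hb : ((C i).support : Set X) = ∅ := by simp [h]
    exact absurd hm (by rw [hb]; exact Set.notMem_empty _)) _ hZc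
  refine ⟨n, T, e, E, hT, hE, hZ, fun i h => hEC i ((le_curve_iff (C i)).2 h), fun i => ?_⟩
  have hCi := (S8914.result (C i)).2 (hCc i)
  have hq := isCoh_quotMod k (C i)
  have hqd := dim_support_quot_curve (hC i)
  have h1 : dot k (ClSub.idealMod (C i)) (ClSub.idealMod (PicF2.zeroScheme N (InvX.ofSect T))) =
      ((n + 1 : ℕ) : ℤ) * dot k (ClSub.idealMod (C i)) (ClSub.idealMod (PicF2.zeroScheme P (InvX.ofSect s))) := by
    have hZI := (S8914.result _).2 hZc
    have hDI := (S8914.result _).2 hDc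
    rw [dot_ideal_left k hd _ hCi hZI, dot_ideal_left k hd _ hCi hDI,
      degOn_inv k hq hqd hN hZI hZi, degOn_inv k hq hqd hP hDI hDi,
      degOn_tensor k hq hqd hP (H23.PicMul.isInvertible_tensorPow hP n), degOn_tensorPow k hq hqd hP]
    push_cast; ring
  rw [hZ, hD, dot_idealMod_mul k hd hCi (isEffCartier_prod _ _ fun l _ => isEffCartier_pow (hCc l) _) hE,
    dot_idealMod_prod k hd hCi _ _ hCc, dot_idealMod_prod k hd hCi _ _ hCc, Finset.mul_sum] at h1
  simp only [sub_mul, mul_assoc, Finset.sum_sub_distrib]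
  rw [← h1]
  ring

/-- If the extending section vanishes deeply enough along a curve, the function is regular there. -/
theorem germ_mem_range_of_exponent {P : X.Modules} (hP : PicF.IsInvertible P) {s : Γ(P, ⊤)} {U : X.Opens}
    (hs : AmpleX.locus s = U) (hη : genericPoint X ∈ U) {r : ℕ} (C : Fin r → X.IdealSheafData)
    [∀ i, IsIntegral (C i).subscheme] (d e : Fin r → ℕ) (E : X.IdealSheafData)
    (hD : PicF2.zeroScheme P (InvX.ofSect s) = ∏ i, C i ^ d i) (g : Γ(X, U)) {n : ℕ}
    {T : Γ(CohB1.tensorMod P (CohB1.tensorPow P n), ⊤)}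
    (hT : AModX.res _ (le_top : U ≤ ⊤) T = g • AModX.res _ (le_top : U ≤ ⊤) (twistSect s n))
    (hZ : PicF2.zeroScheme _ (InvX.ofSect T) = (∏ i, C i ^ e i) * E) (j : Fin r)
    (hoff : ∀ i, i ≠ j → genC (C j) ∉ ((C i).support : Set X)) (hj : (n + 1) * d j ≤ e j) :
    X.presheaf.germ U (genericPoint X) hη g ∈
      Set.range (X.presheaf.stalkSpecializes (genericPoint_specializes (genC (C j)))) := by
  classical
  set ξ := genC (C j)
  obtain ⟨W₀, hξW₀, f₀, hf₀⟩ := InvX.exists_frame hP ξ
  obtain ⟨_, ⟨W, hW, rfl⟩, hξ, hWW⟩ := X.isBasis_affineOpens.exists_subset_of_mem_open hξW₀ W₀.isOpen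
  replace hW : IsAffineOpen W := hW
  replace hξ : ξ ∈ W := hξ
  haveI : Nonempty W := ⟨⟨ξ, hξ⟩⟩
  have hηW : genericPoint X ∈ W := ((genericPoint_spec X).mem_open_set_iff W.2).2 ⟨ξ, trivial, hξ⟩
  let f := AModX.res P (show W ≤ W₀ from hWW) f₀
  have hf : InvX.IsFrame f := hf₀.res _
  obtain ⟨c, hc⟩ := hf.exists_coord le_rfl (AModX.res P (le_top : W ≤ ⊤) s)
  rw [AModX.res_self] at hc
  let F := InvX.tmul f (AmpleX.powElt f n)
  have hF : InvX.IsFrame F := InvX.isFrame_tmul hf (AmpleX.isFrame_powElt hf n)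
  obtain ⟨a, ha⟩ := hF.exists_coord le_rfl (AModX.res _ (le_top : W ≤ ⊤) T)
  rw [AModX.res_self] at ha
  have hZW : (PicF2.zeroScheme _ (InvX.ofSect T)).ideal ⟨W, hW⟩ = Ideal.span {a} :=
    ideal_zeroScheme_of_frame (InvX.isInvertible_tensorMod hP (H23.PicMul.isInvertible_tensorPow hP n)) T
      (V := ⟨W, hW⟩) hF ha
  have hDW : (PicF2.zeroScheme P (InvX.ofSect s)).ideal ⟨W, hW⟩ = Ideal.span {c} :=
    ideal_zeroScheme_of_frame hP s (V := ⟨W, hW⟩) hf hc
  let V := W ⊓ U
  have hηV : genericPoint X ∈ V := ⟨hηW, hη⟩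
  have hag : AModX.resR (inf_le_left : V ≤ W) a =
      AModX.resR (inf_le_right : V ≤ U) g * AModX.resR (inf_le_left : V ≤ W) (c ^ (n + 1)) := by
    refine hF.coord_unique inf_le_left ?_
    rw [← AModX.res_smul, ← ha, AModX.res_res, mul_smul, ← AModX.res_smul, ← res_twistSect s n hc,
      AModX.res_res, ← AModX.res_res (le_top : U ≤ ⊤) (inf_le_right : V ≤ U) T, hT, AModX.res_smul,
      AModX.res_res]
  have hag' := congrArg (X.presheaf.germ V (genericPoint X) hηV) hag
  rw [map_mul] at hag'
  simp only [AModX.resR] at hag'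
  -- the ideals at `ξ`
  let φ : Γ(X, W) →+* X.presheaf.stalk ξ := (X.presheaf.germ W ξ hξ).hom
  have hunit : ∀ i, i ≠ j → ((C i).ideal ⟨W, hW⟩).map φ = ⊤ := fun i hi => by
    have h := hoff i hi
    rw [SetLike.mem_coe, Scheme.IdealSheafData.mem_support_iff_of_mem (U := ⟨W, hW⟩) hξ,
      Scheme.mem_zeroLocus_iff] at h
    push Not at h
    obtain ⟨b, hb, hbξ⟩ := h
    exact Ideal.eq_top_of_isUnit_mem _ (Ideal.mem_map_of_mem φ hb) ((X.mem_basicOpen b ξ hξ).1 hbξ)
  have hprod : ∀ m : Fin r → ℕ, ((∏ i, C i ^ m i).ideal ⟨W, hW⟩).map φ = ((C j).ideal ⟨W, hW⟩).map φ ^ m j := by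
    intro m
    have h : ∀ t : Finset (Fin r), ((∏ i ∈ t, C i ^ m i).ideal ⟨W, hW⟩).map φ =
        ∏ i ∈ t, ((C i).ideal ⟨W, hW⟩).map φ ^ m i := by
      intro t
      induction t using Finset.induction_on with
      | empty =>
        rw [Finset.prod_empty, Finset.prod_empty, Scheme.IdealSheafData.one_eq_top, Scheme.IdealSheafData.ideal_top,
          Pi.top_apply, Ideal.map_top, Ideal.one_eq_top]
      | insert i t hi ih =>
        rw [Finset.prod_insert hi, Finset.prod_insert hi, Scheme.IdealSheafData.ideal_mul, Pi.mul_apply,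
          Ideal.map_mul, ih, Scheme.IdealSheafData.ideal_pow, Pi.pow_apply, Ideal.map_pow]
    rw [h, Finset.prod_eq_single j (fun i _ hi => by rw [hunit i hi, ← Ideal.one_eq_top, one_pow])
      (fun h => absurd (Finset.mem_univ j) h)]
  have hle : Ideal.span {φ a} ≤ Ideal.span {φ (c ^ (n + 1))} := by
    rw [map_pow, ← Set.image_singleton, ← Ideal.map_span, ← hZW, ← Ideal.span_singleton_pow,
      ← Set.image_singleton (f := φ) (a := c), ← Ideal.map_span, ← hDW, hD, hprod, hZ,
      Scheme.IdealSheafData.ideal_mul, Pi.mul_apply, Ideal.map_mul, hprod, ← pow_mul]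
    exact Ideal.mul_le_left.trans (Ideal.pow_le_pow_right ((mul_comm _ _).trans_le hj))
  obtain ⟨q, hq⟩ := Ideal.mem_span_singleton'.1 (hle (Ideal.mem_span_singleton_self _))
  let sp := (X.presheaf.stalkSpecializes (genericPoint_specializes ξ)).hom
  have hsp : ∀ b : Γ(X, W), sp (φ b) = X.presheaf.germ W (genericPoint X) hηW b := fun b =>
    TopCat.Presheaf.germ_stalkSpecializes_apply X.presheaf hξ (genericPoint_specializes ξ) b
  refine ⟨q, ?_⟩
  have h1 := congrArg sp hq
  rw [map_mul, hsp, hsp] at h1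
  have hres : ∀ (O : X.Opens) (h : V ≤ O) (hO : genericPoint X ∈ O) (b : Γ(X, O)),
      X.presheaf.germ V (genericPoint X) hηV (X.presheaf.map (homOfLE h).op b) =
        X.presheaf.germ O (genericPoint X) hO b := fun O h hO b =>
    TopCat.Presheaf.germ_res_apply X.presheaf (homOfLE h) _ hηV b
  rw [hres W inf_le_left hηW, hres U inf_le_right hη, hres W inf_le_left hηW] at hag'
  refine mul_right_cancel₀ (fun h0 => ?_) (h1.trans hag')
  have hc0 : c ^ (n + 1) = 0 := X.germToFunctionField_injective W (h0.trans (map_zero _).symm)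
  have hcu : IsUnit (AModX.resR (inf_le_left : V ≤ W) c) := by
    haveI : Nonempty V := ⟨⟨_, hηV⟩⟩
    have hf1 := AmpleX.isFrame_res_of_le s ((inf_le_right : V ≤ U).trans hs.ge)
    rw [← AModX.res_res (le_top : W ≤ ⊤) (inf_le_left : V ≤ W), hc, AModX.res_smul] at hf1
    obtain ⟨b, hb⟩ := hf1.exists_coord le_rfl (AModX.res P (inf_le_left : V ≤ W) f)
    rw [AModX.res_self, smul_smul] at hb
    exact IsUnit.of_mul_eq_one_right b (hf.coord_unique inf_le_left (by rw [one_smul]; exact hb.symm))
  rw [pow_eq_zero_iff n.succ_ne_zero |>.1 hc0, map_zero] at hcu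
  haveI : Nonempty V := ⟨⟨_, hηV⟩⟩
  exact not_isUnit_zero hcu

end Groth.Agent.SurfInt
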