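import Groth.Agent.SurfInt.ContractSect
import Groth.Agent.SurfInt.AffConn
import Groth.Agent.Lib.AVAmple
import Groth.Agent.AmpleVan.Uniform
import Groth.Agent.AmpleX.Generated
import Groth.Agent.ModPairLib.Quot
import Groth.Agent.PnCoh.Chow.Exists
import Groth.Agent.S3572

/-! Contracting a rational curve of negative self-intersection on a surface. -/

noncomputable section

set_option linter.style.haveILetI false
set_option linter.unusedSectionVars false
set_option backward.isDefEq.respectTransparency false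
set_option backward.isDefEq.respectTransparency.types false

universe u

open CategoryTheory CategoryTheory.Limits AlgebraicGeometry TopologicalSpace Opposite MvPolynomial

namespace Groth.Agent.SurfInt

open Groth.Agent

variable (k : Type u) [Field k] {X : Scheme.{u}} [X.Over (Spec (CommRingCat.of k))]
  [IsProper (X ↘ Spec (CommRingCat.of k))] [IsIntegral X]

omit [X.Over (Spec (CommRingCat.of k))] [IsProper (X ↘ Spec (CommRingCat.of k))] [IsIntegral X] in
/-- The generating loci of the sections defining a map are the charts. -/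
theorem preimage_basicOpen_eq_locus {N : ℕ} (r : X ⟶ CohB1.ProjSpace N k) {L : X.Modules}
    (τ : (Scheme.Modules.pullback r).obj (Twist.twistProjSpace N k 1) ≅ L) (s : Fin (N + 1) → Γ(L, ⊤))
    (hτ : ∀ i, τ.hom.app ⊤ (ProjUP.pullSec r (Twist.twistProjSpace N k 1) (ProjUP.coord N k i)) = s i) (i : Fin (N + 1)) :
    r ⁻¹ᵁ Proj.basicOpen (CohB1.polyGrading N k) (MvPolynomial.X i) = AmpleX.locus (s i) := by
  have hT : PicF.IsInvertible (Twist.twist (CohB1.polyGrading N k) 1) :=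
    PnCoh.Finite.isInvertible_twist (fun j : Fin (N + 1) => (MvPolynomial.X j : MvPolynomial (Fin (N + 1)) k))
      (fun j => ProjPt.X_mem j) (eq_top_iff.2 fun y _ => Opens.mem_iSup.2 (ProjUPX.cov_X y)) 1
  have hg := AmpleX.genLocus_sec (𝒜 := CohB1.polyGrading N k) (fun j : Fin (N + 1) => MvPolynomial.X j)
    (fun j => ProjPt.X_mem j) (eq_top_iff.2 fun y _ => Opens.mem_iSup.2 (ProjUPX.cov_X y)) (ProjPt.X_mem i)
  rw [AmpleX.genLocus_eq_locus, InvX.one_ofSect] at hg
  have h1 : AmpleX.locus (s i) = AmpleX.locus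
      (show Γ((Scheme.Modules.pullback r).obj (Twist.twistProjSpace N k 1), ⊤) from
        ProjUP.pullSec r (Twist.twistProjSpace N k 1) (ProjUP.coord N k i)) := by
    rw [← hτ i]
    exact AmpleX.locus_iso τ _
  rw [h1, ← hg]
  exact (AmpleX.locus_pullElt hT r (U := ⊤) (ProjUPX.sec (CohB1.polyGrading N k) (ProjPt.X_mem i))).symm

omit [IsProper (X ↘ Spec (CommRingCat.of k))] [IsIntegral X] in
/-- A chart is a closed immersion if the ratios of the sections generate. -/
theorem isClosedImmersion_chart {N : ℕ} (r : X ⟶ CohB1.ProjSpace N k)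
    (hr : r ≫ CohB1.ProjSpace.toSpec N k = X ↘ Spec (CommRingCat.of k)) {L : X.Modules}
    (τ : (Scheme.Modules.pullback r).obj (Twist.twistProjSpace N k 1) ≅ L) (s : Fin (N + 1) → Γ(L, ⊤))
    (hτ : ∀ i, τ.hom.app ⊤ (ProjUP.pullSec r (Twist.twistProjSpace N k 1) (ProjUP.coord N k i)) = s i)
    (c : Fin (N + 1)) {U : X.Opens} (hUc : r ⁻¹ᵁ Proj.basicOpen (CohB1.polyGrading N k) (MvPolynomial.X c) = U)
    (hU : IsAffineOpen U) {n : ℕ} (g : Fin n → Γ(X, U))
    (hgen : Function.Surjective (eval₂Hom (PnCoh.Chow.aHom (X ↘ Spec (CommRingCat.of k)) U) g))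
    (hg : ∀ j, ∃ d, AModX.res L (le_top : U ≤ ⊤) (s d) = g j • AModX.res L (le_top : U ≤ ⊤) (s c)) :
    IsClosedImmersion (r ∣_ Proj.basicOpen (CohB1.polyGrading N k) (MvPolynomial.X c)) := by
  subst hUc
  let D : (CohB1.ProjSpace N k).Opens := Proj.basicOpen (CohB1.polyGrading N k) (MvPolynomial.X c)
  haveI : IsAffine D.toScheme := Proj.isAffineOpen_basicOpen (CohB1.polyGrading N k) (MvPolynomial.X c) (ProjPt.X_mem c) one_pos
  haveI : IsAffine (r ⁻¹ᵁ D).toScheme := hU
  let ev : Γ(CohB1.ProjSpace N k, D) →+* Γ(X, r ⁻¹ᵁ D) := (r.appLE D (r ⁻¹ᵁ D) le_rfl).hom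
  have hconst : ev.comp (PnCoh.Chow.aHom (CohB1.ProjSpace.toSpec N k) D) =
      PnCoh.Chow.aHom (X ↘ Spec (CommRingCat.of k)) (r ⁻¹ᵁ D) := by
    rw [PnCoh.Chow.aHom_comp (CohB1.ProjSpace.toSpec N k) r D (r ⁻¹ᵁ D) le_rfl, hr]
  have hfr : InvX.IsFrame (AModX.res L (le_top : r ⁻¹ᵁ D ≤ ⊤) (s c)) :=
    AmpleX.isFrame_res_of_le (s c) (preimage_basicOpen_eq_locus k r τ s hτ c).le
  have hratio : ∀ j, ∃ a, ev a = g j := fun j => by
    obtain ⟨d, hd⟩ := hg j
    refine ⟨(Proj.awayToSection (CohB1.polyGrading N k) (MvPolynomial.X c)).hom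
      (HomogeneousLocalization.Away.mk (CohB1.polyGrading N k) (ProjPt.X_mem c) 1 (MvPolynomial.X d)
        (by rw [one_smul]; exact ProjPt.X_mem d)), ?_⟩
    refine hfr.coord_unique le_rfl ?_
    rw [AModX.res_self, ← hd]
    have h := congrArg (τ.hom.app (r ⁻¹ᵁ D))
      (ProjUPX.res_pullG r (ProjPt.X_mem (R := k) d) (ProjPt.X_mem c) (W := r ⁻¹ᵁ D) le_rfl)
    rw [Scheme.Modules.Hom.app_smul] at h
    have e1 : ∀ i, τ.hom.app (r ⁻¹ᵁ D) (AModX.res _ (le_top : r ⁻¹ᵁ D ≤ ⊤) (ProjUPX.pullG r (ProjPt.X_mem (R := k) i))) =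
        AModX.res L (le_top : r ⁻¹ᵁ D ≤ ⊤) (s i) := fun i => by
      rw [← hτ i]
      exact AModX.app_res τ.hom _ _
    exact (e1 d).symm.trans (h.trans (congrArg (_ • ·) (e1 c))) |>.symm
  choose a ha using hratio
  have hsurj : Function.Surjective ev := fun z => by
    obtain ⟨q, rfl⟩ := hgen z
    refine ⟨eval₂Hom (PnCoh.Chow.aHom (CohB1.ProjSpace.toSpec N k) D) a q, ?_⟩
    have h : ev.comp (eval₂Hom (PnCoh.Chow.aHom (CohB1.ProjSpace.toSpec N k) D) a) =
        eval₂Hom (PnCoh.Chow.aHom (X ↘ Spec (CommRingCat.of k)) (r ⁻¹ᵁ D)) g :=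
      MvPolynomial.ringHom_ext (fun x => by
        simp only [RingHom.comp_apply, eval₂Hom_C]
        exact congrArg (fun ψ : k →+* _ => ψ x) hconst)
        fun j => by simp only [RingHom.comp_apply, eval₂Hom_X', ha]
    exact congrArg (fun ψ : _ →+* _ => ψ q) h
  refine IsClosedImmersion.of_surjective_of_isAffine _ ?_
  have hD : D.ι ''ᵁ ⊤ = D := D.ι_image_top
  have happ : Function.Surjective (r.app (D.ι ''ᵁ ⊤)).hom := by
    rw [hD, Scheme.Hom.app_eq_appLE]; exact hsurj
  rw [morphismRestrict_appTop]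
  intro z
  obtain ⟨y, hy⟩ := ((ConcreteCategory.isIso_iff_bijective
    (X.presheaf.map (eqToHom (show (r ⁻¹ᵁ D).ι ''ᵁ ⊤ = r ⁻¹ᵁ (D.ι ''ᵁ ⊤) by
      rw [hD, Scheme.Opens.ι_image_top])).op)).1 inferInstance).2 z
  obtain ⟨x, hx⟩ := happ y
  exact ⟨x, (congrArg _ hx).trans hy⟩

variable (hdim : topologicalKrullDim X = 2)

include hdim in
/-- A rational curve with negative self-intersection on a projective surface is contracted. -/
theorem exists_contraction (hreg : ∀ x : X, IsRegularLocalRing (X.presheaf.stalk x))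
    {H : X.Modules} (hH : CohB1.IsAmple H) (I : X.IdealSheafData) [IsIntegral I.subscheme]
    (hI : topologicalKrullDim (I.support : Set X) = 1) (e : I.subscheme ≅ CohB1.ProjSpace 1 k)
    (he : e.hom ≫ CohB1.ProjSpace.toSpec 1 k = I.subschemeι ≫ (X ↘ Spec (CommRingCat.of k)))
    {ν : ℕ} (hν0 : 0 < ν) (hν : degOn k (ClSub.quotMod I) (ClSub.idealMod I) = (ν : ℤ)) :
    ∃ (Y : Scheme.{u}) (q : Y ⟶ Spec (CommRingCat.of k)) (g : X ⟶ Y) (P : Y) (hP : IsClosed ({P} : Set Y)),
      g ≫ q = (X ↘ Spec (CommRingCat.of k)) ∧ IsIntegral Y ∧ topologicalKrullDim Y = 2 ∧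
      (∃ (N : ℕ) (ι : Y ⟶ CohB1.ProjSpace N k), IsClosedImmersion ι ∧ ι ≫ CohB1.ProjSpace.toSpec N k = q) ∧
      (∀ x : X, g x = P ↔ x ∈ (I.support : Set X)) ∧
      IsIso (g ∣_ (⟨({P} : Set Y)ᶜ, hP.isOpen_compl⟩ : Y.Opens)) := by
  classical
  haveI := noeth k (X := X)
  haveI : X.IsSeparated := ⟨by
    rw [← Limits.terminal.comp_from (X ↘ Spec (CommRingCat.of k))]
    infer_instance⟩
  have hIc := isEffCartier_curve k hdim hreg I hI
  have hII := isInvertible_curve k hdim hreg I hI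
  obtain ⟨P, hP, hIP⟩ := H23.PicInv.exists_inverse hII
  have hPI : ClSub.IsInverseOf P (ClSub.idealMod I) := isInverseOf_comm hIP
  have hq := isCoh_quotMod k I
  have hqd := dim_support_quot_curve hI
  have hPdeg : degOn k (ClSub.quotMod I) P = -(ν : ℤ) := by rw [degOn_inv k hq hqd hII hP hIP, hν]
  obtain ⟨sC, hsC0, hsC⟩ := AVAmple.exists_divisor_section_ne_zero I hIc hP hPI
  have hlC : ∀ x, x ∈ AmpleX.locus sC ↔ x ∉ (I.support : Set X) := fun x => by
    rw [SetLike.mem_coe, ← hsC x, H23.TrivBasic.locus, AmpleX.genLocus_eq_locus, InvX.one_ofSect]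
  obtain ⟨G, hG, κ, _, σ₀, hσaff, hcov⟩ : ∃ (G : X.Modules) (_ : CohB1.IsAmple G) (κ : Type u) (_ : Fintype κ)
      (σ₀ : κ → (Coh.structureModule X ⟶ G)), (∀ i, IsAffineOpen (CohB1.genLocus G (σ₀ i))) ∧
      ∀ x : X, ∃ i, x ∈ CohB1.genLocus G (σ₀ i) := by
    obtain ⟨b, hb, κ, i, σ₀, h1, -, h2⟩ := AmpleX.exists_cover_genLocus hH
    exact ⟨_, AmpleX.isAmple_tensorPow hH hb, κ, i, σ₀, h1, h2⟩
  have hd := degOn_ample_pos k I hI hG
  set h := (degOn k (ClSub.quotMod I) G).toNat with hh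
  have hh' : (h : ℤ) = degOn k (ClSub.quotMod I) G := Int.toNat_of_nonneg hd.le
  obtain ⟨d₀, hd₀⟩ := AmpleVan.exists_vanishing (A := k) hG (QCoh.isCoh_structureModule' (X := X))
  set t := d₀ + 1
  set a := h * t with ha
  set M := CohB1.tensorPow G (ν * t)
  have hM : PicF.IsInvertible M := H23.PicMul.isInvertible_tensorPow hG.1 _
  have ha0 : 0 < a := Nat.mul_pos (by omega) (Nat.succ_pos d₀)
  let L := CohB1.tensorMod M (CohB1.tensorPow P a)
  have hPa : PicF.IsInvertible (CohB1.tensorPow P a) := H23.PicMul.isInvertible_tensorPow hP a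
  have hL : PicF.IsInvertible L := InvX.isInvertible_tensorMod hM hPa
  obtain ⟨σ, hσ⟩ : ∃ σ : Γ(L, ⊤), (I.support : Set X) ⊆ (AmpleX.locus σ : X.Opens) := by
    refine exists_section_on_curve k I hI e he hP hPI hPdeg hM (a := a) ?_ ha0 ?_ ?_ hL
    · rw [degOn_tensorPow k hq hqd hG.1, ← hh', ha]; push_cast; ring
    · haveI : Subsingleton (Coh.HH X (CohB1.tensorMod (Coh.structureModule X) M) (0 + 1)) :=
        hd₀ (ν * t) (le_trans (Nat.le_succ d₀) (Nat.le_mul_of_pos_left t hν0)) 0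
      obtain ⟨u⟩ : Nonempty (CohB1.tensorMod (Coh.structureModule X) M ≅ M) := H23.PicMul.cl_eq_iff.1 (by
        open scoped Groth.Agent.H23.PicMul in
        rw [H23.PicMul.cl_tensor, ← H23.PicMul.one_def, one_mul])
      exact QCoh.subsingleton_HH_of_iso u 1 ‹_›
    · open scoped Groth.Agent.H23.PicMul in
      exact (H23.PicMul.cl_tensor M (CohB1.tensorPow P a)).trans (congrArg (PicF.cl M * ·) (H23.PicMul.cl_tensorPow P a))
  -- sections with affine loci off the curve
  obtain ⟨m', hm'⟩ : ∃ m', ν * t = m' + 1 := ⟨ν * t - 1, by have : 0 < ν * t := Nat.mul_pos hν0 (Nat.succ_pos d₀); omega⟩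
  obtain ⟨a', ha'⟩ : ∃ a', a = a' + 1 := ⟨a - 1, by omega⟩
  let u : κ → Γ(L, ⊤) := fun i => InvX.tmul (AmpleX.powElt (InvX.one (σ₀ i)) (ν * t)) (AmpleX.powElt sC a)
  have hu : ∀ i, AmpleX.locus (u i) = CohB1.genLocus _ (σ₀ i) ⊓ AmpleX.locus sC := fun i => by
    rw [show u i = _ from rfl, AmpleX.locus_tmul hM hPa, AmpleX.genLocus_eq_locus]
    have h1 : AmpleX.locus (AmpleX.powElt (InvX.one (σ₀ i)) (ν * t)) = AmpleX.locus (InvX.one (σ₀ i)) := by
      generalize ν * t = m at hm' ⊢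
      subst hm'
      exact AmpleX.locus_powElt hG.1 _ m'
    have h2 : AmpleX.locus (AmpleX.powElt sC a) = AmpleX.locus sC := by
      generalize a = m at ha' ⊢
      subst ha'
      exact AmpleX.locus_powElt hP _ a'
    rw [h1, h2]
  let Uo : κ → X.Opens := fun i => AmpleX.locus (u i)
  have hUo : ∀ i, IsAffineOpen (Uo i) := fun i => by
    show IsAffineOpen (AmpleX.locus (u i))
    rw [hu]
    let W := CohB1.genLocus _ (σ₀ i)
    haveI := ModPairLib.isAffineHom_interior (ModPairLib.isLocPrincipal_of_isEffCartier hIc)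
    have h1 : IsAffineOpen ((ModPair.interior I).ι ⁻¹ᵁ W) := (hσaff i).preimage (ModPair.interior I).ι
    have h2 := h1.image_of_isOpenImmersion (ModPair.interior I).ι
    rw [Scheme.Hom.image_preimage_eq_opensRange_inf, Scheme.Opens.opensRange_ι] at h2
    rw [show W ⊓ AmpleX.locus sC = ModPair.interior I ⊓ W from Opens.ext (Set.ext fun x => by
      simp only [Opens.coe_inf, Set.mem_inter_iff, SetLike.mem_coe]
      rw [hlC x]
      exact ⟨fun h => ⟨h.2, h.1⟩, fun h => ⟨h.2, h.1⟩⟩)]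
    exact h2
  choose m g hgen using fun i => PnCoh.Chow.exists_gens (X ↘ Spec (CommRingCat.of k)) (hUo i)
  choose n₀ hn₀ using fun p : Σ i, Fin (m i) => exists_extend_function hL (s := u p.1) (U := Uo p.1) rfl (g p.1 p.2)
  set n := Finset.univ.sup n₀
  choose T hT using fun p => hn₀ p n (Finset.le_sup (Finset.mem_univ p))
  let L' := CohB1.tensorMod L (CohB1.tensorPow L n)
  have hL' : PicF.IsInvertible L' := InvX.isInvertible_tensorMod hL (H23.PicMul.isInvertible_tensorPow hL n)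
  -- the family of sections
  let sec : Option (κ ⊕ Σ i, Fin (m i)) → Γ(L', ⊤) := fun c => match c with
    | none => twistSect σ n
    | some (Sum.inl i) => twistSect (u i) n
    | some (Sum.inr p) => T p
  obtain ⟨N, ⟨ε⟩⟩ : ∃ N : ℕ, Nonempty (Option (κ ⊕ Σ i, Fin (m i)) ≃ Fin (N + 1)) :=
    ⟨Fintype.card (κ ⊕ Σ i, Fin (m i)), ⟨Fintype.equivFinOfCardEq Fintype.card_option⟩⟩
  let s : Fin (N + 1) → Γ(L', ⊤) := fun c => sec (ε.symm c)
  have hs : ∀ c, s (ε c) = sec c := fun c => congrArg sec (ε.symm_apply_apply c)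
  have hmem : ∀ x, x ∈ (I.support : Set X) ∨ ∃ i, x ∈ Uo i := fun x => by
    by_cases hx : x ∈ (I.support : Set X)
    · exact Or.inl hx
    · obtain ⟨i, hi⟩ := hcov x
      refine Or.inr ⟨i, ?_⟩
      show x ∈ AmpleX.locus (u i)
      rw [hu]
      exact ⟨hi, (hlC x).2 hx⟩
  have hgenBy : ProjUP.GeneratedBy L' s := ProjUPX.generatedBy_of_frames s fun x => by
    rcases hmem x with hx | ⟨i, hi⟩
    · refine ⟨ε none, AmpleX.locus σ, hσ hx, ?_⟩
      rw [hs]
      exact isFrame_res_twistSect σ le_rfl n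
    · refine ⟨ε (some (Sum.inl i)), Uo i, hi, ?_⟩
      rw [hs]
      exact isFrame_res_twistSect (u i) le_rfl n
  obtain ⟨r, hr, τ, hτ⟩ := S3572.result N (X ↘ Spec (CommRingCat.of k)) L' hL' s hgenBy
  haveI : IsProper (CohB1.ProjSpace.toSpec N k) := PnCoh.Chow.isProper_toSpec N k
  haveI : (CohB1.ProjSpace N k).IsSeparated := ⟨by
    rw [← Limits.terminal.comp_from (CohB1.ProjSpace.toSpec N k)]; infer_instance⟩
  haveI : IsProper r := by
    haveI : IsProper (r ≫ CohB1.ProjSpace.toSpec N k) := by rw [hr]; infer_instance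
    exact IsProper.of_comp r (CohB1.ProjSpace.toSpec N k)
  let ch : Fin (N + 1) → (CohB1.ProjSpace N k).Opens := fun c =>
    Proj.basicOpen (CohB1.polyGrading N k) (MvPolynomial.X c)
  have hloc : ∀ c, r ⁻¹ᵁ ch c = AmpleX.locus (s c) := preimage_basicOpen_eq_locus k r τ s hτ
  have htw : ∀ {S : Γ(L, ⊤)}, AmpleX.locus (twistSect S n) = AmpleX.locus S := fun {S} => by
    rw [twistSect, AmpleX.locus_tmul hL (H23.PicMul.isInvertible_tensorPow hL n)]
    refine inf_eq_left.2 (AmpleX.le_locus _ le_top ?_)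
    rw [AmpleX.res_powElt]
    exact AmpleX.isFrame_powElt (AmpleX.isFrame_res_locus S) n
  have hci : ∀ i, r ⁻¹ᵁ ch (ε (some (Sum.inl i))) = Uo i := fun i => by
    rw [hloc, hs]; exact htw
  have himm : ∀ i, IsClosedImmersion (r ∣_ ch (ε (some (Sum.inl i)))) := fun i =>
    isClosedImmersion_chart k r hr τ s hτ _ (hci i) (hUo i) (g i) (hgen i) fun j =>
      ⟨ε (some (Sum.inr ⟨i, j⟩)), by rw [hs, hs]; exact hT ⟨i, j⟩⟩
  let Pb : (CohB1.ProjSpace N k).Opens := ⨆ i, ch (ε (some (Sum.inl i)))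
  have hPb : ∀ x, r x ∈ Pb ↔ x ∉ (I.support : Set X) := fun x => by
    constructor
    · intro hx hxI
      obtain ⟨i, hi⟩ := Opens.mem_iSup.1 hx
      have h1 : x ∈ r ⁻¹ᵁ ch (ε (some (Sum.inl i))) := hi
      rw [hci i] at h1
      have h2 : x ∈ AmpleX.locus (u i) := h1
      rw [hu] at h2
      exact (hlC x).1 h2.2 hxI
    · intro hx
      obtain ⟨i, hi⟩ := (hmem x).resolve_left hx
      exact Opens.mem_iSup.2 ⟨i, show x ∈ r ⁻¹ᵁ ch (ε (some (Sum.inl i))) from (hci i).symm ▸ hi⟩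
  haveI : IsClosedImmersion (r ∣_ Pb) := by
    refine IsZariskiLocalAtTarget.of_iSup_eq_top (P := @IsClosedImmersion)
      (fun i => Pb.ι ⁻¹ᵁ ch (ε (some (Sum.inl i)))) ?_ fun i => ?_
    · refine eq_top_iff.2 fun z _ => ?_
      obtain ⟨i, hi⟩ := Opens.mem_iSup.1 z.2
      exact Opens.mem_iSup.2 ⟨i, hi⟩
    · refine (MorphismProperty.arrow_mk_iso_iff @IsClosedImmersion
        (morphismRestrictRestrict _ _ _ ≪≫ morphismRestrictEq _ ?_)).2 (himm i)
      rw [Scheme.Hom.image_preimage_eq_opensRange_inf, Scheme.Opens.opensRange_ι, inf_eq_right]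
      exact le_iSup (fun i => ch (ε (some (Sum.inl i)))) i
  -- the image of the curve is a point
  have hξ : ∀ x ∈ (I.support : Set X), r x = r (genC I) := fun x hx => by
    have hcl : IsClosed (r '' (I.support : Set X)) := r.isClosedMap _ I.support.isClosed
    have hsubI : closure ({r (genC I)} : Set (CohB1.ProjSpace N k)) ⊆
        (ch (ε none) : Set (CohB1.ProjSpace N k)) := fun z hz => by
      obtain ⟨w, hw, rfl⟩ := closure_minimal
        (show ({r (genC I)} : Set (CohB1.ProjSpace N k)) ⊆ r '' (I.support : Set X) from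
          Set.singleton_subset_iff.2 (Set.mem_image_of_mem _ (genC_mem I))) hcl hz
      show w ∈ r ⁻¹ᵁ ch (ε none)
      rw [hloc, hs]
      show w ∈ AmpleX.locus (twistSect σ n)
      rw [htw]
      exact hσ hw
    let J := Scheme.IdealSheafData.vanishingIdeal (Closeds.closure ({r (genC I)} : Set (CohB1.ProjSpace N k)))
    have hrJ : Set.range J.subschemeι = closure {r (genC I)} := H23.RedSub.range_vanishingIdeal _
    haveI : IsIntegral J.subscheme := QCoh.isIntegral_closure_point _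
    haveI : IsAffine J.subscheme := by
      have h1 := (Proj.isAffineOpen_basicOpen (CohB1.polyGrading N k) (MvPolynomial.X (ε none)) (ProjPt.X_mem _)
        one_pos).preimage J.subschemeι
      rw [show J.subschemeι ⁻¹ᵁ Proj.basicOpen (CohB1.polyGrading N k) (MvPolynomial.X (ε none)) = ⊤ from
        top_le_iff.1 fun w _ => hsubI (hrJ.le ⟨w, rfl⟩)] at h1
      haveI : IsAffine ((⊤ : J.subscheme.Opens) : Scheme.{u}) := h1
      exact IsAffine.of_isIso J.subscheme.topIso.inv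
    have h0 := dim_zero_of_affine_proper (k := k) (J.subschemeι ≫ CohB1.ProjSpace.toSpec N k)
    rw [dim_subscheme, show (J.support : Set (CohB1.ProjSpace N k)) = closure {r (genC I)} by
        rw [← Scheme.IdealSheafData.range_subschemeι]; exact hrJ,
      VarDim.topologicalKrullDim_closure_singleton (CohB1.ProjSpace.toSpec N k)] at h0
    have hc := (VarDim.closedPoint_iff_deg_eq_zero (CohB1.ProjSpace.toSpec N k) (r (genC I))).2
      (Nat.le_zero.1 (by exact_mod_cast h0))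
    have hsp : r (genC I) ⤳ r x :=
      (specializes_iff_mem_closure.2 ((closure_genC I).symm ▸ hx : x ∈ closure {genC I})).map r.continuous
    exact (Set.mem_singleton_iff.1 (hc.closure_eq ▸ specializes_iff_mem_closure.1 hsp))
  -- the image
  let J := Scheme.IdealSheafData.vanishingIdeal (Closeds.closure ({r (genericPoint X)} : Set (CohB1.ProjSpace N k)))
  have hrJ : Set.range J.subschemeι = closure {r (genericPoint X)} := H23.RedSub.range_vanishingIdeal _
  haveI : IsIntegral J.subscheme := QCoh.isIntegral_closure_point _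
  have hsubJ : Set.range r ⊆ Set.range J.subschemeι := by
    rw [hrJ]
    rintro _ ⟨x, rfl⟩
    exact specializes_iff_mem_closure.1 ((genericPoint_specializes x).map r.continuous)
  obtain ⟨g', hg'⟩ := H23.RedSub.exists_lift_closed r J.subschemeι hsubJ
  have hpt : ∀ x, J.subschemeι (g' x) = r x := fun x => by rw [← Scheme.Hom.comp_apply, hg']
  have hsurj : ∀ y, ∃ x, g' x = y := fun y => by
    have h1 : J.subschemeι y ∈ Set.range r := by
      refine closure_minimal (show ({r (genericPoint X)} : Set (CohB1.ProjSpace N k)) ⊆ Set.range r from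
        Set.singleton_subset_iff.2 ⟨_, rfl⟩) r.isClosedMap.isClosed_range ?_
      exact hrJ.le ⟨y, rfl⟩
    obtain ⟨x, hx⟩ := h1
    exact ⟨x, J.subschemeι.isClosedEmbedding.injective ((hpt x).trans hx)⟩
  set y₀ := g' (genC I)
  have hy : ∀ x, g' x = y₀ ↔ x ∈ (I.support : Set X) := fun x => by
    constructor
    · intro hx
      by_contra hxI
      have h1 := (hPb x).2 hxI
      rw [← hpt, hx, hpt] at h1
      exact (hPb _).1 h1 (genC_mem I)
    · intro hx
      exact J.subschemeι.isClosedEmbedding.injective (by rw [hpt, hpt]; exact hξ x hx)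
  have hVset : ((J.subschemeι ⁻¹ᵁ Pb : J.subscheme.Opens) : Set J.subscheme) = ({y₀} : Set J.subscheme)ᶜ := by
    ext y
    obtain ⟨x, rfl⟩ := hsurj y
    show J.subschemeι (g' x) ∈ Pb ↔ g' x ∈ ({y₀} : Set J.subscheme)ᶜ
    rw [hpt, hPb, Set.mem_compl_iff, Set.mem_singleton_iff, hy]
  have hy₀ : IsClosed ({y₀} : Set J.subscheme) := by
    rw [← isOpen_compl_iff, ← hVset]
    exact (J.subschemeι ⁻¹ᵁ Pb).2
  have hV : (⟨({y₀} : Set J.subscheme)ᶜ, hy₀.isOpen_compl⟩ : J.subscheme.Opens) = J.subschemeι ⁻¹ᵁ Pb :=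
    Opens.ext hVset.symm
  haveI : IsClosedImmersion (g' ∣_ (J.subschemeι ⁻¹ᵁ Pb)) := by
    haveI : IsClosedImmersion ((g' ∣_ (J.subschemeι ⁻¹ᵁ Pb)) ≫ (J.subschemeι ∣_ Pb)) := by
      rw [← morphismRestrict_comp]
      have h : ∀ r' : X ⟶ CohB1.ProjSpace N k, r' = r → IsClosedImmersion (r' ∣_ Pb) := by
        rintro _ rfl; infer_instance
      exact h _ hg'
    exact IsClosedImmersion.of_comp _ (J.subschemeι ∣_ Pb)
  haveI : Surjective (g' ∣_ (J.subschemeι ⁻¹ᵁ Pb)) := ⟨fun y => by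
    obtain ⟨x, hx⟩ := hsurj y.1
    refine ⟨⟨x, show g' x ∈ J.subschemeι ⁻¹ᵁ Pb from hx ▸ y.2⟩, ?_⟩
    refine (J.subschemeι ⁻¹ᵁ Pb).ι.isOpenEmbedding.injective ?_
    rw [← Scheme.Hom.comp_apply, morphismRestrict_ι]
    exact hx⟩
  haveI : IsReduced (J.subschemeι ⁻¹ᵁ Pb).toScheme := isReduced_of_isOpenImmersion (J.subschemeι ⁻¹ᵁ Pb).ι
  have hiso : IsIso (g' ∣_ (J.subschemeι ⁻¹ᵁ Pb)) := isIso_of_isClosedImmersion_of_surjective _
  refine ⟨J.subscheme, J.subschemeι ≫ CohB1.ProjSpace.toSpec N k, g', y₀, hy₀, ?_, inferInstance, ?_,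
    ⟨N, J.subschemeι, inferInstance, rfl⟩, hy, hV ▸ hiso⟩
  · rw [reassoc_of% hg', hr]
  · -- dimension
    rw [VarDim.topologicalKrullDim_eq_deg_genericPoint (J.subschemeι ≫ CohB1.ProjSpace.toSpec N k)]
    have hη : genericPoint X ∉ (I.support : Set X) := fun hη' => by
      have : (I.support : Set X) = Set.univ := Set.eq_univ_of_forall fun x =>
        (genericPoint_specializes x).mem_closed I.support.isClosed hη'
      rw [this, IsHomeomorph.topologicalKrullDim_eq _ (Homeomorph.Set.univ X).isHomeomorph, hdim] at hI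
      exact absurd hI (by norm_num)
    haveI := hiso
    let v : (g' ⁻¹ᵁ (J.subschemeι ⁻¹ᵁ Pb)).toScheme := ⟨genericPoint X, show J.subschemeι (g' _) ∈ Pb by
      rw [hpt]; exact (hPb _).2 hη⟩
    have e1 : g' (genericPoint X) = genericPoint J.subscheme := by
      refine J.subschemeι.isClosedEmbedding.injective ?_
      rw [hpt]
      obtain ⟨z, hz⟩ : r (genericPoint X) ∈ Set.range J.subschemeι := hrJ.ge (subset_closure rfl)
      exact ((specializes_iff_mem_closure.2 (hrJ.le ⟨_, rfl⟩)).antisymm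
        (hz ▸ (genericPoint_specializes z).map J.subschemeι.continuous)).eq
    let jq := J.subschemeι ≫ CohB1.ProjSpace.toSpec N k
    have hgq : g' ≫ jq = X ↘ Spec (CommRingCat.of k) := by simp only [jq]; rw [reassoc_of% hg', hr]
    let j := (g' ∣_ (J.subschemeι ⁻¹ᵁ Pb)) ≫ (J.subschemeι ⁻¹ᵁ Pb).ι
    have h1 : VarDim.deg (j ≫ jq) v = VarDim.deg jq (j v) := deg_preimmersion k j jq v
    have h2 : VarDim.deg ((g' ⁻¹ᵁ (J.subschemeι ⁻¹ᵁ Pb)).ι ≫ (X ↘ Spec (CommRingCat.of k))) v = 2 := by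
      rw [deg_preimmersion k _ _ v]
      exact deg_genericPoint_two k (X ↘ Spec (CommRingCat.of k)) hdim
    rw [VarDim.deg_congr (show j ≫ jq = (g' ⁻¹ᵁ (J.subschemeι ⁻¹ᵁ Pb)).ι ≫ (X ↘ Spec (CommRingCat.of k)) by
      simp only [j]; rw [morphismRestrict_ι, Category.assoc, hgq]) v, h2,
      show j v = genericPoint J.subscheme by
        simp only [j]; rw [morphismRestrict_ι, Scheme.Hom.comp_apply]; exact e1] at h1
    rw [show VarDim.deg (J.subschemeι ≫ CohB1.ProjSpace.toSpec N k) (genericPoint J.subscheme) = 2 from h1.symm]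
    rfl

end Groth.Agent.SurfInt
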