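import Groth.Agent.SurfInt.Hodge

/-! Quadratic growth of sections on a surface. -/

noncomputable section

set_option linter.style.haveILetI false
set_option linter.unusedSectionVars false
set_option backward.isDefEq.respectTransparency false
set_option backward.isDefEq.respectTransparency.types false

universe u

open CategoryTheory CategoryTheory.Limits AlgebraicGeometry TopologicalSpace Opposite

namespace Groth.Agent.SurfInt

open Groth.Agent

variable (k : Type u) [Field k] {X : Scheme.{u}} [X.Over (Spec (CommRingCat.of k))]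
  [IsProper (X ↘ Spec (CommRingCat.of k))] [IsIntegral X] (hdim : topologicalKrullDim X = 2)

include hdim

/-- Sections of a module of positive square and degree grow quadratically. -/
theorem quadratic_growth {L H : X.Modules} (hL : PicF.IsInvertible L) (hH : CohB1.IsAmple H)
    (hLH : 0 < dot k L H) (hLL : 0 < dot k L L) :
    ∃ c : ℚ, 0 < c ∧ ∃ m₀ : ℕ, ∀ m : ℕ, m₀ ≤ m →
      c * (m : ℚ) ^ 2 < (Module.finrank k (Coh.HH X (CohB1.tensorPow L m) 0) : ℚ) := by
  haveI := noeth k (X := X)
  haveI : X.IsSeparated := ⟨by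
    rw [← Limits.terminal.comp_from (X ↘ Spec (CommRingCat.of k))]
    infer_instance⟩
  obtain ⟨n₀, hn₀⟩ := exists_bound_h2 k hdim hH
  set b := 2 * (Curv2.euler k X L - Curv2.euler k X (Coh.structureModule X)) - dot k L L with hb
  set e := 2 * Curv2.euler k X (Coh.structureModule X) with he
  refine ⟨(dot k L L : ℚ) / 4, div_pos (Int.cast_pos.2 hLL) (by norm_num),
    n₀.toNat + 2 * b.natAbs + 2 * e.natAbs + 1, fun n hn => ?_⟩
  have hP := H23.PicMul.isInvertible_tensorPow hL n
  haveI := hn₀ _ hP (by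
    rw [dot_tensorPow_left k hdim.le hL hH.1]
    have h1 : (n : ℤ) * 1 ≤ n * dot k L H := mul_le_mul_of_nonneg_left hLH (by positivity)
    omega)
  have heu := two_mul_euler_tensorPow k hdim.le hL n
  rw [← hb, ← he] at heu
  rw [Euler.euler_eq_sum k _ 3 fun i hi => Snapper.subsingleton_HH_of_dim_le (d := 2) hdim.le
    (ZeroSchX.isQCoh_inv hP) (Nat.lt_of_succ_le hi)] at heu
  simp only [Finset.sum_range_succ, Finset.sum_range_zero] at heu
  rw [Module.finrank_zero_of_subsingleton (M := Coh.HH X (CohB1.tensorPow L n) 2)] at heu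
  norm_num at heu
  set h0 := Module.finrank k (Coh.HH X (CohB1.tensorPow L n) 0)
  set h1 := Module.finrank k (Coh.HH X (CohB1.tensorPow L n) 1)
  have hbn : 2 * |b| + 2 * |e| + 1 ≤ (n : ℤ) := by
    rw [← Int.natCast_natAbs b, ← Int.natCast_natAbs e]
    exact_mod_cast (by omega : 2 * b.natAbs + 2 * e.natAbs + 1 ≤ n)
  have key : (n : ℤ) ^ 2 * dot k L L < 4 * (h0 : ℤ) := by
    have h1n : (0 : ℤ) ≤ h1 := Int.natCast_nonneg _
    have hn1 : (1 : ℤ) ≤ n := by linarith [abs_nonneg b, abs_nonneg e]
    have h2 : (n : ℤ) ^ 2 * 1 ≤ n ^ 2 * dot k L L := mul_le_mul_of_nonneg_left hLL (by positivity)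
    have h3 : (n : ℤ) * (2 * |b| + 2 * |e| + 1) ≤ n * n := mul_le_mul_of_nonneg_left hbn (by positivity)
    have h4 : -( (n : ℤ) * |b|) ≤ n * b := by
      rw [← mul_neg]; exact mul_le_mul_of_nonneg_left (neg_abs_le b) (by positivity)
    have h5 : (1 : ℤ) * (2 * |e| + 1) ≤ n * (2 * |e| + 1) := mul_le_mul_of_nonneg_right hn1 (by positivity)
    nlinarith [neg_abs_le e]
  have hq : ((n : ℤ) ^ 2 * dot k L L : ℚ) < 4 * (h0 : ℚ) := by exact_mod_cast key
  push_cast at hq
  linarith

end Groth.Agent.SurfInt
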