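import Groth.Agent.SurfInt.ZariskiForm

/-! A fibre as a combination of its components. -/

noncomputable section

set_option linter.style.haveILetI false
set_option linter.unusedSectionVars false
set_option backward.isDefEq.respectTransparency false
set_option backward.isDefEq.respectTransparency.types false

universe u

open CategoryTheory CategoryTheory.Limits AlgebraicGeometry TopologicalSpace Opposite

namespace Groth.Agent.SurfInt

open Groth.Agent

theorem notMem_support_prod_pow {X : Scheme.{u}} {ι : Type*} (s : Finset ι) (C : ι → X.IdealSheafData) (e : ι → ℕ)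
    {x : X} (h : ∀ i ∈ s, 0 < e i → x ∉ ((C i).support : Set X)) :
    x ∉ ((∏ i ∈ s, C i ^ e i).support : Set X) := by
  refine Finset.prod_induction (fun j => C j ^ e j) (fun I => x ∉ (I.support : Set X))
    (fun I J hI hJ hx => ?_) (fun hx => ?_) (fun j hj hx => ?_)
  · rw [Scheme.IdealSheafData.support_mul] at hx
    exact hx.elim hI hJ
  · change x ∈ (⊤ : X.IdealSheafData).support at hx
    rw [Scheme.IdealSheafData.support_top] at hx
    exact hx.elim
  · rcases Nat.eq_zero_or_pos (e j) with h0 | h0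
    · rw [h0, pow_zero] at hx
      change x ∈ (⊤ : X.IdealSheafData).support at hx
      rw [Scheme.IdealSheafData.support_top] at hx
      exact hx.elim
    · rw [Scheme.IdealSheafData.support_pow _ _ h0.ne'] at hx
      exact h j hj h0 hx

variable (k : Type u) [Field k] [IsAlgClosed k] {X : Scheme.{u}} [X.Over (Spec (CommRingCat.of k))]
  [IsProper (X ↘ Spec (CommRingCat.of k))] [IsIntegral X] (hdim : topologicalKrullDim X = 2)
  (hreg : ∀ x : X, IsRegularLocalRing (X.presheaf.stalk x))
  {Y : Scheme.{u}} [Y.Over (Spec (CommRingCat.of k))] [IsProper (Y ↘ Spec (CommRingCat.of k))] [IsIntegral Y]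

include k hdim hreg

/-- The components of a fibre, their multiplicities and their intersection form. -/
theorem exists_fibre_decomp (f : X ⟶ Y) [IsProper f] [Surjective f] (hconn : IsIso (ClSub.unitToPush f))
    (hdimY : topologicalKrullDim Y = 1) {p : Y} (hp : IsClosed ({p} : Set Y))
    (hn : IsIntegrallyClosed (Y.presheaf.stalk p)) :
    ∃ (r : ℕ) (C : Fin r → X.IdealSheafData) (n : Fin r → ℕ), Function.Injective C ∧
      (∀ i, IsIntegral (C i).subscheme) ∧ (∀ i, topologicalKrullDim ((C i).support : Set X) = 1) ∧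
      (∀ i, 0 < n i) ∧ (f.fiberι p).ker = ∏ i, C i ^ n i ∧
      (∀ i, ∑ j, (n j : ℤ) * dot k (ClSub.idealMod (C i)) (ClSub.idealMod (C j)) = 0) ∧
      ∀ a : Fin r → ℤ, mform (fun i j => dot k (ClSub.idealMod (C i)) (ClSub.idealMod (C j))) a a ≤ 0 ∧
        (mform (fun i j => dot k (ClSub.idealMod (C i)) (ClSub.idealMod (C j))) a a = 0 →
          ∀ i j, a i * n j = a j * n i) := by
  classical
  haveI := noeth k (X := X)
  haveI := noeth k (X := Y)
  have hd := hdim.le
  obtain ⟨hF, ⟨eF⟩, hs⟩ := fibre_effCartier k f hdimY hp hn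
  set F := (f.fiberι p).ker with hFdef
  have hfin := finite_curves_through (k := k) F.support (dim_support_effCartier k hdim hF)
  let r := hfin.toFinset.card
  let C : Fin r → X.IdealSheafData := fun i => (hfin.toFinset.equivFin.symm i : X.IdealSheafData)
  have hCmem : ∀ i, IsIntegral (C i).subscheme ∧ topologicalKrullDim ((C i).support : Set X) = 1 ∧
      ((C i).support : Set X) ⊆ (F.support : Set X) := fun i =>
    hfin.mem_toFinset.1 (hfin.toFinset.equivFin.symm i).2
  have hCi := fun i => (hCmem i).1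
  have hCd := fun i => (hCmem i).2.1
  have hCinj : Function.Injective C := fun i j h => hfin.toFinset.equivFin.symm.injective (Subtype.ext h)
  have hall : ∀ D : X.IdealSheafData, IsIntegral D.subscheme → topologicalKrullDim (D.support : Set X) = 1 →
      F ≤ D → ∃ i, C i = D := fun D hDi hD hle =>
    ⟨hfin.toFinset.equivFin ⟨D, hfin.mem_toFinset.2 ⟨hDi, hD, Scheme.IdealSheafData.support_antitone hle⟩⟩,
      by simp [C]⟩
  have hCe : ∀ i, BlowUp.IsEffCartierIdeal (C i) := fun i =>
    haveI := hCi i; isEffCartier_curve k hdim hreg (C i) (hCd i)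
  have iC := fun i => ArSurfX.isInvertible_idealMod (hCe i)
  obtain ⟨n, hn'⟩ := exists_decomp_of_le k hdim hreg C hCi hCd hF hall
  have hpos : ∀ i, 0 < n i := fun i => by
    haveI := hCi i
    by_contra hni
    have hg := (hCmem i).2.2 (genC_mem (C i))
    rw [hn'] at hg
    refine notMem_support_prod_pow Finset.univ C n (fun j _ hj hgj => ?_) hg
    haveI := hCi j
    exact genC_notMem k (hCd i) (hCd j) (fun hh => hni (hCinj hh ▸ hj)) hgj
  have hCv : ∀ i, ∀ x ∈ ((C i).support : Set X), f x = p := fun i x hx => by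
    have := (hCmem i).2.2 hx
    rw [hs] at this
    exact this
  let G : Fin r → Fin r → ℤ := fun i j => dot k (ClSub.idealMod (C i)) (ClSub.idealMod (C j))
  have hrow : ∀ i, ∑ j, (n j : ℤ) * G i j = 0 := fun i => by
    haveI := hCi i
    have h0 : dot k (ClSub.idealMod (C i)) (ClSub.idealMod F) = 0 := by
      rw [dot_ideal_left k hd (C i) (iC i) (ArSurfX.isInvertible_idealMod hF), ← degOn_congr k eF,
        degOn_pullback_const k f (ArSurfX.isInvertible_idealMod (CurveEmbed.isEffCartier_point k hdimY hp hn)) p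
          (C i) (hCv i), neg_zero]
    rw [hn', dot_idealMod_prod k hd (iC i) _ C hCe n] at h0
    exact h0
  refine ⟨r, C, n, hCinj, hCi, hCd, hpos, hn', hrow, fun a => ?_⟩
  have hn0 : ∀ i, (0 : ℤ) < n i := fun i => Int.natCast_pos.2 (hpos i)
  have hsymm : ∀ i j, G i j = G j i := fun i j => dot_comm k hd (iC i) (iC j)
  have hoff := dot_curves_nonneg k hdim hreg C hCi hCd hCinj
  obtain ⟨hnp, heq⟩ := mform_self_nonpos hn0 hsymm hrow hoff a
  refine ⟨hnp, fun hz i₀ j₀ => ?_⟩
  have hedge := heq hz
  by_contra hcon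
  let S : Finset (Fin r) := Finset.univ.filter fun j => a i₀ * n j = a j * n i₀
  have hdis : ∀ i ∈ S, ∀ j ∉ S, Disjoint ((C i).support : Set X) ((C j).support : Set X) := fun i hi j hj => by
    haveI := hCi i
    haveI := hCi j
    have hij : i ≠ j := fun h => hj (h ▸ hi)
    have hG0 : G i j = 0 := by
      by_contra hG
      have h1 := (Finset.mem_filter.1 hi).2
      have h2 := hedge i j hij hG
      refine hj (Finset.mem_filter.2 ⟨Finset.mem_univ _, ?_⟩)
      refine mul_right_cancel₀ (hn0 i).ne' ?_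
      rw [mul_assoc, mul_comm (n j : ℤ), ← mul_assoc, h1, mul_right_comm, h2]
      ring
    exact disjoint_of_dot_eq_zero k hdim hreg (C i) (hCd i) (hCe j)
      (genC_notMem k (hCd i) (hCd j) fun h => hij (hCinj h)) hG0
  have hcov : f ⁻¹' {p} ⊆ (⋃ i ∈ S, ((C i).support : Set X)) ∪ ⋃ i ∈ Sᶜ, ((C i).support : Set X) := fun x hx => by
    by_contra hout
    have hx' : x ∈ (F.support : Set X) := by rw [hs]; exact hx
    rw [hn'] at hx'
    refine notMem_support_prod_pow Finset.univ C n (fun j _ _ hj => hout ?_) hx'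
    by_cases hjS : j ∈ S
    · exact Or.inl (Set.mem_biUnion hjS hj)
    · exact Or.inr (Set.mem_biUnion (Finset.mem_compl.2 hjS) hj)
  haveI := hCi i₀
  haveI := hCi j₀
  have hi₀S : i₀ ∈ S := Finset.mem_filter.2 ⟨Finset.mem_univ _, rfl⟩
  have hj₀S : j₀ ∈ Sᶜ := Finset.mem_compl.2 fun h => hcon (Finset.mem_filter.1 h).2
  obtain ⟨z, -, hz1, hz2⟩ := isPreconnected_closed_iff.1 (isConnected_fibre f hconn p).isPreconnected _ _
    (isClosed_biUnion_finset fun i (_ : i ∈ S) => (C i).support.isClosed)
    (isClosed_biUnion_finset fun i (_ : i ∈ Sᶜ) => (C i).support.isClosed) hcov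
    ⟨genC (C i₀), hCv i₀ _ (genC_mem _), Set.mem_biUnion hi₀S (genC_mem _)⟩
    ⟨genC (C j₀), hCv j₀ _ (genC_mem _), Set.mem_biUnion hj₀S (genC_mem _)⟩
  obtain ⟨i, hi, hzi⟩ := Set.mem_iUnion₂.1 hz1
  obtain ⟨j, hj, hzj⟩ := Set.mem_iUnion₂.1 hz2
  exact Set.disjoint_left.1 (hdis i hi j (Finset.mem_compl.1 hj)) hzi hzj

end Groth.Agent.SurfInt
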