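import Groth.Agent.SurfInt.ExpCurve
import Groth.Agent.SurfInt.FibreDecomp

/-! Effective divisors are determined on opens meeting all their components. -/

noncomputable section

set_option linter.style.haveILetI false
set_option linter.unusedSectionVars false
set_option backward.isDefEq.respectTransparency false
set_option backward.isDefEq.respectTransparency.types false

universe u

open CategoryTheory CategoryTheory.Limits AlgebraicGeometry TopologicalSpace Opposite

namespace Groth.Agent.SurfInt

open Groth.Agent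

variable {X : Scheme.{u}}

theorem map_prod_pow_germ {r : ℕ} (C : Fin r → X.IdealSheafData) [∀ i, IsIntegral (C i).subscheme] (j : Fin r)
    (hoff : ∀ i, i ≠ j → genC (C j) ∉ ((C i).support : Set X)) (W : X.affineOpens) (hW : genC (C j) ∈ W.1)
    (a : Fin r → ℕ) :
    ((∏ i, C i ^ a i).ideal W).map (X.presheaf.germ W.1 (genC (C j)) hW).hom =
      IsLocalRing.maximalIdeal (X.presheaf.stalk (genC (C j))) ^ a j := by
  classical
  let φ : Γ(X, W.1) →+* X.presheaf.stalk (genC (C j)) := (X.presheaf.germ W.1 (genC (C j)) hW).hom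
  have hunit : ∀ i, i ≠ j → ((C i).ideal W).map φ = ⊤ := fun i hi => by
    have h := hoff i hi
    rw [SetLike.mem_coe, Scheme.IdealSheafData.mem_support_iff_of_mem (U := W) hW,
      Scheme.mem_zeroLocus_iff] at h
    push Not at h
    obtain ⟨b, hb, hbξ⟩ := h
    exact Ideal.eq_top_of_isUnit_mem _ (Ideal.mem_map_of_mem φ hb) ((X.mem_basicOpen b _ hW).1 hbξ)
  have hmax : ((C j).ideal W).map φ = IsLocalRing.maximalIdeal (X.presheaf.stalk (genC (C j))) := by
    have hCp : C j = ArSurfX.primeDiv (genC (C j)) := by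
      refine (AlgSpLib.CartierRegular.eq_vanishingIdeal_support (C j)).trans ?_
      exact congrArg _ (Closeds.ext (closure_genC (C j)).symm)
    refine (congrArg (fun I : X.IdealSheafData => (I.ideal W).map φ) hCp).trans ?_
    exact ArSurfX.stk_primeDiv_self (genC (C j)) W hW
  have h : ∀ t : Finset (Fin r), ((∏ i ∈ t, C i ^ a i).ideal W).map φ =
      ∏ i ∈ t, ((C i).ideal W).map φ ^ a i := by
    intro t
    induction t using Finset.induction_on with
    | empty =>
      rw [Finset.prod_empty, Finset.prod_empty, Scheme.IdealSheafData.one_eq_top, Scheme.IdealSheafData.ideal_top,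
        Pi.top_apply, Ideal.map_top, Ideal.one_eq_top]
    | insert i t hi ih =>
      rw [Finset.prod_insert hi, Finset.prod_insert hi, Scheme.IdealSheafData.ideal_mul, Pi.mul_apply,
        Ideal.map_mul, ih, Scheme.IdealSheafData.ideal_pow, Pi.pow_apply, Ideal.map_pow]
  show ((∏ i, C i ^ a i).ideal W).map φ = _
  rw [h, Finset.prod_eq_single j (fun i _ hi => by rw [hunit i hi, ← Ideal.one_eq_top, one_pow])
    (fun h => absurd (Finset.mem_univ j) h), hmax]

theorem maximalIdeal_ne_bot_of_ne_genericPoint [IsIntegral X] {x : X} (hne : x ≠ genericPoint X) :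
    IsLocalRing.maximalIdeal (X.presheaf.stalk x) ≠ ⊥ := fun h0 => hne (by
  have hd0 : ringKrullDim (X.presheaf.stalk x) = 0 :=
    ringKrullDim_eq_zero_of_isField (IsLocalRing.isField_iff_maximalIdeal_eq.2 h0)
  rw [ringKrullDim_stalk_eq_coheight] at hd0
  have h2 : Order.coheight x = 0 := WithBot.coe_eq_zero.1 hd0
  exact le_antisymm (genericPoint_specializes x) ((Order.coheight_eq_zero.1 h2) (genericPoint_specializes x)))

variable (k : Type u) [Field k] [X.Over (Spec (CommRingCat.of k))] [IsAlgClosed k]
  [IsProper (X ↘ Spec (CommRingCat.of k))] [IsIntegral X] (hdim : topologicalKrullDim X = 2)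
  (hreg : ∀ x : X, IsRegularLocalRing (X.presheaf.stalk x))

include k hdim hreg

theorem eq_of_eq_on_open {A B : X.IdealSheafData} (hA : BlowUp.IsEffCartierIdeal A)
    (hB : BlowUp.IsEffCartierIdeal B) (V : X.Opens)
    (heq : ∀ W : X.affineOpens, W.1 ≤ V → A.ideal W = B.ideal W)
    (hout : ∀ (K : X.IdealSheafData) [IsIntegral K.subscheme], topologicalKrullDim (K.support : Set X) = 1 →
      genC K ∉ V → ¬ A ≤ K ∧ ¬ B ≤ K) : A = B := by
  classical
  haveI := noeth k (X := X)
  have hAB := ArSurfX.isEffCartier_mul hA hB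
  obtain ⟨m, f, hf⟩ :=
    (finite_curves_through (k := k) (A * B).support (dim_support_effCartier k hdim hAB)).fin_embedding
  let K : Fin m → X.IdealSheafData := fun i => f i
  have hmem : ∀ i, IsIntegral (K i).subscheme ∧ topologicalKrullDim ((K i).support : Set X) = 1 ∧
      ((K i).support : Set X) ⊆ (A * B).support := fun i => (hf ▸ Set.mem_range_self i : K i ∈ _)
  haveI : ∀ i, IsIntegral (K i).subscheme := fun i => (hmem i).1
  have hK := fun i => (hmem i).2.1
  have hoff : ∀ i l, i ≠ l → genC (K i) ∉ ((K l).support : Set X) := fun i l h =>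
    genC_notMem k (hK i) (hK l) fun e => h (f.injective e)
  have hsurj : ∀ L : X.IdealSheafData, IsIntegral L.subscheme → topologicalKrullDim (L.support : Set X) = 1 →
      (L.support : Set X) ⊆ (A * B).support → ∃ i, K i = L := fun L h1 h2 h3 => by
    have h : L ∈ Set.range f := hf ▸ ⟨h1, h2, h3⟩
    exact h
  obtain ⟨a, ha⟩ := exists_decomp_of_le k hdim hreg K (fun i => (hmem i).1) hK hA fun L h1 h2 h3 => hsurj L h1 h2 (by
    rw [Scheme.IdealSheafData.support_mul]
    exact fun z hz => Or.inl (Scheme.IdealSheafData.support_antitone h3 hz))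
  obtain ⟨b, hb⟩ := exists_decomp_of_le k hdim hreg K (fun i => (hmem i).1) hK hB fun L h1 h2 h3 => hsurj L h1 h2 (by
    rw [Scheme.IdealSheafData.support_mul]
    exact fun z hz => Or.inr (Scheme.IdealSheafData.support_antitone h3 hz))
  have hle : ∀ (c : Fin m → ℕ) (j : Fin m), 0 < c j → ∏ i, K i ^ c i ≤ K j := fun c j hj => by
    rw [← Finset.mul_prod_erase _ _ (Finset.mem_univ j),
      show K j ^ c j = K j * K j ^ (c j - 1) by rw [← pow_succ']; congr 1; omega, mul_assoc]
    exact mul_le_left' _ _
  rw [ha, hb]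
  refine Finset.prod_congr rfl fun j _ => ?_
  congr 1
  by_cases hj : genC (K j) ∈ V
  · obtain ⟨_, ⟨W', hW', rfl⟩, hjW, hWV⟩ := X.isBasis_affineOpens.exists_subset_of_mem_open hj V.isOpen
    let W : X.affineOpens := ⟨W', hW'⟩
    have hjW' : genC (K j) ∈ W.1 := hjW
    haveI := hreg (genC (K j))
    have e1 := map_prod_pow_germ K j (fun i hi => hoff j i (Ne.symm hi)) W hjW' a
    have e2 := map_prod_pow_germ K j (fun i hi => hoff j i (Ne.symm hi)) W hjW' b
    rw [← ha, heq W hWV, hb, e2] at e1
    have hm := maximalIdeal_ne_bot_of_ne_genericPoint (genC_ne_genericPoint hdim (K j) (hK j))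
    exact le_antisymm (le_of_maximalIdeal_pow_le hm e1.le) (le_of_maximalIdeal_pow_le hm e1.ge)
  · obtain ⟨h1, h2⟩ := hout (K j) (hK j) hj
    have ha0 : a j = 0 := by
      by_contra h0
      exact h1 (ha ▸ hle a j (Nat.pos_of_ne_zero h0))
    have hb0 : b j = 0 := by
      by_contra h0
      exact h2 (hb ▸ hle b j (Nat.pos_of_ne_zero h0))
    rw [ha0, hb0]

end Groth.Agent.SurfInt
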