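import Groth.Agent.SurfInt.Cones
import Groth.Agent.QCoh.DevissageTheta

/-! Degrees of nef modules on sheaves with one-dimensional support. -/

noncomputable section

set_option linter.style.haveILetI false
set_option linter.unusedSectionVars false
set_option backward.isDefEq.respectTransparency false
set_option backward.isDefEq.respectTransparency.types false

universe u

open CategoryTheory CategoryTheory.Limits AlgebraicGeometry TopologicalSpace Opposite

namespace Groth.Agent.SurfInt

open Groth.Agent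

variable (k : Type u) [Field k] {X : Scheme.{u}} [X.Over (Spec (CommRingCat.of k))]
  [IsProper (X ↘ Spec (CommRingCat.of k))]

include k in
theorem dim_le_zero_of_subset {ξ : X} {S : Set X} (hS : IsClosed S) (hsub : S ⊆ closure {ξ}) (hξ : ξ ∉ S)
    (hd : topologicalKrullDim (closure {ξ} : Set X) ≤ 1) : topologicalKrullDim S ≤ 0 := by
  rw [VarDim.topologicalKrullDim_closure_singleton (X ↘ Spec (CommRingCat.of k))] at hd
  rw [VarDim.topologicalKrullDim_set_eq_iSup_deg (X ↘ Spec (CommRingCat.of k)) hS]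
  refine iSup_le fun z => ?_
  have hspec : ξ ⤳ z.1 := specializes_iff_mem_closure.2 (hsub z.2)
  have hlt : z.1 < ξ := lt_iff_le_not_ge.2 ⟨hspec, fun h' => hξ ((hspec.antisymm h').eq ▸ z.2)⟩
  have h1 := VarDim.deg_strictMono (X ↘ Spec (CommRingCat.of k)) hlt
  have h2 : VarDim.deg (X ↘ Spec (CommRingCat.of k)) ξ ≤ 1 := by exact_mod_cast hd
  have h3 : VarDim.deg (X ↘ Spec (CommRingCat.of k)) z.1 = 0 := by omega
  exact_mod_cast h3.le

/-- A real combination of modules of non-negative degree on every curve has non-negative degree on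
sheaves of dimension one. -/
theorem sum_degOn_nonneg_of_curves {ι : Type*} [Fintype ι] {c : ι → ℝ} {N : ι → X.Modules}
    (hN : ∀ a, PicF.IsInvertible (N a))
    (h : ∀ C : X.IdealSheafData, IsIntegral C.subscheme → topologicalKrullDim (C.support : Set X) = 1 →
      0 ≤ ∑ a, c a * (degOn k (ClSub.quotMod C) (N a) : ℝ))
    {F : X.Modules} (hF : Coh.IsCoh F) (hd : topologicalKrullDim (CohB1.support F) ≤ 1) :
    0 ≤ ∑ a, c a * (degOn k F (N a) : ℝ) := by
  haveI := noeth k (X := X)
  have hzero : ∀ G : X.Modules, Coh.IsCoh G → topologicalKrullDim (CohB1.support G) ≤ 0 →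
      ∑ a, c a * (degOn k G (N a) : ℝ) = 0 := fun G hG hd0 =>
    Finset.sum_eq_zero fun a _ => by rw [degOn_eq_zero_of_dim k hG hd0 (hN a), Int.cast_zero, mul_zero]
  have hadd : ∀ S : ShortComplex X.Modules, S.ShortExact → Coh.IsCoh S.X₁ → Coh.IsCoh S.X₂ → Coh.IsCoh S.X₃ →
      ∑ a, c a * (degOn k S.X₂ (N a) : ℝ) =
        (∑ a, c a * (degOn k S.X₁ (N a) : ℝ)) + ∑ a, c a * (degOn k S.X₃ (N a) : ℝ) := fun S hS h1 h2 h3 => by
    rw [← Finset.sum_add_distrib]
    refine Finset.sum_congr rfl fun a _ => ?_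
    rw [degOn_add k hS h1 h2 h3 (hN a), Int.cast_add, mul_add]
  have hiso : ∀ {G G' : X.Modules}, (G ≅ G') →
      ∑ a, c a * (degOn k G (N a) : ℝ) = ∑ a, c a * (degOn k G' (N a) : ℝ) := fun e =>
    Finset.sum_congr rfl fun a _ => by rw [degOn_congr_left k e]
  refine QCoh.devissage_ideals (fun G => Coh.IsCoh G → 0 ≤ ∑ a, c a * (degOn k G (N a) : ℝ)) ?_ ?_ (CohB1.support F) ?_ ?_ hF subset_rfl hF
  · rintro G G' ⟨e⟩ hG hG'
    exact (hiso e) ▸ hG (isCoh_congr e.symm hG')
  · intro G hG hG'
    refine (hzero G hG' ?_).ge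
    rw [QCoh.support_eq_empty_of_isZero hG hG'.1]
    haveI : IsEmpty (∅ : Set X) := Set.isEmpty_coe_sort.2 rfl
    haveI : IsEmpty (IrreducibleCloseds (∅ : Set X)) := ⟨fun Z => isEmptyElim Z.isIrreducible.nonempty.choose⟩
    exact le_of_eq_of_le (Order.krullDim_eq_bot (α := IrreducibleCloseds (∅ : Set X))) bot_le
  · intro S hS h1 h2 h3 hP1 hP3 _
    rw [hadd S hS h1 h2 h3]
    exact add_nonneg (hP1 h1) (hP3 h3)
  · intro ξ hξ _ Z i _ _ hrange I ι hι hI hI0 hIc
    haveI := hι
    letI := overComp k i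
    have hdξ : topologicalKrullDim (closure {ξ} : Set X) ≤ 1 :=
      le_trans (H23.TopDim.dim_le_dim_of_subset hξ) hd
    haveI : IsNoetherian Z :=
      { __ := LocallyOfFiniteType.isLocallyNoetherian i
        __ := QuasiCompact.compactSpace_of_compactSpace i }
    have hO : Coh.IsCoh ((Coh.push i).obj (Coh.structureModule Z)) := QCoh.isCoh_push_structure i
    haveI : Mono ((Coh.push i).map ι) := Functor.map_mono _ ι
    have hc := QCoh.isCoh_cokernel hIc.1 hO ((Coh.push i).map ι)
    have hgenpt : i (genericPoint Z) = ξ := by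
      have h1 := QCoh.range_eq_closure i
      rw [hrange] at h1
      exact (IsGenericPoint.eq (x := ξ) rfl (h1.symm : closure {i (genericPoint Z)} = closure {ξ})).symm
    have hsup : CohB1.support (cokernel ((Coh.push i).map ι)) ⊆ closure {ξ} :=
      (QCoh.support_of_epi hO.1 hc.1 (cokernel.π _)).trans (hrange ▸ QCoh.support_push_subset i QCoh.isQCoh_structureModule)
    have hz : ∑ a, c a * (degOn k (cokernel ((Coh.push i).map ι)) (N a) : ℝ) = 0 :=
      hzero _ hc (dim_le_zero_of_subset k (QCoh.isClosed_support_of_isFT hc.1 hc.2) hsup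
        (hgenpt ▸ (QCoh.mem_support_push_ideal i ι hI hI0).2) hdξ)
    have hsum := hadd (ShortComplex.mk ((Coh.push i).map ι) (cokernel.π _) (cokernel.condition _))
      (.mk' (ShortComplex.exact_of_g_is_cokernel _ (cokernelIsCokernel _)) inferInstance inferInstance) hIc hO hc
    suffices 0 ≤ ∑ a, c a * (degOn k ((Coh.push i).obj (Coh.structureModule Z)) (N a) : ℝ) by
      rw [hsum, hz, add_zero] at this
      exact this
    have hdZ : topologicalKrullDim Z = topologicalKrullDim (closure {ξ} : Set X) := by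
      rw [← hrange]
      exact IsHomeomorph.topologicalKrullDim_eq _ i.isEmbedding.toHomeomorph.isHomeomorph
    by_cases h1 : topologicalKrullDim (closure {ξ} : Set X) = 1
    · obtain ⟨e, -⟩ := exists_iso_subscheme i
      haveI : AlgebraicGeometry.IsIntegral i.ker.subscheme :=
        haveI : Nonempty i.ker.subscheme := ⟨e.hom (genericPoint Z)⟩
        isIntegral_of_isOpenImmersion e.inv
      rw [← hiso (nonempty_quotMod_iso i).some]
      refine h _ inferInstance ?_
      rw [← dim_subscheme i.ker, ← h1, ← hdZ]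
      exact IsHomeomorph.topologicalKrullDim_eq _ (Scheme.homeoOfIso e.symm).isHomeomorph
    · refine (hzero _ hO ?_).ge
      refine le_trans (H23.TopDim.dim_le_dim_of_subset
        (hrange ▸ QCoh.support_push_subset i QCoh.isQCoh_structureModule)) ?_
      exact le_of_lt_succ_dim (s := 0) (lt_of_le_of_ne (by exact_mod_cast hdξ) (by exact_mod_cast h1))

/-- A module of non-negative degree on every curve has non-negative degree on sheaves of dimension one. -/
theorem degOn_nonneg_of_curves {M : X.Modules} (hM : PicF.IsInvertible M)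
    (h : ∀ C : X.IdealSheafData, IsIntegral C.subscheme → topologicalKrullDim (C.support : Set X) = 1 →
      0 ≤ degOn k (ClSub.quotMod C) M)
    {F : X.Modules} (hF : Coh.IsCoh F) (hd : topologicalKrullDim (CohB1.support F) ≤ 1) :
    0 ≤ degOn k F M := by
  have := sum_degOn_nonneg_of_curves k (ι := Unit) (c := fun _ => 1) (N := fun _ => M) (fun _ => hM)
    (fun C h1 h2 => by simpa using h C h1 h2) hF hd
  simpa using this

section Cone

variable {k} [AlgebraicGeometry.IsIntegral X] [PicGrp.Law X] [Module.Finite ℝ (NumR.N1R k X)]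
  (hdim : topologicalKrullDim X = 2)
  {B : NumR.N1R k X →ₗ[ℝ] NumR.N1R k X →ₗ[ℝ] ℝ} (hB : NumR.IsIntForm₂ k X B)
  (hreg : ∀ x : X, IsRegularLocalRing (X.presheaf.stalk x))

include hdim hB hreg

/-- Nef classes pair non-negatively with effective ones. -/
theorem form_nef_section_nonneg {x : NumR.N1R k X} (hx : x ∈ NumR.nefCone₂ k X B) {L : X.Modules}
    (hL : PicF.IsInvertible L) (s : Coh.structureModule X ⟶ L) (hs : s ≠ 0) :
    0 ≤ B x (NumR.clR k X L hL) := by
  classical
  obtain ⟨n, e, he⟩ := exists_spanning (k := k) (X := X)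
  choose N hN hNe using fun i => exists_clR (k := k) (X := X) (e i)
  obtain ⟨c, rfl⟩ := he x
  have hsum : ∀ (W : X.Modules) (hW : PicF.IsInvertible W),
      B (Fintype.linearCombination ℝ (fun i => NumR.toN1R k X (e i)) c) (NumR.clR k X W hW) =
        ∑ i, c i * (dot k (N i) W : ℝ) := fun W hW => by
    simp only [Fintype.linearCombination_apply, map_sum, map_smul, LinearMap.sum_apply, LinearMap.smul_apply,
      smul_eq_mul, hNe]
    exact Finset.sum_congr rfl fun i _ => by rw [hB]
  have hd := hdim.le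
  obtain ⟨hF, -⟩ := isInverseOf_zeroScheme hL s hs
  rw [hsum L hL]
  have := sum_degOn_nonneg_of_curves k (c := c) hN (fun C hCi hC => ?_) (isCoh_quotMod k (PicF2.zeroScheme L s))
    (dim_support_quotMod (dim_support_effCartier k hdim hF))
  · refine this.trans_eq (Finset.sum_congr rfl fun i _ => ?_)
    rw [dot_comm k hd (hN i) hL, dot_section_eq k hd hL (hN i) s hs]
  · haveI := hCi
    have hI := isInvertible_curve k hdim hreg C hC
    have h1 := hx C hCi hC hI
    rw [NumR.curveCl, map_neg, hsum _ hI, ← Finset.sum_neg_distrib] at h1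
    refine h1.trans_eq (Finset.sum_congr rfl fun i _ => ?_)
    rw [dot_comm k hd (hN i) hI, dot_ideal_left k hd C hI (hN i)]
    push_cast
    ring

/-- Nef classes pair non-negatively with the positive cone. -/
theorem form_nef_pos_nonneg {x : NumR.N1R k X} (hx : x ∈ NumR.nefCone₂ k X B) {H : X.Modules}
    (hH : CohB1.IsAmple H) {y : NumR.N1R k X} (hy : y ∈ NumR.posCone k X B H hH.1) : 0 ≤ B x y := by
  set h := NumR.clR k X H hH.1
  by_contra hneg
  push Not at hneg
  obtain ⟨_, ⟨N, z, hN, rfl⟩, ⟨hyy, hyh⟩, hxy⟩ := (dense_rational (k := k) (X := X)).exists_mem_open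
    ((isOpen_posCone hdim hB hH).inter (isOpen_lt (continuous_linearMap (B x)) continuous_const)) ⟨y, hy, hneg⟩
  obtain ⟨L, hL, hz⟩ := exists_clR z
  have hN' : (0 : ℝ) < (N : ℝ)⁻¹ := inv_pos.2 (Nat.cast_pos.2 hN)
  simp only [Set.mem_setOf_eq, map_smul, LinearMap.smul_apply, smul_eq_mul, hz] at hyy hyh hxy
  have hxL : B x (NumR.clR k X L hL) < 0 := (pos_iff_neg_of_mul_neg hxy).1 hN'
  rw [hB] at hyy hyh
  have hLL : 0 < dot k L L := Int.cast_pos.1 ((pos_iff_pos_of_mul_pos ((pos_iff_pos_of_mul_pos hyy).1 hN')).1 hN')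
  have hLH : 0 < dot k L H := Int.cast_pos.1 ((pos_iff_pos_of_mul_pos hyh).1 hN')
  obtain ⟨M, hM⟩ := exists_sections_of_pos k hdim hL hH hLH hLL
  obtain ⟨s, hs⟩ := exists_section_ne_zero (hM (M + 1) (Nat.le_succ M))
  have h1 := form_nef_section_nonneg hdim hB hreg hx (H23.PicMul.isInvertible_tensorPow hL (M + 1)) s hs
  have hpow : NumR.clR k X _ (H23.PicMul.isInvertible_tensorPow hL (M + 1)) = ((M + 1 : ℕ) : ℝ) • NumR.clR k X L hL := by
    rw [NumR.clR, NumR.clR, NumR.cl, NumR.cl,
      show PicGrp.cls _ (H23.PicMul.isInvertible_tensorPow hL (M + 1)) = PicGrp.cls L hL ^ (M + 1) from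
        Subtype.ext (PicGrp.cls_pow_val hL (M + 1)).symm, ofMul_pow, map_nsmul, map_nsmul, Nat.cast_smul_eq_nsmul ℝ]
  rw [hpow, map_smul, smul_eq_mul] at h1
  exact absurd h1 (not_le.2 (mul_neg_of_pos_of_neg (by positivity) hxL))

/-- Nef classes have non-negative square. -/
theorem form_nef_self_nonneg {x : NumR.N1R k X} (hx : x ∈ NumR.nefCone₂ k X B) {H : X.Modules}
    (hH : CohB1.IsAmple H) : 0 ≤ B x x := by
  set h := NumR.clR k X H hH.1
  have hhh : 0 < B h h := form_self_pos hdim hB hH
  have hp : 0 ≤ B x h := form_nef_pos_nonneg hdim hB hreg hx hH ⟨hhh, hhh⟩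
  by_contra hneg
  push Not at hneg
  set p := B x h
  set a := - B x x with ha
  have ha0 : 0 < a := neg_pos.2 hneg
  set ε := Real.sqrt (B h h * a) / 2
  have hε0 : 0 < ε := by positivity
  have hε : ε ^ 2 < B h h * a := by
    rw [div_pow, Real.sq_sqrt (by positivity)]
    linarith [mul_pos hhh ha0]
  have hy : h + ((p + ε) / a) • x ∈ NumR.posCone k X B H hH.1 := by
    constructor
    · simp only [map_add, map_smul, LinearMap.add_apply, LinearMap.smul_apply, smul_eq_mul, form_comm hdim hB h x]
      rw [show B x x = -a by rw [ha]; ring, show B x h = p from rfl]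
      have : B h h + (p + ε) / a * p + ((p + ε) / a * p + (p + ε) / a * ((p + ε) / a * -a)) =
          (B h h * a + p ^ 2 - ε ^ 2) / a := by field_simp; ring
      have hpos : 0 < (B h h * a + p ^ 2 - ε ^ 2) / a := div_pos (by nlinarith [sq_nonneg p]) ha0
      rw [← this] at hpos
      linarith
    · simp only [map_add, map_smul, LinearMap.add_apply, LinearMap.smul_apply, smul_eq_mul]
      exact add_pos_of_pos_of_nonneg hhh (mul_nonneg (by positivity) hp)
  have h1 := form_nef_pos_nonneg hdim hB hreg hx hH hy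
  simp only [map_add, map_smul, smul_eq_mul] at h1
  rw [show B x x = -a by rw [ha]; ring, show B x h = p from rfl] at h1
  have : (p + ε) / a * -a = -(p + ε) := by field_simp
  linarith

end Cone

end Groth.Agent.SurfInt
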