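import Groth.Agent.SurfInt.Split
import Groth.Agent.SurfInt.Nef

/-! The support of a nef and big effective divisor on a projective surface is connected. -/

noncomputable section

set_option linter.style.haveILetI false
set_option linter.unusedSectionVars false
set_option backward.isDefEq.respectTransparency false
set_option backward.isDefEq.respectTransparency.types false

universe u

open CategoryTheory CategoryTheory.Limits AlgebraicGeometry TopologicalSpace Opposite

namespace Groth.Agent.SurfInt

open Groth.Agent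

variable (k : Type u) [Field k] {X : Scheme.{u}} [X.Over (Spec (CommRingCat.of k))]
  [IsProper (X ↘ Spec (CommRingCat.of k))]

/-- An ideal has degree zero on a closed subscheme missing its support. -/
theorem degOn_quot_ideal_eq_zero (A : X.IdealSheafData) {F : X.IdealSheafData}
    (hF : PicF.IsInvertible (ClSub.idealMod F)) (hdis : Disjoint (A.support : Set X) (F.support : Set X)) :
    degOn k (ClSub.quotMod A) (ClSub.idealMod F) = 0 := by
  letI := overComp k A.subschemeι
  haveI := isProper_comp k A.subschemeι rfl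
  let φ := (Scheme.Modules.pullback A.subschemeι).map (ClSub.idealModι F)
  haveI : ∀ y, IsIso ((DerSch.stalkFunctor A.subscheme y).map φ) := fun y => by
    haveI : IsIso ((DerSch.stalkFunctor X (A.subschemeι.base y)).map (ClSub.idealModι F)) :=
      isIso_stalk_idealModι F (hdis.notMem_of_mem_left (A.range_subschemeι.le ⟨y, rfl⟩))
    refine (NatIso.isIso_map_iff (KFlatLib.stalkPullbackIso A.subschemeι y) (ClSub.idealModι F)).2 ?_
    exact Functor.map_isIso (ModuleCat.extendScalars (A.subschemeι.stalkMap y).hom)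
      ((DerSch.stalkFunctor X (A.subschemeι.base y)).map (ClSub.idealModι F))
  haveI : IsIso φ := KFlatLib.isIso_of_stalk φ (fun y => inferInstance)
  have h1 := degOn_push k A.subschemeι rfl hF
  have h2 := degOn_push k A.subschemeι rfl (isInvertible_structure (X := X))
  rw [degOn_one] at h2
  have h3 : Curv2.deg k A.subscheme ((Scheme.Modules.pullback A.subschemeι).obj (ClSub.idealMod F)) 1 =
      Curv2.deg k A.subscheme ((Scheme.Modules.pullback A.subschemeι).obj (Coh.structureModule X)) 1 := by
    rw [Curv2.deg, Curv2.deg, CurveCohLib.euler_congr (k := k) (asIso φ)]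
  have h4 := degOn_quot_ker k A.subschemeι rfl hF
  rw [A.ker_subschemeι] at h4
  rw [h4, h3, ← h2]

include k in
/-- Degrees on curves in a divisor are bounded by the degree on the divisor. -/
theorem degOn_le_of_le {L : X.Modules} (hL : PicF.IsInvertible L)
    (hnef : ∀ C : X.IdealSheafData, IsIntegral C.subscheme → topologicalKrullDim (C.support : Set X) = 1 →
      0 ≤ degOn k (ClSub.quotMod C) L)
    {D C : X.IdealSheafData} (hD : topologicalKrullDim (D.support : Set X) ≤ 1) (hle : D ≤ C) :
    degOn k (ClSub.quotMod C) L ≤ degOn k (ClSub.quotMod D) L := by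
  haveI := noeth k (X := X)
  obtain ⟨π, hπ, -⟩ := exists_quotMod_epi hle
  haveI := hπ
  have hqD := isCoh_quotMod k D
  have hqC := isCoh_quotMod k C
  have hK := QCoh.isCoh_kernel hqD hqC π
  have hdK : topologicalKrullDim (CohB1.support (kernel π)) ≤ 1 :=
    le_trans (H23.TopDim.dim_le_dim_of_subset (show CohB1.support (kernel π) ⊆ D.support from fun x hx => by
      by_contra hxF
      refine hx ?_
      have hS := (CurveSlope.shortExact_kernel_of_epi π).map_of_exact (DerSch.stalkFunctor X x)
      exact @Function.Injective.subsingleton _ _ _ ((ModuleCat.mono_iff_injective _).1 hS.mono_f)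
        (ParShLib.subsingleton_stalk_quotMod D hxF))) hD
  have hS := CurveSlope.shortExact_kernel_of_epi π
  have h := degOn_add k hS hK hqD hqC hL
  have h0 := sum_degOn_nonneg_of_curves k (ι := Unit) (c := fun _ => (1 : ℝ)) (N := fun _ => L) (fun _ => hL)
    (fun K h1 h2 => by simpa using (Int.cast_nonneg (hnef K h1 h2) : (0 : ℝ) ≤ _)) hK hdK
  have h0' : 0 ≤ degOn k (kernel π) L := by
    simpa using h0
  simp only at h
  omega

variable [IsIntegral X] (hdim : topologicalKrullDim X = 2)

include hdim

/-- A nef effective divisor of positive square is not the sum of two disjoint effective divisors one of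
which has positive square. -/
theorem false_of_split {H : X.Modules} (hH : CohB1.IsAmple H) {F G : X.IdealSheafData}
    (hF : BlowUp.IsEffCartierIdeal F) (hG : BlowUp.IsEffCartierIdeal G) (hFne : F ≠ ⊤) (hGne : G ≠ ⊤)
    (hdis : Disjoint (F.support : Set X) (G.support : Set X))
    (hnef : ∀ C : X.IdealSheafData, IsIntegral C.subscheme → topologicalKrullDim (C.support : Set X) = 1 →
      degOn k (ClSub.quotMod C) (ClSub.idealMod G) ≤ 0)
    (hpos : 0 < dot k (ClSub.idealMod F) (ClSub.idealMod F)) : False := by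
  have hd := hdim.le
  have hFi := (S8914.result F).2 hF
  have hGi := (S8914.result G).2 hG
  obtain ⟨L, hL, hLF⟩ := H23.PicInv.exists_inverse hFi
  obtain ⟨M, hM, hMG⟩ := H23.PicInv.exists_inverse hGi
  obtain ⟨J, hJ, hJH⟩ := H23.PicInv.exists_inverse hH.1
  have a1 : 0 < dot k L L := by
    rw [dot_inv_left k hd hFi hL hL hLF, dot_comm k hd hFi hL, dot_inv_left k hd hFi hL hFi hLF]
    omega
  have hLH : 0 < dot k L H := by
    rw [dot_inv_left k hd hFi hL hH.1 hLF, dot_ideal_left k hd F hFi hH.1, neg_neg]
    exact degOn_effCartier_ample_pos k hdim hF hFne hH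
  have hMH : 0 < dot k M H := by
    rw [dot_inv_left k hd hGi hM hH.1 hMG, dot_ideal_left k hd G hGi hH.1, neg_neg]
    exact degOn_effCartier_ample_pos k hdim hG hGne hH
  have hLM : dot k L M = 0 := by
    rw [dot_inv_left k hd hFi hL hM hLF, dot_comm k hd hFi hM, dot_inv_left k hd hGi hM hFi hMG,
      dot_comm k hd hGi hFi, dot_ideal_left k hd F hFi hGi, degOn_quot_ideal_eq_zero k F hGi hdis]
    omega
  set m : ℕ := (dot k H H).natAbs + 2 * (dot k L H).natAbs + 1
  set P := CohB1.tensorMod (CohB1.tensorPow L m) J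
  have hLm := H23.PicMul.isInvertible_tensorPow hL m
  have hP : PicF.IsInvertible P := H23.PicMul.isInvertible_tensor hLm hJ
  have hPdot : ∀ {B : X.Modules}, PicF.IsInvertible B → dot k P B = (m : ℤ) * dot k L B - dot k H B :=
    fun {B} hB => by
    rw [dot_tensor_left k hd hLm hJ hB, dot_tensorPow_left k hd hL hB, dot_inv_left k hd hH.1 hJ hB hJH]
    ring
  have hPPH : dot k P H = (m : ℤ) * dot k L H - dot k H H := hPdot hH.1
  have hm1 : (dot k H H).natAbs + 2 * (dot k L H).natAbs + 1 ≤ m := le_rfl
  have hb1 : |dot k H H| + 2 * |dot k L H| + 1 ≤ (m : ℤ) := by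
    rw [← Int.natCast_natAbs (dot k H H), ← Int.natCast_natAbs (dot k L H)]
    exact_mod_cast hm1
  have hm0 : (0 : ℤ) ≤ m := Int.natCast_nonneg m
  have hPH : 0 < dot k P H := by
    rw [hPPH]
    have : (m : ℤ) * 1 ≤ m * dot k L H := mul_le_mul_of_nonneg_left hLH hm0
    linarith [le_abs_self (dot k H H), abs_nonneg (dot k L H)]
  have hPP : 0 < dot k P P := by
    rw [hPdot hP, dot_comm k hd hL hP, hPdot hL, dot_comm k hd hH.1 hP, hPPH, dot_comm k hd hH.1 hL]
    have h1 : (m : ℤ) * (m * 1) ≤ m * (m * dot k L L) :=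
      mul_le_mul_of_nonneg_left (mul_le_mul_of_nonneg_left a1 hm0) hm0
    have h2 : (m : ℤ) * (|dot k H H| + 2 * |dot k L H| + 1) ≤ m * m := mul_le_mul_of_nonneg_left hb1 hm0
    have h3 : (m : ℤ) * dot k L H ≤ m * |dot k L H| := mul_le_mul_of_nonneg_left (le_abs_self _) hm0
    nlinarith [abs_nonneg (dot k H H), neg_abs_le (dot k H H), abs_nonneg (dot k L H)]
  obtain ⟨N, hN⟩ := exists_sections_of_pos k hdim hP hH hPH hPP
  obtain ⟨s, hs⟩ := exists_section_ne_zero (hN (N + 1) N.le_succ)
  have hQ := H23.PicMul.isInvertible_tensorPow hP (N + 1)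
  obtain ⟨hE, -⟩ := isInverseOf_zeroScheme hQ s hs
  have h0 : 0 ≤ degOn k (ClSub.quotMod (PicF2.zeroScheme _ s)) M := by
    have h := sum_degOn_nonneg_of_curves k (ι := Unit) (c := fun _ => (1 : ℝ)) (N := fun _ => M) (fun _ => hM)
      (fun K h1 h2 => by
        have h3 : 0 ≤ degOn k (ClSub.quotMod K) M := by
          rw [degOn_inv k (isCoh_quotMod k K) (dim_support_quot_curve h2) hGi hM hMG]
          have := hnef K h1 h2
          omega
        simpa using (Int.cast_nonneg h3 : (0 : ℝ) ≤ _))
      (isCoh_quotMod k _) (dim_support_quotMod (n := 1) (dim_support_effCartier k hdim hE))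
    simpa using h
  rw [← dot_section_eq k hd hQ hM s hs, dot_tensorPow_left k hd hP hM, hPdot hM, hLM,
    dot_comm k hd hH.1 hM] at h0
  have h5 : (((N + 1 : ℕ) : ℤ)) * 1 ≤ (N + 1 : ℕ) * dot k M H := mul_le_mul_of_nonneg_left hMH (by positivity)
  push_cast at h0 h5
  nlinarith

/-- The support of a nef effective divisor which has positive degree on one of its curves is connected. -/
theorem isPreconnected_support {H : X.Modules} (hH : CohB1.IsAmple H) {D : X.IdealSheafData}
    (hD : BlowUp.IsEffCartierIdeal D)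
    (hnef : ∀ C : X.IdealSheafData, IsIntegral C.subscheme → topologicalKrullDim (C.support : Set X) = 1 →
      degOn k (ClSub.quotMod C) (ClSub.idealMod D) ≤ 0)
    {C₀ : X.IdealSheafData} [IsIntegral C₀.subscheme] (hC₀ : topologicalKrullDim (C₀.support : Set X) = 1)
    (hle : D ≤ C₀) (hpos : degOn k (ClSub.quotMod C₀) (ClSub.idealMod D) < 0) :
    _root_.IsPreconnected (D.support : Set X) := by
  rw [isPreconnected_closed_iff]
  intro A B hA hB hsub hA' hB'
  by_contra hAB
  rw [Set.not_nonempty_iff_eq_empty] at hAB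
  have hd := hdim.le
  set A₁ := (D.support : Set X) ∩ A
  set B₁ := (D.support : Set X) ∩ B
  have hdis : Disjoint A₁ B₁ := Set.disjoint_left.2 fun x h1 h2 =>
    Set.eq_empty_iff_forall_notMem.1 hAB x ⟨h1.1, h1.2, h2.2⟩
  have hAB₁ : (D.support : Set X) = A₁ ∪ B₁ := by
    rw [← Set.inter_union_distrib_left, Set.inter_eq_left.2 hsub]
  obtain ⟨F, G, hF, hG, hDFG, hFs, hGs⟩ := exists_split hD (D.support.isClosed.inter hA)
    (D.support.isClosed.inter hB) hAB₁ hdis
  have hne : ∀ {K : X.IdealSheafData}, ((K.support : Set X)).Nonempty → K ≠ ⊤ := fun {K} h e => by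
    simp [e] at h
  have hFi := (S8914.result F).2 hF
  have hGi := (S8914.result G).2 hG
  have hDi := (S8914.result D).2 hD
  have hdisj : Disjoint (F.support : Set X) (G.support : Set X) := by rw [hFs, hGs]; exact hdis
  have hmul : ∀ K : X.IdealSheafData, topologicalKrullDim (CohB1.support (ClSub.quotMod K)) ≤ 1 →
      degOn k (ClSub.quotMod K) (ClSub.idealMod D) =
        degOn k (ClSub.quotMod K) (ClSub.idealMod F) + degOn k (ClSub.quotMod K) (ClSub.idealMod G) := fun K hK => by
    rw [hDFG, ← degOn_tensor k (isCoh_quotMod k K) hK hFi hGi,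
      degOn_congr k (ArSurfX.nonempty_idealMod_mul hF hG).some]
  have nef : ∀ (F G : X.IdealSheafData), PicF.IsInvertible (ClSub.idealMod F) →
      PicF.IsInvertible (ClSub.idealMod G) → Disjoint (F.support : Set X) (G.support : Set X) →
      (∀ C : X.IdealSheafData, IsIntegral C.subscheme → topologicalKrullDim (C.support : Set X) = 1 →
        degOn k (ClSub.quotMod C) (ClSub.idealMod F) + degOn k (ClSub.quotMod C) (ClSub.idealMod G) ≤ 0) →
      ∀ C : X.IdealSheafData, IsIntegral C.subscheme → topologicalKrullDim (C.support : Set X) = 1 →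
        degOn k (ClSub.quotMod C) (ClSub.idealMod F) ≤ 0 := fun F G hFi hGi hd h C hC1 hC2 => by
    haveI := hC1
    by_cases hg : genC C ∈ (F.support : Set X)
    · have h0 := degOn_quot_ideal_eq_zero k C hGi (hd.mono_left ((support_subset_iff C).2 hg))
      have := h C hC1 hC2
      omega
    · exact degOn_curve_ideal_nonpos k C hC2 hFi hg
  have hsum : ∀ C : X.IdealSheafData, IsIntegral C.subscheme → topologicalKrullDim (C.support : Set X) = 1 →
      degOn k (ClSub.quotMod C) (ClSub.idealMod F) + degOn k (ClSub.quotMod C) (ClSub.idealMod G) ≤ 0 :=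
    fun C h1 h2 => (hmul C (dim_support_quot_curve h2)) ▸ hnef C h1 h2
  have hnF := nef F G hFi hGi hdisj hsum
  have hnG := nef G F hGi hFi hdisj.symm fun C h1 h2 => (add_comm _ _).trans_le (hsum C h1 h2)
  obtain ⟨L, hL, hLD⟩ := H23.PicInv.exists_inverse hDi
  have hdimD := dim_support_effCartier k hdim hD
  have h1 : 0 < degOn k (ClSub.quotMod D) L := by
    refine lt_of_lt_of_le ?_ (degOn_le_of_le k hL (fun C h1 h2 => ?_) hdimD hle)
    · rw [degOn_inv k (isCoh_quotMod k C₀) (dim_support_quot_curve hC₀) hDi hL hLD]; omega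
    · rw [degOn_inv k (isCoh_quotMod k C) (dim_support_quot_curve h2) hDi hL hLD]
      have := hnef C h1 h2
      omega
  rw [degOn_inv k (isCoh_quotMod k D) (dim_support_quotMod (n := 1) hdimD) hDi hL hLD] at h1
  have h2 : 0 < dot k (ClSub.idealMod D) (ClSub.idealMod D) := by
    rw [dot_ideal_left k hd D hDi hDi]; omega
  rw [hDFG, dot_idealMod_mul k hd (hDFG ▸ hDi) hF hG, dot_comm k hd (hDFG ▸ hDi) hFi,
    dot_comm k hd (hDFG ▸ hDi) hGi, dot_idealMod_mul k hd hFi hF hG, dot_idealMod_mul k hd hGi hF hG] at h2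
  have hFG : dot k (ClSub.idealMod F) (ClSub.idealMod G) = 0 := by
    rw [dot_ideal_left k hd F hFi hGi, degOn_quot_ideal_eq_zero k F hGi hdisj, neg_zero]
  have hGF : dot k (ClSub.idealMod G) (ClSub.idealMod F) = 0 := by rw [dot_comm k hd hGi hFi, hFG]
  rcases lt_or_ge 0 (dot k (ClSub.idealMod F) (ClSub.idealMod F)) with hp | hp
  · exact false_of_split k hdim hH hF hG (hne (hFs ▸ hA')) (hne (hGs ▸ hB')) hdisj hnG hp
  · exact false_of_split k hdim hH hG hF (hne (hGs ▸ hB')) (hne (hFs ▸ hA')) hdisj.symm hnF (by omega)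

end Groth.Agent.SurfInt
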