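import Groth.Agent.SurfInt.Curves
import Mathlib.Algebra.Category.ModuleCat.ChangeOfRings

/-! A curve meeting an effective divisor which does not contain it has positive intersection with it. -/

noncomputable section

set_option linter.style.haveILetI false
set_option linter.unusedSectionVars false
set_option backward.isDefEq.respectTransparency false
set_option backward.isDefEq.respectTransparency.types false

universe u

open CategoryTheory CategoryTheory.Limits AlgebraicGeometry TopologicalSpace Opposite

namespace Groth.Agent.SurfInt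

open Groth.Agent

open scoped TensorProduct in
/-- If a map of modules becomes surjective after extension of scalars to a local ring, its image is not
contained in the contracted maximal ideal. -/
theorem exists_notMem_of_extend_surjective {R R' : Type u} [CommRing R] [CommRing R'] [IsLocalRing R'] (φ : R →+* R')
    {M N : ModuleCat.{u} R} (f : M ⟶ N) (g : N →ₗ[R] R) (hg : Function.Bijective g)
    (h : Function.Surjective ((ModuleCat.extendScalars φ).map f).hom) :
    ∃ m, φ (g (f.hom m)) ∉ IsLocalRing.maximalIdeal R' := by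
  letI := φ.toAlgebra
  by_contra hcon
  push Not at hcon
  let ev : R' ⊗[R] N →ₗ[R] R' := TensorProduct.lift (LinearMap.mk₂ R (fun s n => s * φ (g n))
    (fun s s' n => add_mul _ _ _) (fun c s n => by simp [Algebra.smul_def, RingHom.algebraMap_toAlgebra, mul_assoc])
    (fun s n n' => by simp [mul_add]) (fun c s n => by
      simp [Algebra.smul_def, RingHom.algebraMap_toAlgebra]; ring))
  obtain ⟨n₁, hn₁⟩ := hg.2 1
  obtain ⟨z, hz⟩ := h ((1 : R') ⊗ₜ[R] n₁ : R' ⊗[R] N)
  have hmem : ∀ w : R' ⊗[R] M, ev (((ModuleCat.extendScalars φ).map f).hom w) ∈ IsLocalRing.maximalIdeal R' := by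
    intro w
    induction w using TensorProduct.induction_on with
    | zero =>
      show ev (((ModuleCat.extendScalars φ).map f).hom 0) ∈ _
      rw [map_zero]
      have : ev 0 = 0 := map_zero ev
      exact this ▸ zero_mem (IsLocalRing.maximalIdeal R')
    | tmul s m =>
      show s * φ (g (f.hom m)) ∈ _
      exact Ideal.mul_mem_left _ _ (hcon m)
    | add a b ha hb =>
      show ev (((ModuleCat.extendScalars φ).map f).hom (a + b)) ∈ _
      rw [map_add]
      exact (map_add ev _ _) ▸ add_mem ha hb
  have h1 := hmem z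
  rw [hz] at h1
  have e : ev ((1 : R') ⊗ₜ[R] n₁) = 1 := by
    show 1 * φ (g n₁) = 1
    rw [hn₁, map_one, mul_one]
  exact (IsLocalRing.maximalIdeal.isMaximal R').ne_top ((Ideal.eq_top_iff_one _).2 (e ▸ h1))

/-- Germs of sections of an ideal lie in the maximal ideal at points of its support. -/
theorem stalk_idealModι_mem {X : Scheme.{u}} (F : X.IdealSheafData) {x : X} (hx : x ∈ (F.support : Set X))
    (m : (DerSch.stalkFunctor X x).obj (ClSub.idealMod F)) :
    (KFlatLib.stalkUnitEquiv (X := X) x).symm (((DerSch.stalkFunctor X x).map (ClSub.idealModι F)).hom m) ∈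
      IsLocalRing.maximalIdeal (X.presheaf.stalk x) := by
  obtain ⟨U₀, hU₀, a₀, rfl⟩ := TopCat.Presheaf.exists_germ_eq (C := AddCommGrpCat.{u})
    (ClSub.idealMod F).presheaf (x := x) m
  obtain ⟨U, hU, hxU, hle⟩ := exists_isAffineOpen_mem_and_subset hU₀
  let a : Γ(ClSub.idealMod F, U) := AModX.res _ hle a₀
  let r := X.presheaf.germ U x hxU (OmegaSh.idealSect F U a)
  have h1 : ((DerSch.stalkFunctor X x).map (ClSub.idealModι F)).hom
      ((ClSub.idealMod F).presheaf.germ U₀ x hU₀ a₀) = KFlatLib.stalkUnitEquiv (X := X) x r := by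
    rw [← TopCat.Presheaf.germ_res_apply (ClSub.idealMod F).presheaf (homOfLE hle) x hxU a₀]
    refine Eq.trans (TopCat.Presheaf.stalkFunctor_map_germ_apply U x hxU
      (Scheme.Modules.Hom.mapPresheaf (ClSub.idealModι F)) _) ?_
    show _ = LinearMap.toSpanSingleton _ _ _ r
    rw [LinearMap.toSpanSingleton_apply, ← KFlatLib.germP_oneSec U hxU, ← KFlatLib.germP_smul, KFlatLib.sm_oneSec]
    rfl
  rw [h1, LinearEquiv.symm_apply_apply]
  intro hu
  have hmem := OmegaLib.idealSect_mem F ⟨U, hU⟩ a
  have h2 := (Scheme.IdealSheafData.mem_support_iff_of_mem (U := ⟨U, hU⟩) hxU).1 hx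
  exact ((X.mem_zeroLocus_iff _ _).1 h2 _ hmem) ((X.mem_basicOpen _ x hxU).2 hu)

variable (k : Type u) [Field k] {X : Scheme.{u}} [X.Over (Spec (CommRingCat.of k))]
  [IsProper (X ↘ Spec (CommRingCat.of k))]

/-- The ideal of a divisor has negative degree on a curve meeting it but not inside it. -/
theorem degOn_curve_ideal_neg (C : X.IdealSheafData) [IsIntegral C.subscheme]
    (hC : topologicalKrullDim (C.support : Set X) = 1) {F : X.IdealSheafData}
    (hF : PicF.IsInvertible (ClSub.idealMod F)) (hCF : genC C ∉ (F.support : Set X))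
    (hmeet : ((C.support : Set X) ∩ (F.support : Set X)).Nonempty) :
    degOn k (ClSub.quotMod C) (ClSub.idealMod F) < 0 := by
  refine lt_of_le_of_ne (degOn_curve_ideal_nonpos k C hC hF hCF) fun heq => ?_
  obtain ⟨x, hxC, hxF⟩ := hmeet
  obtain ⟨y, rfl⟩ : x ∈ Set.range C.subschemeι := C.range_subschemeι.symm ▸ hxC
  letI := overComp k C.subschemeι
  haveI := isProper_comp k C.subschemeι rfl
  have hA' := PicClLib.isInvertible_pullback C.subschemeι hF
  have hB' := PicClLib.isInvertible_pullback C.subschemeι (isInvertible_structure (X := X))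
  let φ := (Scheme.Modules.pullback C.subschemeι).map (ClSub.idealModι F)
  have hφ : φ ≠ 0 := fun h0 => by
    let η := genericPoint C.subscheme
    haveI : IsIso ((DerSch.stalkFunctor X (C.subschemeι.base η)).map (ClSub.idealModι F)) :=
      isIso_stalk_idealModι F hCF
    have this : IsIso ((DerSch.stalkFunctor C.subscheme η).map φ) := by
      refine (NatIso.isIso_map_iff (KFlatLib.stalkPullbackIso C.subschemeι η) (ClSub.idealModι F)).2 ?_
      exact Functor.map_isIso (ModuleCat.extendScalars (C.subschemeι.stalkMap η).hom)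
        ((DerSch.stalkFunctor X (C.subschemeι.base η)).map (ClSub.idealModι F))
    rw [h0, Functor.map_zero] at this
    have hz : IsZero ((DerSch.stalkFunctor C.subscheme η).obj
        ((Scheme.Modules.pullback C.subschemeι).obj (Coh.structureModule X))) :=
      (IsZero.iff_id_eq_zero _).2 ((cancel_epi (0 : (DerSch.stalkFunctor C.subscheme η).obj
        ((Scheme.Modules.pullback C.subschemeι).obj (ClSub.idealMod F)) ⟶ _)).1 (by rw [zero_comp, zero_comp]))
    obtain ⟨V, hV, t, t', ht, -⟩ := InvX.exists_frame₂ hB' hB' η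
    haveI : Nontrivial (C.subscheme.presheaf.stalk η) := inferInstance
    exact not_subsingleton (C.subscheme.presheaf.stalk η)
      (@Function.Injective.subsingleton _ _ _ (ht.germ_bijective hV).1 (ModuleCat.subsingleton_of_isZero hz))
  have hiso : IsIso φ := by
    refine (CurveDeg.deg_le_and_isIso k (by rw [dim_subscheme C, hC]) hA' hB' φ hφ).2 ?_
    rw [← degOn_push k C.subschemeι rfl hF, ← degOn_push k C.subschemeι rfl isInvertible_structure, degOn_one]
    exact heq
  have h1 : IsIso ((DerSch.stalkFunctor C.subscheme y).map φ) := inferInstance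
  have h2 : IsIso ((ModuleCat.extendScalars (C.subschemeι.stalkMap y).hom).map
      ((DerSch.stalkFunctor X (C.subschemeι.base y)).map (ClSub.idealModι F))) :=
    (NatIso.isIso_map_iff (KFlatLib.stalkPullbackIso C.subschemeι y) (ClSub.idealModι F)).1 h1
  haveI := h2
  have h3 := ((ModuleCat.epi_iff_surjective _).1 (inferInstance : Epi ((ModuleCat.extendScalars
    (C.subschemeι.stalkMap y).hom).map ((DerSch.stalkFunctor X (C.subschemeι.base y)).map (ClSub.idealModι F)))))
  obtain ⟨m, hm⟩ := exists_notMem_of_extend_surjective (C.subschemeι.stalkMap y).hom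
    ((DerSch.stalkFunctor X (C.subschemeι.base y)).map (ClSub.idealModι F))
    (KFlatLib.stalkUnitEquiv (X := X) _).symm.toLinearMap (KFlatLib.stalkUnitEquiv (X := X) _).symm.bijective h3
  refine hm (map_nonunit _ _ ?_)
  exact stalk_idealModι_mem F hxF m

end Groth.Agent.SurfInt
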