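import Groth.Agent.SurfInt.ExpCurve
import Groth.Agent.SurfInt.AffComplMain
import Groth.Agent.SurfInt.NegDef
import Groth.Agent.SurfInt.BigNef
import Groth.Agent.SurfInt.Strict
import Groth.Agent.NumType.Basic
import Groth.Agent.ArSurfX.Contract
import Groth.Agent.ArSurfX.ContractUnique

/-! Curves contracted to a point have negative definite intersection matrix. -/

noncomputable section

set_option linter.style.haveILetI false
set_option linter.unusedSectionVars false
set_option backward.isDefEq.respectTransparency false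
set_option backward.isDefEq.respectTransparency.types false

universe u

open CategoryTheory CategoryTheory.Limits AlgebraicGeometry TopologicalSpace Opposite

namespace Groth.Agent.SurfInt

open Groth.Agent

/-- Negative row sums for positive weights give negative definiteness. -/
theorem quad_neg_of_rows {r : ℕ} (A : Fin r → Fin r → ℤ) (hs : ∀ i j, A i j = A j i)
    (hA : ∀ i j, i ≠ j → 0 ≤ A i j) (a : Fin r → ℤ) (ha : ∀ i, 0 < a i)
    (hrow : ∀ i, ∑ j, a j * A i j < 0) (x : Fin r → ℤ) (hx : x ≠ 0) :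
    ∑ i, ∑ j, x i * x j * A i j < 0 := by
  have hm : ∀ i, (0 : ℚ) < a i := fun i => Int.cast_pos.2 (ha i)
  have hr : ∀ i, ∑ j, (A i j : ℚ) * a j < 0 := fun i => by
    have h : ((∑ j, a j * A i j : ℤ) : ℚ) < 0 := by exact_mod_cast hrow i
    push_cast at h
    simpa only [mul_comm] using h
  have key := NumType.quad_nonpos_and_eq (fun i j => (A i j : ℚ)) (fun i j => by rw [hs i j])
    (fun i j h => Int.cast_nonneg (hA i j h)) (fun i => (a i : ℚ)) hm (fun i => (hr i).le)
    (fun i => (x i : ℚ) / a i)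
  have e : ∀ i, (a i : ℚ) * ((x i : ℚ) / a i) = x i := fun i => mul_div_cancel₀ _ (hm i).ne'
  simp only [e] at key
  have hc : ∑ i, ∑ j, (A i j : ℚ) * ((x i : ℚ) * x j) = ((∑ i, ∑ j, x i * x j * A i j : ℤ) : ℚ) := by
    push_cast
    simp only [mul_comm]
  rw [hc] at key
  refine lt_of_le_of_ne (by exact_mod_cast key.1) fun h0 => hx (funext fun i => ?_)
  by_contra hi
  exact (hr i).ne ((key.2 (by exact_mod_cast h0)).2 i (div_ne_zero (Int.cast_ne_zero.2 hi) (hm i).ne'))

variable (k : Type u) [Field k] {X : Scheme.{u}} [X.Over (Spec (CommRingCat.of k))]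
  [IsProper (X ↘ Spec (CommRingCat.of k))] [IsIntegral X] (hdim : topologicalKrullDim X = 2)
  (hreg : ∀ x : X, IsRegularLocalRing (X.presheaf.stalk x))

include k hdim hreg

theorem gram_negDef_of_contraction {Y : Scheme.{u}} [IsIntegral Y] (π : X ⟶ Y) [IsProper π] (y : Y)
    (hy : IsClosed ({y} : Set Y)) (hyη : y ≠ genericPoint Y)
    (hiso : IsIso (π ∣_ (⟨({y} : Set Y)ᶜ, hy.isOpen_compl⟩ : Y.Opens)))
    {r : ℕ} (C : Fin r → X.IdealSheafData) (hC : Function.Injective C)
    (hCi : ∀ i, IsIntegral (C i).subscheme) (hCd : ∀ i, topologicalKrullDim ((C i).support : Set X) = 1)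
    (hCy : ∀ i, ∀ x ∈ ((C i).support : Set X), π x = y) (v : Fin r → ℤ) (hv : v ≠ 0) :
    ∑ i, ∑ j, v i * v j * dot k (ClSub.idealMod (C i)) (ClSub.idealMod (C j)) < 0 := by
  classical
  haveI := noeth k (X := X)
  haveI : X.IsSeparated := ⟨by
    rw [← Limits.terminal.comp_from (X ↘ Spec (CommRingCat.of k))]
    infer_instance⟩
  have hd := hdim.le
  let O : Y.Opens := ⟨({y} : Set Y)ᶜ, hy.isOpen_compl⟩
  haveI : IsIso (π ∣_ O) := hiso
  have hOη : genericPoint Y ∈ O := fun h => hyη h.symm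
  have hπη : π (genericPoint X) = genericPoint Y := ArSurfX.apply_genericPoint_of_isIso_restrict π hOη
  have hπne : ∀ p : X, p ≠ genericPoint X → π p ≠ genericPoint Y := fun p hp e =>
    hp (ArSurfX.subsingleton_preimage_of_isIso_restrict π hOη e hπη)
  obtain ⟨_, ⟨V', hV, rfl⟩, hyV, -⟩ :=
    Y.isBasis_affineOpens.exists_subset_of_mem_open (Set.mem_univ y) isOpen_univ
  let V : Y.Opens := V'
  replace hV : IsAffineOpen V := hV
  replace hyV : y ∈ V := hyV
  haveI : Nonempty V := ⟨⟨y, hyV⟩⟩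
  have hηV : genericPoint Y ∈ V := (genericPoint_specializes y).mem_open V.isOpen hyV
  let W : X.Opens := π ⁻¹ᵁ V
  have hηW : genericPoint X ∈ W := show π (genericPoint X) ∈ V by rw [hπη]; exact hηV
  obtain ⟨_, ⟨U', hU, rfl⟩, hηU, hUsub⟩ := X.isBasis_affineOpens.exists_subset_of_mem_open
    (show genericPoint X ∈ (π ⁻¹ᵁ (V ⊓ O) : Set X) from by
      show π (genericPoint X) ∈ V ⊓ O
      rw [hπη]; exact ⟨hηV, hOη⟩) (π ⁻¹ᵁ (V ⊓ O)).isOpen
  let U : X.Opens := U'
  replace hU : IsAffineOpen U := hU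
  replace hηU : genericPoint X ∈ U := hηU
  have hUW : U ≤ W := fun z hz => (hUsub hz).1
  have hUy : ∀ z ∈ U, π z ≠ y := fun z hz => (hUsub hz).2
  have hUne : (U : Set X).Nonempty := ⟨_, hηU⟩
  haveI : Nonempty U := hUne.to_subtype
  -- a section cutting out the complement of `U`
  obtain ⟨D₁, hD₁, hD₁s⟩ := S1572.result X U hU (U.2.dense hUne)
    fun x _ => by haveI := hreg x; exact RegUFD.ufd _
  obtain ⟨P, hP, hPI⟩ := H23.PicInv.exists_inverse ((S8914.result D₁).2 hD₁)
  obtain ⟨s, hs0, hs⟩ := AVAmple.exists_divisor_section_ne_zero D₁ hD₁ hP (isInverseOf_comm hPI)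
  have hloc : AmpleX.locus s = U := by
    refine Opens.ext (Set.ext fun x => ?_)
    have h := hs x
    rw [show H23.TrivBasic.locus s = AmpleX.locus s from by
      rw [H23.TrivBasic.locus, AmpleX.genLocus_eq_locus, InvX.one_ofSect]] at h
    rw [SetLike.mem_coe, SetLike.mem_coe, h, ← SetLike.mem_coe, hD₁s, Set.mem_compl_iff, not_not, SetLike.mem_coe]
  have hs' : InvX.ofSect s ≠ 0 := fun h => hs0 (by rw [← InvX.one_ofSect s, h]; rfl)
  obtain ⟨hD₀, -⟩ := isInverseOf_zeroScheme hP _ hs'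
  set D₀ := PicF2.zeroScheme P (InvX.ofSect s)
  have hD₀s : (D₀.support : Set X) = (U : Set X)ᶜ := by rw [support_zeroScheme hP, hloc]
  obtain ⟨m, f, hf⟩ := (finite_curves_through (k := k) D₀.support (dim_support_effCartier k hdim hD₀)).fin_embedding
  let K : Fin m → X.IdealSheafData := fun i => f i
  have hmem : ∀ i, IsIntegral (K i).subscheme ∧ topologicalKrullDim ((K i).support : Set X) = 1 ∧
      ((K i).support : Set X) ⊆ D₀.support := fun i => (hf ▸ Set.mem_range_self i : K i ∈ _)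
  haveI : ∀ i, IsIntegral (K i).subscheme := fun i => (hmem i).1
  have hK := fun i => (hmem i).2.1
  have hKc : ∀ i, BlowUp.IsEffCartierIdeal (K i) := fun i => isEffCartier_curve k hdim hreg (K i) (hK i)
  have hsurj : ∀ L : X.IdealSheafData, IsIntegral L.subscheme → topologicalKrullDim (L.support : Set X) = 1 →
      (L.support : Set X) ⊆ D₀.support → ∃ i, K i = L := fun L h1 h2 h3 => by
    have h : L ∈ Set.range f := hf ▸ ⟨h1, h2, h3⟩
    exact h
  have hoff : ∀ i l, i ≠ l → genC (K i) ∉ ((K l).support : Set X) := fun i l h =>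
    genC_notMem k (hK i) (hK l) fun e => h (f.injective e)
  obtain ⟨d, E₀, hE₀, hD, hE₀C⟩ := exists_decomp K hKc (fun i h => by
    have hm := genC_mem (K i)
    have hb : ((K i).support : Set X) = ∅ := by simp [h]
    exact absurd hm (by rw [hb]; exact Set.notMem_empty _)) D₀ hD₀
  have hE₀top : E₀ = ⊤ := by
    by_contra h
    obtain ⟨L, hL1, hL2, hL3⟩ := exists_curve_le k hdim hE₀ h
    have hle : D₀ ≤ L := le_trans (by rw [hD]; intro V; simp only [Scheme.IdealSheafData.ideal_mul, Pi.mul_apply]; exact Ideal.mul_le_right) hL3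
    obtain ⟨i, rfl⟩ := hsurj L hL1 hL2 (SetLike.coe_subset_coe.2 (Scheme.IdealSheafData.support_antitone hle))
    exact hE₀C i hL3
  rw [hE₀top, show (⊤ : X.IdealSheafData) = 1 from rfl, mul_one] at hD
  -- the exceptional curves among them
  have hσ : ∀ i, ∃ l, K l = C i := fun i => hsurj (C i) (hCi i) (hCd i) fun x hx => by
    rw [hD₀s]
    exact fun hxU => hUy x hxU (hCy i x hx)
  choose σ hσ using hσ
  have hσinj : Function.Injective σ := fun a b h => hC (by rw [← hσ a, ← hσ b, h])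
  -- points of `U` specializing to the exceptional curves
  have hpts : ∀ i : Fin r, ∃ x p, x ∈ ((C i).support : Set X) ∧ p ⤳ x ∧ p ∈ U ∧ p ≠ genericPoint X := by
    intro i
    obtain ⟨x, hx, hxc⟩ := exists_closed_on_curve k (K (σ i)) (hK (σ i))
    obtain ⟨p, hp, hpη, hpn⟩ := exists_generization_notMem (fun j => genC (K j))
      (fun j => genC_ne_genericPoint hdim (K j) (hK j)) ⟨σ i, (mem_support_curve_iff k (K (σ i)) x).1 hx⟩
      fun j _ h => not_isClosed_genC k (K j) (hK j) (h ▸ hxc)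
    refine ⟨x, p, hσ i ▸ hx, hp, ?_, hpη⟩
    by_contra hpU
    have h : p ∈ (D₀.support : Set X) := hD₀s ▸ hpU
    rw [hD, SetLike.mem_coe, mem_support_prod] at h
    obtain ⟨j, -, -, hj⟩ := h
    exact hpn j ((mem_support_curve_iff k (K j) p).1 hj)
  choose xc pt hxc hpx hptU hptη using hpts
  have hptV : ∀ i, π (pt i) ∈ V := fun i => hUW (hptU i)
  choose hz hz0 hznu using fun i => exists_vanish hV (hptV i) (hπne _ (hptη i))
  obtain ⟨hy', hy0, hynu⟩ := exists_vanish hV hyV hyη
  let h : Γ(Y, V) := hy' * ∏ i, hz i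
  have hh0 : h ≠ 0 := mul_ne_zero hy0 (Finset.prod_ne_zero_iff.2 fun i _ => hz0 i)
  have hhy : y ∉ Y.basicOpen h := fun hb => by
    rw [Scheme.basicOpen_mul] at hb
    exact hynu hb.1
  have hhp : ∀ i, π (pt i) ∉ Y.basicOpen h := fun i hb => by
    rw [show h = hy' * (hz i * ∏ j ∈ Finset.univ.erase i, hz j) by
      rw [Finset.mul_prod_erase _ _ (Finset.mem_univ i)], Scheme.basicOpen_mul, Scheme.basicOpen_mul] at hb
    exact hznu i hb.2.1
  let gW : Γ(X, W) := π.app V h
  let g : Γ(X, U) := X.presheaf.map (homOfLE hUW).op gW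
  have hbg : ∀ x, x ∈ X.basicOpen g ↔ x ∈ U ∧ π x ∈ Y.basicOpen h := fun x => by
    rw [Scheme.basicOpen_res, ← Scheme.preimage_basicOpen]
    rfl
  have hhη : genericPoint Y ∈ Y.basicOpen h := by
    refine (Y.mem_basicOpen h _ hηV).2 (Ne.isUnit fun h0 => hh0 ?_)
    exact Y.germToFunctionField_injective V (h0.trans (map_zero _).symm)
  have hg : g ≠ 0 := fun h0 => by
    have := (hbg (genericPoint X)).2 ⟨hηU, by rw [hπη]; exact hhη⟩
    rw [h0, Scheme.basicOpen_zero] at this
    exact this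
  obtain ⟨n, T, e, E, hT, hE, hZ, hEC, hsum⟩ := exists_sect_decomp k hP hloc hUne hd K hK hKc d hD g hg
  let γ : Fin m → ℤ := fun l => (e l : ℤ) - ((n + 1 : ℕ) : ℤ) * d l
  have hexp : ∀ l, genC (K l) ∈ W → 0 ≤ γ l ∧ (π (genC (K l)) ∉ Y.basicOpen h → 0 < γ l) := fun l hl => by
    haveI := hreg (genC (K l))
    have hG : X.presheaf.stalkSpecializes (genericPoint_specializes (genC (K l))) (X.presheaf.germ W _ hl gW) =
        X.presheaf.germ U (genericPoint X) hηU g := by
      rw [TopCat.Presheaf.germ_stalkSpecializes_apply]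
      exact (TopCat.Presheaf.germ_res_apply X.presheaf (homOfLE hUW) _ hηU gW).symm
    obtain ⟨h1, h2⟩ := exponent_le_of_regular hP hloc hηU K d e E hD g hT hZ l
      (fun i hi => hoff l i (Ne.symm hi)) (hEC l) (genC_ne_genericPoint hdim (K l) (hK l)) _ hG
    refine ⟨sub_nonneg.2 (by exact_mod_cast h1), fun hb => sub_pos.2 ?_⟩
    have h3 := h2 fun hu => hb (by
      have hm := (X.mem_basicOpen gW (genC (K l)) hl).2 hu
      rw [← Scheme.preimage_basicOpen] at hm
      exact hm)
    exact_mod_cast h3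
  have hCW : ∀ i, ∀ x ∈ ((C i).support : Set X), x ∈ W := fun i x hx => show π x ∈ V by rw [hCy i x hx]; exact hyV
  have hpos : ∀ i, 0 < γ (σ i) := fun i => by
    have hgc : genC (K (σ i)) ∈ ((C i).support : Set X) := hσ i ▸ genC_mem _
    refine (hexp (σ i) (hCW i _ hgc)).2 ?_
    rw [hCy i _ hgc]
    exact hhy
  have iK := fun l => ArSurfX.isInvertible_idealMod (hKc l)
  let G : Fin m → Fin m → ℤ := fun i l => dot k (ClSub.idealMod (K i)) (ClSub.idealMod (K l))
  have hoffK : ∀ i l, i ≠ l → 0 ≤ G i l := fun i l hil =>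
    dot_ideal_nonneg k hd (K i) (hK i) (iK i) (iK l) (hoff i l hil)
  have hother : ∀ i l, l ∉ Finset.univ.image σ → 0 ≤ γ l * G (σ i) l := fun i l hl => by
    have hil : σ i ≠ l := fun e => hl (Finset.mem_image.2 ⟨i, Finset.mem_univ _, e⟩)
    by_cases hlW : genC (K l) ∈ W
    · exact mul_nonneg (hexp l hlW).1 (hoffK _ _ hil)
    · refine le_of_eq ?_
      rw [show G (σ i) l = 0 from ?_, mul_zero]
      simp only [G]
      rw [dot_ideal_left k hd (K (σ i)) (iK (σ i)) (iK l), degOn_quot_ideal_eq_zero k (K (σ i)) (iK l), neg_zero]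
      refine Set.disjoint_left.2 fun z hz1 hz2 => hlW ?_
      exact ((mem_support_curve_iff k (K l) z).1 hz2).mem_open W.isOpen (hCW i z (hσ i ▸ hz1))
  have hrow : ∀ i : Fin r, ∑ j, γ (σ j) * dot k (ClSub.idealMod (C i)) (ClSub.idealMod (C j)) < 0 := by
    intro i
    have hEpos : 0 < dot k (ClSub.idealMod (K (σ i))) (ClSub.idealMod E) := by
      rw [dot_ideal_left k hd _ (iK _) (ArSurfX.isInvertible_idealMod hE), Left.neg_pos_iff]
      refine degOn_curve_ideal_neg k (K (σ i)) (hK _) (ArSurfX.isInvertible_idealMod hE) (hEC _)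
        ⟨xc i, hσ i ▸ hxc i, (hpx i).mem_closed E.support.isClosed ?_⟩
      have hN := InvX.isInvertible_tensorMod hP (H23.PicMul.isInvertible_tensorPow hP n)
      have h1 : pt i ∈ ((PicF2.zeroScheme _ (InvX.ofSect T)).support : Set X) := by
        rw [support_zeroScheme hN]
        intro hl
        have h2 := AmpleX.locus_inf T le_top (isFrame_res_twistSect s hloc.ge n) hT
        have h3 : pt i ∈ X.basicOpen g := h2 ▸ ⟨hl, hptU i⟩
        exact hhp i ((hbg _).1 h3).2
      rw [hZ, Scheme.IdealSheafData.support_mul, Closeds.coe_sup] at h1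
      refine h1.resolve_left fun h4 => ?_
      rw [SetLike.mem_coe, mem_support_prod] at h4
      obtain ⟨l, -, -, hl⟩ := h4
      have := (hmem l).2.2 hl
      rw [hD₀s] at this
      exact this (hptU i)
    have h0 : ∑ l, γ l * G (σ i) l = -dot k (ClSub.idealMod (K (σ i))) (ClSub.idealMod E) := by
      rw [← hsum (σ i), ← Finset.sum_neg_distrib]
      exact Finset.sum_congr rfl fun l _ => by simp only [γ, G]; ring
    rw [← Finset.sum_add_sum_compl (Finset.univ.image σ), Finset.sum_image fun a _ b _ hab => hσinj hab] at h0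
    have h1 : 0 ≤ ∑ l ∈ (Finset.univ.image σ)ᶜ, γ l * G (σ i) l :=
      Finset.sum_nonneg fun l hl => hother i l (Finset.mem_compl.1 hl)
    have h2 : ∑ j, γ (σ j) * dot k (ClSub.idealMod (C i)) (ClSub.idealMod (C j)) =
        ∑ j, γ (σ j) * G (σ i) (σ j) := Finset.sum_congr rfl fun j _ => by
      simp only [G, hσ]
    omega
  exact quad_neg_of_rows _
    (fun i j => dot_comm k hd (hσ i ▸ iK (σ i)) (hσ j ▸ iK (σ j)))
    (dot_curves_nonneg k hdim hreg C hCi hCd hC) (fun j => γ (σ j)) hpos hrow v hv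

end Groth.Agent.SurfInt
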