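import Groth.Agent.SurfInt.Zariski
import Groth.Agent.Pic13Lib.NumInv
import Groth.Agent.VarInt.DegPull
import Groth.Agent.Lib.CurvePoint

/-! All fibres over a curve are numerically equivalent. -/

noncomputable section

set_option linter.style.haveILetI false
set_option linter.unusedSectionVars false
set_option backward.isDefEq.respectTransparency false
set_option backward.isDefEq.respectTransparency.types false

universe u

open CategoryTheory CategoryTheory.Limits AlgebraicGeometry TopologicalSpace Opposite

namespace Groth.Agent.SurfInt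

open Groth.Agent

variable (k : Type u) [Field k] {X : Scheme.{u}} [X.Over (Spec (CommRingCat.of k))]
  [IsProper (X ↘ Spec (CommRingCat.of k))]

/-- The intersection number only depends on the degrees on curves. -/
theorem dot_congr_num (hd : topologicalKrullDim X ≤ 2) {A A' B : X.Modules} (hA : PicF.IsInvertible A)
    (hA' : PicF.IsInvertible A') (hB : PicF.IsInvertible B) (h : Pic13Lib.SameCurveDeg k A A') :
    dot k A B = dot k A' B := by
  haveI := noeth k (X := X)
  have hc : ∀ {C : X.Modules}, PicF.IsInvertible C → ∀ i, PicF.IsInvertible ((![C, B] : Fin 2 → X.Modules) i) :=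
    fun hC => Fin.cases hC (fun i => Fin.cases hB (fun i => i.elim0) i)
  show FGA.intNum k X 2 ![A, B] (Coh.structureModule X) = FGA.intNum k X 2 ![A', B] (Coh.structureModule X)
  rw [intNum_eq_dn k hd (hc hA) isCoh_structureModule, intNum_eq_dn k hd (hc hA') isCoh_structureModule]
  exact Pic13Lib.dn_cons_congr k hA hA' h (r := 1) (M := ![B]) (Fin.cases hB fun i => i.elim0)
    isCoh_structureModule ((topologicalKrullDim_subspace_le X _).trans hd)

variable {Y : Scheme.{u}} [Y.Over (Spec (CommRingCat.of k))] [IsProper (Y ↘ Spec (CommRingCat.of k))]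
  [IsIntegral Y]

/-- Pull-backs of modules of the same degree on a curve have the same degrees on curves. -/
theorem sameCurveDeg_pullback (f : X ⟶ Y) [f.IsOver (Spec (CommRingCat.of k))]
    (hdimY : topologicalKrullDim Y = 1) {M M' : Y.Modules} (hM : PicF.IsInvertible M)
    (hM' : PicF.IsInvertible M') (h : Curv2.deg k Y M 1 = Curv2.deg k Y M' 1) :
    Pic13Lib.SameCurveDeg k ((Scheme.Modules.pullback f).obj M) ((Scheme.Modules.pullback f).obj M') := by
  intro Z ι _ hZ hZd
  letI := overComp k ι
  haveI := isProper_comp k ι rfl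
  haveI := noeth k (X := Y)
  haveI := hZ
  have iM := PicClLib.isInvertible_pullback f hM
  have iM' := PicClLib.isInvertible_pullback f hM'
  rw [curveDeg_eq k ι rfl hZd.le iM, curveDeg_eq k ι rfl hZd.le iM']
  by_cases hc : IsClosed ({f (ι (genericPoint Z))} : Set Y)
  · have hconst : ∀ x ∈ ((ι.ker.support : Closeds X) : Set X), f x = f (ι (genericPoint Z)) := fun x hx => by
      rw [Scheme.Hom.support_ker, ι.isClosedEmbedding.isClosed_range.closure_eq] at hx
      obtain ⟨z, rfl⟩ := hx
      exact ((genericPoint_specializes z).map ι.continuous |>.map f.continuous).mem_closed hc rfl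
    rw [← degOn_congr_left k (nonempty_quotMod_iso ι).some, ← degOn_congr_left k (nonempty_quotMod_iso ι).some,
      degOn_pullback_const k f hM _ ι.ker hconst, degOn_pullback_const k f hM' _ ι.ker hconst]
  · rw [degOn_push k ι rfl iM, degOn_push k ι rfl iM']
    have hgen : (ι ≫ f) (genericPoint Z) = genericPoint Y :=
      CurveCohLib.eq_genericPoint_of_not_isClosed hdimY hc
    have hover : (ι ≫ f) ≫ (Y ↘ Spec (CommRingCat.of k)) = Z ↘ Spec (CommRingCat.of k) := by
      rw [Category.assoc, comp_over]
      rfl
    have e : ∀ {M : Y.Modules}, PicF.IsInvertible M →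
        Curv2.deg k Z ((Scheme.Modules.pullback ι).obj ((Scheme.Modules.pullback f).obj M)) 1 =
          ((ι ≫ f).residueDegree (genericPoint Z) : ℤ) * Curv2.deg k Y M 1 := fun {M} hM => by
      rw [← VarInt.deg_pullback_residueDegree k hZd hdimY (ι ≫ f) hover hgen
        (InvEnd.isFinLocFreeOfRank_one hM), Curv2.deg, Curv2.deg]
      congr 1
      exact CurveCohLib.euler_congr (k := k) ((Scheme.Modules.pullbackComp ι f).app M)
    rw [e hM, e hM', h]

/-- Fibres over closed points meet every module in the same number. -/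
theorem dot_fibre_eq [IsAlgClosed k] [IsIntegral X] (hdim : topologicalKrullDim X = 2) (f : X ⟶ Y)
    [f.IsOver (Spec (CommRingCat.of k))] [Surjective f] [Smooth (Y ↘ Spec (CommRingCat.of k))]
    (hdimY : topologicalKrullDim Y = 1)
    {p q : Y} (hp : IsClosed ({p} : Set Y)) (hq : IsClosed ({q} : Set Y))
    (hnp : IsIntegrallyClosed (Y.presheaf.stalk p)) (hnq : IsIntegrallyClosed (Y.presheaf.stalk q))
    {B : X.Modules} (hB : PicF.IsInvertible B) :
    dot k (ClSub.idealMod (f.fiberι p).ker) B = dot k (ClSub.idealMod (f.fiberι q).ker) B := by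
  have hd := hdim.le
  obtain ⟨hFp, ⟨ep⟩, -⟩ := fibre_effCartier k f hdimY hp hnp
  obtain ⟨hFq, ⟨eq⟩, -⟩ := fibre_effCartier k f hdimY hq hnq
  have iP := ArSurfX.isInvertible_idealMod (CurveEmbed.isEffCartier_point k hdimY hp hnp)
  have iQ := ArSurfX.isInvertible_idealMod (CurveEmbed.isEffCartier_point k hdimY hq hnq)
  have jP := PicClLib.isInvertible_pullback f iP
  have jQ := PicClLib.isInvertible_pullback f iQ
  rw [← dot_congr k hd jP hB ep (Iso.refl B), ← dot_congr k hd jQ hB eq (Iso.refl B)]
  exact dot_congr_num k hd jP jQ hB (sameCurveDeg_pullback k f hdimY iP iQ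
    ((CurvePoint.deg_ptMod (k := k) p hp).trans (CurvePoint.deg_ptMod (k := k) q hq).symm))

end Groth.Agent.SurfInt
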