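import Groth.Agent.SurfInt.NumConnApps
import Groth.Agent.SurfInt.SectionSeq
import Groth.Agent.SurfInt.Growth

/-! Ramanujam vanishing `H¹(X, L^{-n}) = 0`, `n ≫ 0`, for numerically positive `L`. -/

noncomputable section

set_option linter.style.haveILetI false
set_option linter.unusedSectionVars false
set_option backward.isDefEq.respectTransparency false
set_option backward.isDefEq.respectTransparency.types false

universe u

open CategoryTheory CategoryTheory.Limits AlgebraicGeometry TopologicalSpace Opposite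
open scoped Groth.Agent.H23.PicMul

namespace Groth.Agent.SurfInt

open Groth.Agent AmpleVan
open Groth.Agent.PnCoh.Finite (mapLin deltaLin)

/-- A pencil of injective maps strictly increases the dimension. -/
theorem finrank_lt_of_pencil {K V H H' : Type*} [Field K] [IsAlgClosed K] [AddCommGroup V] [Module K V]
    [AddCommGroup H] [Module K H] [Module.Finite K H] [AddCommGroup H'] [Module K H'] [Module.Finite K H']
    (hV : 2 ≤ Module.finrank K V) (β : V →ₗ[K] (H →ₗ[K] H')) (hinj : ∀ v, v ≠ 0 → Function.Injective (β v))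
    (hH : Module.finrank K H ≠ 0) : Module.finrank K H < Module.finrank K H' := by
  haveI : Nontrivial V := Module.nontrivial_of_finrank_pos (R := K) (by omega)
  haveI : Nontrivial H := Module.nontrivial_of_finrank_pos (R := K) (Nat.pos_of_ne_zero hH)
  obtain ⟨v₁, hv₁⟩ := exists_ne (0 : V)
  obtain ⟨v₂, hv₂⟩ : ∃ v₂ : V, v₂ ∉ Submodule.span K {v₁} := by
    by_contra h
    push Not at h
    have h1 : (Submodule.span K {v₁}) = ⊤ := top_le_iff.1 fun x _ => h x
    have h2 := finrank_span_singleton (K := K) hv₁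
    rw [h1, finrank_top] at h2
    omega
  refine lt_of_le_of_ne (LinearMap.finrank_le_finrank_of_injective (hinj v₁ hv₁)) fun heq => ?_
  let e := LinearMap.linearEquivOfInjective (β v₁) (hinj v₁ hv₁) heq
  obtain ⟨c, hc⟩ := Module.End.exists_eigenvalue (e.symm.toLinearMap.comp (β v₂) : Module.End K H)
  obtain ⟨x, hx⟩ := hc.exists_hasEigenvector
  have h1 : β v₂ x = c • β v₁ x := by
    have := congrArg e hx.apply_eq_smul
    rw [map_smul] at this
    simpa [e] using this
  have h2 : v₂ - c • v₁ ≠ 0 := fun h0 => hv₂ (Submodule.mem_span_singleton.2 ⟨c, (sub_eq_zero.1 h0).symm⟩)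
  refine hx.2 (hinj _ h2 ?_)
  rw [map_zero, map_sub, map_smul, LinearMap.sub_apply, LinearMap.smul_apply, h1, sub_self]

variable (k : Type u) [Field k] [IsAlgClosed k] {X : Scheme.{u}} [X.Over (Spec (CommRingCat.of k))]
  [IsProper (X ↘ Spec (CommRingCat.of k))] [IsIntegral X] (hdim : topologicalKrullDim X = 2)
  (hreg : ∀ x : X, IsRegularLocalRing (X.presheaf.stalk x))
  {L Linv : X.Modules} (hL : PicF.IsInvertible L) (hLinv : ClSub.IsInverseOf Linv L)
  (hpos : 0 < dot k L L)
  (hnef : ∀ C : X.IdealSheafData, IsIntegral C.subscheme → topologicalKrullDim (C.support : Set X) = 1 →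
      0 ≤ degOn k (ClSub.quotMod C) L)

include k hdim hreg hL hLinv hpos hnef

/-- On the divisor of a section of a power of `L`, negative powers of `L` have no sections. -/
theorem hZ_neg_eq_zero {a : ℕ} (ha : 0 < a) (s : Coh.structureModule X ⟶ CohB1.tensorPow L a) (hs : s ≠ 0)
    {P : X.Modules} (hP : PicF.IsInvertible P) {m : ℕ} (hm : 0 < m)
    (hPe : PicF.cl P = PicF.cl Linv ^ m) : hZ k (PicF2.zeroScheme (CohB1.tensorPow L a) s) P = 0 := by
  have hd := hdim.le
  haveI := noeth k (X := X)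
  have hI := isInvertible_of_isInverse hL (isInverseOf_comm hLinv)
  have hN := H23.PicMul.isInvertible_tensorPow hL a
  obtain ⟨hDe, hDi⟩ := isInverseOf_zeroScheme hN s hs
  set D := PicF2.zeroScheme (CohB1.tensorPow L a) s
  have iD := ArSurfX.isInvertible_idealMod hDe
  have hdegP : ∀ F : X.Modules, Coh.IsCoh F → topologicalKrullDim (CohB1.support F) ≤ 1 →
      degOn k F P = -((m : ℤ) * degOn k F L) := fun F hF hFd => by
    rw [degOn_congr k (H23.PicMul.cl_eq_iff.1 (hPe.trans (H23.PicMul.cl_tensorPow Linv m).symm)).some,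
      degOn_tensorPow k hF hFd hI, degOn_inv k hF hFd hL hI (isInverseOf_comm hLinv)]
    ring
  have hDneg : ∀ C : X.IdealSheafData, IsIntegral C.subscheme → topologicalKrullDim (C.support : Set X) = 1 →
      degOn k (ClSub.quotMod C) (ClSub.idealMod D) = -((a : ℤ) * degOn k (ClSub.quotMod C) L) := fun C _ hC => by
    rw [degOn_inv k (isCoh_quotMod k C) (dim_support_quot_curve hC) hN iD hDi,
      degOn_tensorPow k (isCoh_quotMod k C) (dim_support_quot_curve hC) hL]
  have hDD : dot k (ClSub.idealMod D) (ClSub.idealMod D) = (a : ℤ) * a * dot k L L := by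
    rw [dot_inv_inv k hd hN iD hN iD hDi hDi, dot_tensorPow_left k hd hL hN, dot_comm k hd hL hN,
      dot_tensorPow_left k hd hL hL]
    ring
  have hnc : ∀ Z₁ Z₂ : X.IdealSheafData, BlowUp.IsEffCartierIdeal Z₁ → BlowUp.IsEffCartierIdeal Z₂ → Z₁ ≠ ⊤ →
      Z₂ ≠ ⊤ → D = Z₁ * Z₂ → 0 < dot k (ClSub.idealMod Z₁) (ClSub.idealMod Z₂) := fun Z₁ Z₂ h1 h2 h3 h4 h5 =>
    dot_pos_of_numPos k hdim hreg hDe h1 h2 h3 h4 h5 (by rw [hDD]; positivity) fun C hCi hC => by
      rw [hDneg C hCi hC]
      exact neg_nonpos.2 (mul_nonneg (Int.natCast_nonneg a) (hnef C hCi hC))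
  have hdeg : ∀ C : X.IdealSheafData, IsIntegral C.subscheme → topologicalKrullDim (C.support : Set X) = 1 →
      D ≤ C → degOn k (ClSub.quotMod C) P ≤ 0 := fun C hCi hC _ => by
    rw [hdegP _ (isCoh_quotMod k C) (dim_support_quot_curve hC)]
    exact neg_nonpos.2 (mul_nonneg (Int.natCast_nonneg m) (hnef C hCi hC))
  by_contra hne
  obtain ⟨e⟩ := nonempty_iso_of_hZ_ne_zero k hdim hreg hDe hnc hP hdeg hne
  have h0 : degOn k (ClSub.quotMod D) P = 0 := by
    rw [degOn, CurveCohLib.euler_congr (k := k) e, sub_self]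
  rw [hdegP _ (isCoh_quotMod k D) (dim_support_quotMod (dim_support_effCartier k hdim hDe)),
    ← dot_section_eq k hd hN hL s hs, dot_tensorPow_left k hd hL hL] at h0
  have : 0 < (m : ℤ) * ((a : ℤ) * dot k L L) := mul_pos (by exact_mod_cast hm) (mul_pos (by exact_mod_cast ha) hpos)
  omega

theorem exists_vanishing_one : ∃ n₀ : ℕ, ∀ n : ℕ, n₀ ≤ n → Subsingleton (Coh.HH X (CohB1.tensorPow Linv n) 1) := by
  have hd := hdim.le
  haveI := noeth k (X := X)
  have hI := isInvertible_of_isInverse hL (isInverseOf_comm hLinv)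
  obtain ⟨H, hH⟩ := exists_ample k hdim hreg
  have hLH : 0 < dot k L H := by
    refine lt_of_le_of_ne (dot_nef_ample_nonneg k hdim hL hH hnef) fun h0 => ?_
    have := dot_self_nonpos_of_dot_ample k hdim hL hH h0.symm
    omega
  obtain ⟨c, hc, m₀, hm₀⟩ := quadratic_growth k hdim hL hH hLH hpos
  obtain ⟨n₁, hn₁⟩ := exists_nat_ge (1 / c)
  obtain ⟨a, ha, ha2⟩ : ∃ a : ℕ, 0 < a ∧ 2 ≤ Module.finrank k (Coh.HH X (CohB1.tensorPow L a) 0) := by
    refine ⟨m₀ + n₁ + 1, by omega, ?_⟩
    have h1 := hm₀ (m₀ + n₁ + 1) (by omega)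
    have h2 : (1 : ℚ) ≤ c * n₁ := by
      rw [div_le_iff₀ hc] at hn₁
      linarith
    have h3 : (n₁ : ℚ) ≤ ((m₀ + n₁ + 1 : ℕ) : ℚ) ^ 2 := by
      have : n₁ ≤ (m₀ + n₁ + 1) ^ 2 := le_trans (by omega) (Nat.le_self_pow two_ne_zero _)
      exact_mod_cast this
    have h4 : (1 : ℚ) < (Module.finrank k (Coh.HH X (CohB1.tensorPow L (m₀ + n₁ + 1)) 0) : ℚ) :=
      lt_of_le_of_lt (h2.trans (mul_le_mul_of_nonneg_left h3 hc.le)) h1
    exact_mod_cast h4
  have hN := H23.PicMul.isInvertible_tensorPow hL a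
  let g : ℕ → ℕ := fun m => Module.finrank k (Coh.HH X (CohB1.tensorPow Linv m) 1)
  have hstep : ∀ m, 0 < m → g (m + a) ≠ 0 → g (m + a) < g m := by
    intro m hm hne
    set N := CohB1.tensorPow L a
    set M := CohB1.tensorPow Linv (m + a)
    have hM := H23.PicMul.isInvertible_tensorPow hI (m + a)
    have hcl : PicF.cl ((tw N).obj M) = PicF.cl Linv ^ m := by
      show PicF.cl (CohB1.tensorMod M N) = _
      rw [H23.PicMul.cl_tensor, H23.PicMul.cl_tensorPow, H23.PicMul.cl_tensorPow, pow_add, mul_assoc,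
        ← mul_pow, ← H23.PicMul.cl_tensor, H23.PicMul.cl_eq_iff.2 hLinv]
      rw [← H23.PicMul.one_def, one_pow, mul_one]
    have hP : PicF.IsInvertible ((tw N).obj M) := InvX.isInvertible_tensorMod hM hN
    have hPc : Coh.IsCoh ((tw N).obj M) := CurveDeg.isCoh_of_isInvertible hP
    haveI := CurveCohLib.finite_HH (k := k) hPc 1
    haveI := CurveCohLib.finite_HH (k := k) (CurveDeg.isCoh_of_isInvertible hM) 1
    have hinj : ∀ v : Coh.HH X N 0, v ≠ 0 → Function.Injective (mulLin k N M 1 v) := by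
      intro v hv
      have hσ : secOf N v ≠ 0 := fun h0 => hv (secOf_eq_zero h0)
      obtain ⟨π, w, hS⟩ := exists_section_seq hM hN hσ
      have hz : hZ k (PicF2.zeroScheme N (InvX.ofSect (secOf N v))) ((tw N).obj M) = 0 :=
        hZ_neg_eq_zero k hdim hreg hL hLinv hpos hnef ha _ (CurveEmbed.ofSect_ne_zero hσ) hP hm hcl
      haveI := finite_twist_quot k (PicF2.zeroScheme N (InvX.ofSect (secOf N v))) hP 0
      have hsub : Subsingleton (Coh.HH X (CohB1.tensorMod
          (ClSub.quotMod (PicF2.zeroScheme N (InvX.ofSect (secOf N v)))) ((tw N).obj M)) 0) :=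
        Module.finrank_zero_iff.1 hz
      rw [← LinearMap.ker_eq_bot]
      have hk := CurveCohLib.ker_mapLin_f_succ (A := k) hS 0
      refine hk.trans (LinearMap.range_eq_bot.2 (LinearMap.ext fun y => ?_))
      haveI := hsub
      rw [show y = 0 from Subsingleton.elim _ _, map_zero]
      rfl
    have := finrank_lt_of_pencil (K := k) ha2 (mulLin k N M 1) hinj hne
    refine lt_of_lt_of_eq this ?_
    exact finrank_congr k (H23.PicMul.cl_eq_iff.1 (hcl.trans (H23.PicMul.cl_tensorPow Linv m).symm)).some 1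
  have hiter : ∀ m, 0 < m → ∀ j, g (m + j * a) ≠ 0 → g (m + j * a) + j ≤ g m := by
    intro m hm j
    induction j with
    | zero => intro _; simp
    | succ j ih =>
      intro h
      have e : m + (j + 1) * a = (m + j * a) + a := by ring
      rw [e] at h ⊢
      have h1 := hstep (m + j * a) (by omega) h
      have := ih (by omega)
      omega
  refine ⟨((Finset.range (a + 1)).sup g + 2) * a + 1, fun n hn => ?_⟩
  haveI := CurveCohLib.finite_HH (k := k) (CurveDeg.isCoh_of_isInvertible (H23.PicMul.isInvertible_tensorPow hI n)) 1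
  refine Module.finrank_zero_iff (R := k).1 ?_
  by_contra hne
  obtain ⟨m, j, hm, hma, hn'⟩ : ∃ m j : ℕ, 0 < m ∧ m ≤ a ∧ n = m + j * a :=
    ⟨(n - 1) % a + 1, (n - 1) / a, Nat.succ_pos _, Nat.mod_lt _ ha, by
      have := Nat.mod_add_div' (n - 1) a
      omega⟩
  subst hn'
  have h1 := hiter m hm j hne
  have h2 : g m ≤ (Finset.range (a + 1)).sup g := Finset.le_sup (Finset.mem_range.2 (by omega))
  have h3 : ((Finset.range (a + 1)).sup g + 2) * a < (j + 2) * a := by
    rw [add_mul j 2 a]; omega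
  have h4 := Nat.lt_of_mul_lt_mul_right h3
  omega

end Groth.Agent.SurfInt
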