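import Groth.Agent.SurfInt.DivSeq
import Groth.Agent.SurfInt.FibreDecomp

/-! Sections of negative modules on multiple fibres vanish. -/

noncomputable section

set_option linter.style.haveILetI false
set_option linter.unusedSectionVars false
set_option backward.isDefEq.respectTransparency false
set_option backward.isDefEq.respectTransparency.types false

universe u

open CategoryTheory CategoryTheory.Limits AlgebraicGeometry TopologicalSpace Opposite

namespace Groth.Agent.SurfInt

open Groth.Agent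

/-- Induction along unit steps in a box. -/
theorem walk {r : ℕ} (e : Fin r → ℕ) (P : (Fin r → ℕ) → Prop) (h0 : P 0)
    (step : ∀ c, c ≤ e → c ≠ e → P c → ∃ i, c i < e i ∧ P (c + Pi.single i 1)) : P e := by
  suffices ∀ N : ℕ, ∀ c, c ≤ e → ∑ i, (e i - c i) = N → P c → P e from
    this _ 0 (fun i => Nat.zero_le _) rfl h0
  intro N
  induction N using Nat.strong_induction_on with
  | _ N ih =>
    intro c hc hN hP
    by_cases hce : c = e
    · exact hce ▸ hP
    obtain ⟨i, hi, hP'⟩ := step c hc hce hP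
    refine ih (∑ j, (e j - (c + Pi.single i 1 : Fin r → ℕ) j)) ?_ _ (fun j => ?_) rfl hP'
    · rw [← hN]
      refine Finset.sum_lt_sum (fun j _ => ?_) ⟨i, Finset.mem_univ _, ?_⟩
      · have : c j ≤ (c + Pi.single i 1 : Fin r → ℕ) j := Nat.le_add_right _ _
        omega
      · rw [Pi.add_apply, Pi.single_eq_same]
        omega
    · rcases eq_or_ne j i with rfl | h
      · rw [Pi.add_apply, Pi.single_eq_same]
        exact hi
      · rw [Pi.add_apply, Pi.single_eq_of_ne h, add_zero]
        exact hc j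

theorem prod_pow_add_single {X : Scheme.{u}} {r : ℕ} (C : Fin r → X.IdealSheafData) (c : Fin r → ℕ) (i : Fin r) :
    ∏ j, C j ^ ((c + Pi.single i 1 : Fin r → ℕ) j) = (∏ j, C j ^ c j) * C i := by
  simp only [Pi.add_apply, pow_add, Finset.prod_mul_distrib]
  congr 1
  rw [Finset.prod_eq_single i (fun j _ hj => by rw [Pi.single_eq_of_ne hj, pow_zero])
    (fun h => absurd (Finset.mem_univ i) h), Pi.single_eq_same, pow_one]

theorem nonempty_unit_twist {Z : Scheme.{u}} {A : Z.Modules} (e : A ≅ Coh.structureModule Z) (N : Z.Modules) :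
    Nonempty (CohB1.tensorMod A N ≅ N) := by
  obtain ⟨u⟩ := H23.PicMul.unit N
  obtain ⟨cm⟩ := H23.PicMul.comm N (Coh.structureModule Z)
  exact ⟨((DCoh.tensorBi.mapIso e).app N : CohB1.tensorMod A N ≅ CohB1.tensorMod (Coh.structureModule Z) N)
    ≪≫ cm.symm ≪≫ u⟩

theorem euler_zero (k : Type u) [Field k] {Z : Scheme.{u}} [Z.Over (Spec (CommRingCat.of k))] {M : Z.Modules}
    (h : IsZero M) : Curv2.euler k Z M = 0 :=
  (Euler.euler_eq_sum k M 0 fun i _ => Euler.subsingleton_HH_of_isZero h i).trans (by simp)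

/-- A step along which a negative module keeps negative degree. -/
theorem exists_neg_step {r : ℕ} {G : Fin r → Fin r → ℤ} {n : Fin r → ℕ} {R : ℕ} (d : Fin r → ℤ)
    (hn : ∀ i, 0 < n i) (hd : ∀ i, d i ≤ 0) (hd0 : ∃ i, d i < 0)
    (hrow : ∀ i, ∑ j, (n j : ℤ) * G i j = 0)
    (hform : ∀ a : Fin r → ℤ, mform G a a ≤ 0 ∧ (mform G a a = 0 → ∀ i j, a i * n j = a j * n i))
    {c : Fin r → ℕ} (hc : c ≤ fun i => R * n i) (hne : c ≠ fun i => R * n i) :
    ∃ i, c i < R * n i ∧ d i - ∑ j, (c j : ℤ) * G i j < 0 := by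
  by_contra hcon
  push Not at hcon
  let γ : Fin r → ℤ := fun i => ∑ j, (c j : ℤ) * G i j
  have hle : ∀ i, c i < R * n i → γ i ≤ d i := fun i hi => by
    have := hcon i hi
    simp only [γ]
    linarith
  have hQ : ∑ i, ((R * n i : ℕ) - (c i : ℤ)) * γ i = -mform G (fun i => (c i : ℤ)) (fun i => (c i : ℤ))
      + (R : ℤ) * ∑ i, (n i : ℤ) * γ i := by
    simp only [mform, Finset.mul_sum, ← Finset.sum_neg_distrib, ← Finset.sum_add_distrib, γ]
    refine Finset.sum_congr rfl fun i _ => Finset.sum_congr rfl fun j _ => ?_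
    push_cast
    ring
  have hγn : ∀ a : Fin r → ℤ, ∑ i, (n i : ℤ) * ∑ j, a j * G i j = mform G (fun i => (n i : ℤ)) a := fun a => by
    simp only [mform, Finset.mul_sum, mul_assoc]
  have hterm : ∀ i ∈ Finset.univ, ((R * n i : ℕ) - (c i : ℤ)) * γ i ≤ 0 := fun i _ => by
    rcases (hc i).lt_or_eq with h | h
    · exact mul_nonpos_of_nonneg_of_nonpos (sub_nonneg.2 (Int.ofNat_le.2 h.le)) ((hle i h).trans (hd i))
    · rw [h, sub_self, zero_mul]
  obtain ⟨hnp, heq⟩ := hform fun i => (c i : ℤ)
  have hn0 : mform G (fun i => (n i : ℤ)) (fun i => (c i : ℤ)) = 0 := by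
    obtain ⟨-, -⟩ := hform fun i => (n i : ℤ)
    have hz : ∀ a : Fin r → ℤ, mform G a (fun i => (n i : ℤ)) = 0 := fun a => by
      simp only [mform, mul_assoc, ← Finset.mul_sum, hrow, mul_zero, Finset.sum_const_zero]
    have h1 := fun t : ℤ => (hform fun i => t * (n i : ℤ) + c i).1
    have key : ∀ t : ℤ, mform G (fun i => t * (n i : ℤ) + c i) (fun i => t * (n i : ℤ) + c i) =
        t * mform G (fun i => (n i : ℤ)) (fun i => (c i : ℤ)) + mform G (fun i => (c i : ℤ)) (fun i => (c i : ℤ))
          + t * t * mform G (fun i => (n i : ℤ)) (fun i => (n i : ℤ))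
          + t * mform G (fun i => (c i : ℤ)) (fun i => (n i : ℤ)) := fun t => by
      simp only [mform, Finset.mul_sum, ← Finset.sum_add_distrib]
      exact Finset.sum_congr rfl fun i _ => Finset.sum_congr rfl fun j _ => by ring
    simp only [key, hz, mul_zero, add_zero] at h1
    set m := mform G (fun i => (n i : ℤ)) (fun i => (c i : ℤ))
    set q := mform G (fun i => (c i : ℤ)) (fun i => (c i : ℤ))
    by_contra hm
    have h2 := h1 (m * (1 - q))
    have hmm : 1 ≤ m * m := by nlinarith [mul_self_pos.2 hm]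
    nlinarith
  rw [hγn fun j => (c j : ℤ), hn0, mul_zero, add_zero] at hQ
  have hs := Finset.sum_nonpos hterm
  have hq0 : mform G (fun i => (c i : ℤ)) (fun i => (c i : ℤ)) = 0 := by omega
  have hprop := heq hq0
  have hlt : ∀ i, c i < R * n i := by
    obtain ⟨i₀, hi₀⟩ := Function.ne_iff.1 hne
    have h0 : c i₀ < R * n i₀ := lt_of_le_of_ne (hc i₀) hi₀
    intro i
    have h1 : (c i : ℤ) * n i₀ = c i₀ * n i := hprop i i₀
    have h2 : c i * n i₀ = c i₀ * n i := by exact_mod_cast h1
    refine Nat.lt_of_mul_lt_mul_right (a := n i₀) ?_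
    rw [h2, mul_right_comm]
    exact Nat.mul_lt_mul_of_pos_right h0 (hn i)
  rw [hq0, neg_zero] at hQ
  have hzero := (Finset.sum_eq_zero_iff_of_nonpos hterm).1 hQ
  obtain ⟨i, hi⟩ := hd0
  have h0 : γ i = 0 := (mul_eq_zero.1 (hzero i (Finset.mem_univ i))).resolve_left (by have := hlt i; omega)
  have := hle i (hlt i)
  omega

variable (k : Type u) [Field k] [IsAlgClosed k] {X : Scheme.{u}} [X.Over (Spec (CommRingCat.of k))]
  [IsProper (X ↘ Spec (CommRingCat.of k))] [IsIntegral X] (hdim : topologicalKrullDim X = 2)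
  (hreg : ∀ x : X, IsRegularLocalRing (X.presheaf.stalk x))
  {Y : Scheme.{u}} [Y.Over (Spec (CommRingCat.of k))] [IsProper (Y ↘ Spec (CommRingCat.of k))] [IsIntegral Y]

include k hdim hreg

/-- On a multiple fibre a module of negative degree, non-positive on every component, has no sections. -/
theorem subsingleton_h0_multiple_fibre (f : X ⟶ Y) [IsProper f] [Surjective f] (hconn : IsIso (ClSub.unitToPush f))
    (hdimY : topologicalKrullDim Y = 1) {p : Y} (hp : IsClosed ({p} : Set Y))
    (hn : IsIntegrallyClosed (Y.presheaf.stalk p)) {R : ℕ}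
    {D : Scheme.{u}} [D.Over (Spec (CommRingCat.of k))] (ι : D ⟶ X) [IsClosedImmersion ι]
    (hι : ι ≫ (X ↘ Spec (CommRingCat.of k)) = D ↘ Spec (CommRingCat.of k))
    (hD : ι.ker = (f.fiberι p).ker ^ R) {N : D.Modules} (hN : PicF.IsInvertible N) (hneg : Curv2.deg k D N 1 < 0)
    (hcompD : ∀ (C : Scheme.{u}) [C.Over (Spec (CommRingCat.of k))] (i : C ⟶ D), IsClosedImmersion i →
      IsIntegral C → topologicalKrullDim C = 1 → i ≫ (D ↘ Spec (CommRingCat.of k)) = C ↘ Spec (CommRingCat.of k) →
      Curv2.deg k C ((Scheme.Modules.pullback i).obj N) 1 ≤ 0) :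
    Subsingleton (Coh.HH D N 0) := by
  classical
  haveI := isProper_sub k ι hι
  haveI := noeth k (X := D)
  haveI := noeth k (X := X)
  have hd := hdim.le
  obtain ⟨r, C, n, -, hCi, hCd, hpos, hF, hrow, hform⟩ := exists_fibre_decomp k hdim hreg f hconn hdimY hp hn
  have hCe : ∀ i, BlowUp.IsEffCartierIdeal (C i) := fun i =>
    haveI := hCi i; isEffCartier_curve k hdim hreg (C i) (hCd i)
  have iC := fun i => ArSurfX.isInvertible_idealMod (hCe i)
  let e : Fin r → ℕ := fun i => R * n i
  have hker : ι.ker = ∏ i, C i ^ e i := by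
    rw [hD, hF, ← Finset.prod_pow]
    exact Finset.prod_congr rfl fun i _ => by rw [← pow_mul, mul_comm]
  have hle : ∀ c, c ≤ e → ι.ker ≤ ∏ i, C i ^ c i := fun c hc => by
    rw [hker, show (∏ i, C i ^ e i) = (∏ i, C i ^ c i) * ∏ i, C i ^ (e i - c i) by
      rw [← Finset.prod_mul_distrib]
      exact Finset.prod_congr rfl fun i _ => by rw [← pow_add, Nat.add_sub_cancel' (hc i)]]
    exact mul_le_left' _ _
  have hker0 : ι.ker ≠ ⊤ := fun h0 => by
    haveI : IsEmpty D := by
      refine ⟨fun x => ?_⟩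
      have hx : ι x ∈ (ι.ker.support : Set X) := by
        rw [Scheme.Hom.support_ker]
        exact subset_closure ⟨x, rfl⟩
      rw [h0, Scheme.IdealSheafData.support_top] at hx
      exact hx.elim
    have hz : ∀ M : D.Modules, IsZero M := fun M => CurveCohLib.isZero_of_subsingleton_stalks fun x => isEmptyElim x
    rw [Curv2.deg, euler_zero k (hz N),
      euler_zero k (hz (Coh.structureModule D))] at hneg
    simp at hneg
  have hleC : ∀ i, ι.ker ≤ C i := fun i => by
    have hR : 0 < R := by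
      by_contra h
      refine hker0 ?_
      rw [hD, show R = 0 by omega, pow_zero]
      rfl
    refine (hle (Pi.single i 1) fun j => ?_).trans_eq ?_
    · rcases eq_or_ne j i with rfl | h
      · rw [Pi.single_eq_same]; exact Nat.mul_pos hR (hpos _)
      · rw [Pi.single_eq_of_ne h]; exact Nat.zero_le _
    · rw [Finset.prod_eq_single i (fun j _ hj => by rw [Pi.single_eq_of_ne hj, pow_zero])
        (fun h => absurd (Finset.mem_univ i) h), Pi.single_eq_same, pow_one]
  let d : Fin r → ℤ := fun i =>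
    letI := overComp k (C i).subschemeι
    Curv2.deg k (C i).subscheme ((Scheme.Modules.pullback (incl ι (hleC i))).obj N) 1
  have hd' : ∀ i, d i ≤ 0 := fun i => by
    letI := overComp k (C i).subschemeι
    refine hcompD _ (incl ι (hleC i)) inferInstance (hCi i) ((dim_subscheme (C i)).trans (hCd i)) ?_
    rw [← hι, ← Category.assoc, incl_fac]
    rfl
  have hCd' : ∀ i, topologicalKrullDim (C i).subscheme ≤ 1 := fun i => ((dim_subscheme (C i)).trans (hCd i)).le
  have hO1 : ∀ h : ι.ker ≤ (⊤ : X.IdealSheafData), IsZero (strMod ι h) := fun h => isZero_strMod_top ι h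
  have iPi : ∀ c : Fin r → ℕ, BlowUp.IsEffCartierIdeal (∏ i, C i ^ c i) := fun c =>
    isEffCartier_prod _ _ fun i _ => isEffCartier_pow (hCe i) _
  have hd0 : ∃ i, d i < 0 := by
    by_contra hcon
    push Not at hcon
    have hz : ∀ i, d i = 0 := fun i => le_antisymm (hd' i) (hcon i)
    have := walk e (fun c => ∀ (Z : X.IdealSheafData) (h : ι.ker ≤ Z), Z = ∏ i, C i ^ c i →
      degOn k (strMod ι h) N = 0) (fun Z h hZ => ?_) (fun c hc hne hP => ?_)
    · obtain ⟨eO⟩ := nonempty_strMod_ker ι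
      have h' := this ι.ker le_rfl hker
      rw [degOn_congr_left k eO, degOn, euler_comm k (Coh.structureModule D) N, euler_tensor_structure] at h'
      rw [Curv2.deg] at hneg
      omega
    · have hZ' : Z = ⊤ := by
        rw [hZ]; exact (Finset.prod_eq_one fun i _ => by rw [Pi.zero_apply, pow_zero])
      subst hZ'
      rw [degOn, euler_zero k (hO1 h),
        euler_zero k (isZero_twist hN (hO1 h)), sub_self]
    · obtain ⟨i, hi⟩ := Function.ne_iff.1 hne
      refine ⟨i, lt_of_le_of_ne (hc i) hi, fun Z h hZ => ?_⟩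
      rw [prod_pow_add_single] at hZ
      subst hZ
      rw [degOn_strMod_mul k ι hι (iPi c) (hCe i) h (hle c hc) (hleC i) (hCd' i) hN, hP _ (hle c hc) rfl]
      exact (add_zero _).trans (hz i)
  have hmain := walk e (fun c => ∀ (Z : X.IdealSheafData) (h : ι.ker ≤ Z), Z = ∏ i, C i ^ c i →
    Subsingleton (Coh.HH D (CohB1.tensorMod (strMod ι h) N) 0)) (fun Z h hZ => ?_) (fun c hc hne hP => ?_)
  · obtain ⟨eO⟩ := nonempty_strMod_ker ι
    haveI := hmain ι.ker le_rfl hker
    obtain ⟨eN⟩ := nonempty_unit_twist eO N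
    exact (CurveCohLib.hhEquiv (k := k) eN 0).toEquiv.symm.subsingleton
  · have hZ' : Z = ⊤ := by
      rw [hZ]; exact (Finset.prod_eq_one fun i _ => by rw [Pi.zero_apply, pow_zero])
    subst hZ'
    exact Euler.subsingleton_HH_of_isZero (isZero_twist hN (hO1 h)) 0
  · obtain ⟨i, hi, hneg'⟩ := exists_neg_step d hpos hd' hd0 hrow hform hc hne
    refine ⟨i, hi, fun Z h hZ => ?_⟩
    rw [prod_pow_add_single] at hZ
    subst hZ
    haveI := hCi i
    refine subsingleton_h0_strMod_mul k ι hι (iPi c) (hCe i) h (hle c hc) (hleC i) (hCd i) hN ?_ (hP _ (hle c hc) rfl)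
    have h1 := dot_ideal_left k hd (C i) (iC i) (ArSurfX.isInvertible_idealMod (iPi c))
    rw [dot_idealMod_prod k hd (iC i) _ C hCe c] at h1
    simp only [d] at hneg'
    omega

end Groth.Agent.SurfInt
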