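import Groth.Agent.SurfInt.FibreClass
import Groth.Agent.SurfInt.AmpleCone
import Groth.Agent.SurfInt.NegDef
import Groth.Agent.RegLoc6.Normal

/-! Zariski's lemma for all components of a fibre; primitive parts of fibres are `1`-connected. -/

noncomputable section

set_option linter.style.haveILetI false
set_option linter.unusedSectionVars false
set_option backward.isDefEq.respectTransparency false
set_option backward.isDefEq.respectTransparency.types false

universe u

open CategoryTheory CategoryTheory.Limits AlgebraicGeometry TopologicalSpace Opposite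

namespace Groth.Agent.SurfInt

open Groth.Agent

section Algebra

variable {ι : Type*} [Fintype ι] {G : ι → ι → ℤ} {n : ι → ℤ}

/-- A form with a positive vector in its kernel and non-negative off-diagonal entries is a negated
sum of squares. -/
theorem two_mul_mform_self (hn : ∀ i, n i ≠ 0) (hsymm : ∀ i j, G i j = G j i)
    (hrow : ∀ i, ∑ j, n j * G i j = 0) (a : ι → ℤ) :
    2 * (mform G a a : ℚ) =
      -∑ i, ∑ j, ((n i : ℚ) * n j * G i j) * ((a i : ℚ) / n i - (a j : ℚ) / n j) ^ 2 := by
  have hn' : ∀ i, (n i : ℚ) ≠ 0 := fun i => Int.cast_ne_zero.2 (hn i)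
  have key : ∀ i j, ((n i : ℚ) * n j * G i j) * ((a i : ℚ) / n i - (a j : ℚ) / n j) ^ 2 =
      (a i : ℚ) ^ 2 / n i * ((n j : ℚ) * G i j) + (a j : ℚ) ^ 2 / n j * ((n i : ℚ) * G j i)
        - 2 * ((a i : ℚ) * a j * G i j) := fun i j => by
    rw [hsymm j i]
    have := hn' i
    have := hn' j
    field_simp
    ring
  have h1 : ∀ i, (∑ j, (n j : ℚ) * G i j) = 0 := fun i => by
    have := congrArg (fun z : ℤ => (z : ℚ)) (hrow i)
    push_cast at this
    exact this
  simp only [key, Finset.sum_sub_distrib, Finset.sum_add_distrib]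
  have e1 : ∑ i, ∑ j, (a i : ℚ) ^ 2 / n i * ((n j : ℚ) * G i j) = 0 :=
    Finset.sum_eq_zero fun i _ => by rw [← Finset.mul_sum, h1, mul_zero]
  have e2 : ∑ i, ∑ j, (a j : ℚ) ^ 2 / n j * ((n i : ℚ) * G j i) = 0 := by
    rw [Finset.sum_comm]
    exact Finset.sum_eq_zero fun i _ => by rw [← Finset.mul_sum, h1, mul_zero]
  rw [e1, e2]
  simp only [mform, Int.cast_sum, Int.cast_mul, ← Finset.mul_sum]
  ring

/-- Semi-definiteness, with equality only on multiples of the kernel vector. -/
theorem mform_self_nonpos (hn : ∀ i, 0 < n i) (hsymm : ∀ i j, G i j = G j i)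
    (hrow : ∀ i, ∑ j, n j * G i j = 0) (hoff : ∀ i j, i ≠ j → 0 ≤ G i j) (a : ι → ℤ) :
    mform G a a ≤ 0 ∧ (mform G a a = 0 → ∀ i j, i ≠ j → G i j ≠ 0 → a i * n j = a j * n i) := by
  have hn0 : ∀ i, n i ≠ 0 := fun i => (hn i).ne'
  have h := two_mul_mform_self hn0 hsymm hrow a
  have hnn : ∀ i j, 0 ≤ ((n i : ℚ) * n j * G i j) * ((a i : ℚ) / n i - (a j : ℚ) / n j) ^ 2 := fun i j => by
    rcases eq_or_ne i j with rfl | hij
    · simp
    · refine mul_nonneg ?_ (sq_nonneg _)
      exact_mod_cast mul_nonneg (mul_nonneg (hn i).le (hn j).le) (hoff i j hij)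
  have hs := Finset.sum_nonneg fun i (_ : i ∈ Finset.univ) => Finset.sum_nonneg
    fun j (_ : j ∈ Finset.univ) => hnn i j
  refine ⟨by exact_mod_cast (show (mform G a a : ℚ) ≤ 0 by linarith), fun h0 i j _ hG => ?_⟩
  rw [h0, Int.cast_zero, mul_zero] at h
  have h1 := (Finset.sum_eq_zero_iff_of_nonneg fun i _ => Finset.sum_nonneg fun j _ => hnn i j).1
    (by linarith) i (Finset.mem_univ i)
  have h2 := (Finset.sum_eq_zero_iff_of_nonneg fun j _ => hnn i j).1 h1 j (Finset.mem_univ j)
  rcases mul_eq_zero.1 h2 with h3 | h3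
  · exact absurd h3 (mul_ne_zero (mul_ne_zero (Int.cast_ne_zero.2 (hn0 i)) (Int.cast_ne_zero.2 (hn0 j)))
      (Int.cast_ne_zero.2 hG))
  · have h4 := sub_eq_zero.1 (pow_eq_zero_iff (n := 2) (by norm_num) |>.1 h3)
    rw [div_eq_div_iff (Int.cast_ne_zero.2 (hn0 i)) (Int.cast_ne_zero.2 (hn0 j))] at h4
    exact_mod_cast h4

/-- Proportional non-negative vectors come from a common divisor. -/
theorem exists_common_factor {e a : ι → ℕ} (hpos : ∀ i, 0 < e i) (hle : ∀ i, a i ≤ e i)
    (h : ∀ i j, a i * e j = a j * e i) :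
    (∀ i, a i = 0) ∨ (∀ i, a i = e i) ∨ ∃ q c, 2 ≤ q ∧ ∀ i, e i = q * (c : ι → ℕ) i := by
  rcases isEmpty_or_nonempty ι with hι | ⟨⟨i₀⟩⟩
  · exact Or.inl fun i => hι.elim i
  obtain ⟨g, p, q, hg, hco, hp, hq⟩ :=
    Nat.exists_coprime' (m := a i₀) (n := e i₀) (Nat.gcd_pos_of_pos_right _ (hpos i₀))
  have hq0 : 0 < q := by
    have := hpos i₀
    rw [hq] at this
    exact Nat.pos_of_mul_pos_right this
  have hkey : ∀ i, a i * q = p * e i := fun i => by
    have h1 := h i₀ i
    rw [hp, hq] at h1
    refine Nat.eq_of_mul_eq_mul_right hg ?_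
    rw [mul_assoc, ← h1]
    ring
  rcases Nat.lt_or_ge q 2 with hq2 | hq2
  · have hq1 : q = 1 := by omega
    subst hq1
    have hp1 : p ≤ 1 := by
      have h1 := hkey i₀
      rw [mul_one] at h1
      have h2 := hle i₀
      rw [h1] at h2
      exact Nat.le_of_mul_le_mul_right (by rwa [one_mul]) (hpos i₀)
    interval_cases p
    · exact Or.inl fun i => by simpa using hkey i
    · exact Or.inr (Or.inl fun i => by simpa using hkey i)
  · refine Or.inr (Or.inr ⟨q, fun i => e i / q, hq2, fun i => ?_⟩)
    exact (Nat.mul_div_cancel' ((Nat.Coprime.symm hco).dvd_of_dvd_mul_left ⟨a i, by rw [← hkey i, mul_comm]⟩)).symm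

end Algebra

/-- The fibre over a closed point is the inverse image of the reduced point. -/
theorem ker_fiberι_eq_comap {X Y : Scheme.{u}} (f : X ⟶ Y) {p : Y} (hp : IsClosed ({p} : Set Y)) :
    (f.fiberι p).ker = (CurvePoint.ptIdeal p hp).comap f := by
  let j := Y.fromSpecResidueField p
  haveI : IsClosedImmersion j := .of_isPreimmersion _ (by rw [Scheme.range_fromSpecResidueField]; exact hp)
  have hker : (f.fiberι p).ker = j.ker.comap f := Scheme.IdealSheafData.ker_fst_of_isClosedImmersion j f
  rw [hker]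
  congr 1
  obtain ⟨e, he⟩ := exists_iso_subscheme j
  haveI : IsReduced j.ker.subscheme := isReduced_of_isOpenImmersion e.inv
  have hs : j.ker.support = ⟨{p}, hp⟩ := Closeds.ext (by
    show (j.ker.support : Set Y) = {p}
    rw [Scheme.Hom.support_ker, Scheme.range_fromSpecResidueField, hp.closure_eq])
  show _ = Scheme.IdealSheafData.vanishingIdeal ⟨{p}, hp⟩
  rw [← hs]
  exact AlgSpLib.CartierRegular.eq_vanishingIdeal_support j.ker

variable (k : Type u) [Field k] [IsAlgClosed k] {X : Scheme.{u}} [X.Over (Spec (CommRingCat.of k))]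
  [IsProper (X ↘ Spec (CommRingCat.of k))] [IsIntegral X] (hdim : topologicalKrullDim X = 2)
  (hreg : ∀ x : X, IsRegularLocalRing (X.presheaf.stalk x))

include k hdim hreg

/-- An effective divisor containing `F` is a combination of the curves of a family containing those of `F`. -/
theorem exists_decomp_of_le {r : ℕ} (C : Fin r → X.IdealSheafData) (hCi : ∀ i, IsIntegral (C i).subscheme)
    (hCd : ∀ i, topologicalKrullDim ((C i).support : Set X) = 1) {A : X.IdealSheafData}
    (hA : BlowUp.IsEffCartierIdeal A)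
    (hall : ∀ D : X.IdealSheafData, IsIntegral D.subscheme → topologicalKrullDim (D.support : Set X) = 1 →
      A ≤ D → ∃ i, C i = D) : ∃ e : Fin r → ℕ, A = ∏ i, C i ^ e i := by
  haveI := noeth k (X := X)
  refine exists_decomp_config k hdim hreg C hCi hCd hA ?_
  intro x hx
  by_contra hout
  have hCe : ∀ i, BlowUp.IsEffCartierIdeal (C i) := fun i =>
    haveI := hCi i; isEffCartier_curve k hdim hreg (C i) (hCd i)
  have hCne : ∀ i, C i ≠ ⊤ := fun i h => by
    have := hCd i
    rw [h, dim_support_top] at this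
    exact absurd this (by simp)
  obtain ⟨e, E, hE, hAE, hEC⟩ := exists_decomp C hCe hCne A hA
  have hEne : E ≠ ⊤ := fun hE0 => by
    rw [hE0, mul_top_ideal] at hAE
    rw [hAE, SetLike.mem_coe] at hx
    refine hout (Finset.prod_induction (fun i => C i ^ e i) (fun I => x ∈ I.support → x ∈ ⋃ i, ((C i).support : Set X))
      (fun I J hI hJ h => ?_) (fun h => ?_) (fun i _ h => ?_) hx)
    · rw [Scheme.IdealSheafData.support_mul] at h
      exact h.elim hI hJ
    · change x ∈ (⊤ : X.IdealSheafData).support at h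
      rw [Scheme.IdealSheafData.support_top] at h
      exact h.elim
    · rcases Nat.eq_zero_or_pos (e i) with h0 | h0
      · rw [h0, pow_zero] at h
        change x ∈ (⊤ : X.IdealSheafData).support at h
        rw [Scheme.IdealSheafData.support_top] at h
        exact h.elim
      · rw [Scheme.IdealSheafData.support_pow _ _ (by omega)] at h
        exact Set.mem_iUnion.2 ⟨i, h⟩
  obtain ⟨D, hDi, hD, hle⟩ := exists_curve_le k hdim hE hEne
  have hAE' : A ≤ E := by rw [hAE, mul_comm]; exact mul_le_left' _ _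
  obtain ⟨i, rfl⟩ := hall D hDi hD (hAE'.trans hle)
  exact hEC i hle

variable {Y : Scheme.{u}} [Y.Over (Spec (CommRingCat.of k))] [IsProper (Y ↘ Spec (CommRingCat.of k))] [IsIntegral Y]

/-- A primitive part of a fibre is `1`-connected. -/
theorem one_le_dot_of_primitive (f : X ⟶ Y) [IsProper f] [Surjective f] (hconn : IsIso (ClSub.unitToPush f))
    (hdimY : topologicalKrullDim Y = 1) {p : Y} (hp : IsClosed ({p} : Set Y))
    (hn : IsIntegrallyClosed (Y.presheaf.stalk p)) {m : ℕ} (hm : 1 ≤ m) {IE IA IB : X.IdealSheafData}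
    (hE : BlowUp.IsEffCartierIdeal IE) (hpow : IE ^ m = (f.fiberι p).ker)
    (hprim : ∀ q : ℕ, 2 ≤ q → ∀ J : X.IdealSheafData, BlowUp.IsEffCartierIdeal J → J ^ q ≠ IE)
    (hA : BlowUp.IsEffCartierIdeal IA) (hB : BlowUp.IsEffCartierIdeal IB) (hAne : IA ≠ ⊤) (hBne : IB ≠ ⊤)
    (hAB : IA * IB = IE) : 1 ≤ dot k (ClSub.idealMod IA) (ClSub.idealMod IB) := by
  classical
  haveI := noeth k (X := X)
  haveI := noeth k (X := Y)
  have hd := hdim.le
  obtain ⟨hF, ⟨eF⟩, hs⟩ := fibre_effCartier k f hdimY hp hn
  set F := (f.fiberι p).ker with hFdef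
  have hfin := finite_curves_through (k := k) F.support (dim_support_effCartier k hdim hF)
  let r := hfin.toFinset.card
  let C : Fin r → X.IdealSheafData := fun i => (hfin.toFinset.equivFin.symm i : X.IdealSheafData)
  have hCmem : ∀ i, IsIntegral (C i).subscheme ∧ topologicalKrullDim ((C i).support : Set X) = 1 ∧
      ((C i).support : Set X) ⊆ (F.support : Set X) := fun i =>
    hfin.mem_toFinset.1 (hfin.toFinset.equivFin.symm i).2
  have hCi := fun i => (hCmem i).1
  have hCd := fun i => (hCmem i).2.1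
  have hCinj : Function.Injective C := fun i j h => hfin.toFinset.equivFin.symm.injective (Subtype.ext h)
  have hall : ∀ D : X.IdealSheafData, IsIntegral D.subscheme → topologicalKrullDim (D.support : Set X) = 1 →
      F ≤ D → ∃ i, C i = D := fun D hDi hD hle =>
    ⟨hfin.toFinset.equivFin ⟨D, hfin.mem_toFinset.2 ⟨hDi, hD, Scheme.IdealSheafData.support_antitone hle⟩⟩,
      by simp [C]⟩
  have hCe : ∀ i, BlowUp.IsEffCartierIdeal (C i) := fun i =>
    haveI := hCi i; isEffCartier_curve k hdim hreg (C i) (hCd i)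
  have iC := fun i => ArSurfX.isInvertible_idealMod (hCe i)
  have hFE : F ≤ IE := by
    rw [← hpow, show m = m - 1 + 1 by omega, pow_succ, mul_comm]
    exact mul_le_left' _ _
  have hEA : IE ≤ IA := hAB ▸ mul_le_left' IA IB
  have hEB : IE ≤ IB := by rw [← hAB, mul_comm]; exact mul_le_left' _ _
  obtain ⟨a, ha⟩ := exists_decomp_of_le k hdim hreg C hCi hCd hA
    fun D h1 h2 h3 => hall D h1 h2 ((hFE.trans hEA).trans h3)
  obtain ⟨b, hb⟩ := exists_decomp_of_le k hdim hreg C hCi hCd hB
    fun D h1 h2 h3 => hall D h1 h2 ((hFE.trans hEB).trans h3)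
  let e : Fin r → ℕ := fun i => a i + b i
  have hIE : IE = ∏ i, C i ^ e i := by
    rw [← hAB, ha, hb, ← Finset.prod_mul_distrib]
    exact Finset.prod_congr rfl fun i _ => (pow_add _ _ _).symm
  have hepos : ∀ i, 0 < e i := fun i => by
    rcases Nat.eq_zero_or_pos (e i) with h0 | h0
    · exfalso
      haveI := hCi i
      have hg : genC (C i) ∈ IE.support := by
        have := (hCmem i).2.2 (genC_mem (C i))
        rw [← hpow, Scheme.IdealSheafData.support_pow _ _ (by omega)] at this
        exact this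
      rw [hIE] at hg
      refine Finset.prod_induction (fun j => C j ^ e j) (fun I => genC (C i) ∉ I.support)
        (fun I J hI hJ h => ?_) (fun h => ?_) (fun j _ h => ?_) hg
      · rw [Scheme.IdealSheafData.support_mul] at h
        exact h.elim hI hJ
      · change genC (C i) ∈ (⊤ : X.IdealSheafData).support at h
        rw [Scheme.IdealSheafData.support_top] at h
        exact h.elim
      · rcases Nat.eq_zero_or_pos (e j) with hj | hj
        · rw [hj, pow_zero] at h
          change genC (C i) ∈ (⊤ : X.IdealSheafData).support at h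
          rw [Scheme.IdealSheafData.support_top] at h
          exact h.elim
        · rw [Scheme.IdealSheafData.support_pow _ _ (by omega)] at h
          haveI := hCi j
          exact genC_notMem k (hCd i) (hCd j) (fun hh => by have := hCinj hh; subst this; omega) h
    · exact h0
  let G : Fin r → Fin r → ℤ := fun i j => dot k (ClSub.idealMod (C i)) (ClSub.idealMod (C j))
  have hn0 : ∀ i, (0 : ℤ) < e i := fun i => Int.natCast_pos.2 (hepos i)
  have hsymm : ∀ i j, G i j = G j i := fun i j => dot_comm k hd (iC i) (iC j)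
  have hoff := dot_curves_nonneg k hdim hreg C hCi hCd hCinj
  have iE := ArSurfX.isInvertible_idealMod hE
  have hCv : ∀ i, ∀ x ∈ ((C i).support : Set X), f x = p := fun i x hx => by
    have := (hCmem i).2.2 hx
    rw [hFdef, hs] at this
    exact this
  have hrow : ∀ i, ∑ j, (e j : ℤ) * G i j = 0 := fun i => by
    haveI := hCi i
    have h0 : dot k (ClSub.idealMod (C i)) (ClSub.idealMod F) = 0 := by
      rw [dot_ideal_left k hd (C i) (iC i) (ArSurfX.isInvertible_idealMod hF), ← degOn_congr k eF,
        degOn_pullback_const k f (ArSurfX.isInvertible_idealMod (CurveEmbed.isEffCartier_point k hdimY hp hn)) p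
          (C i) (hCv i), neg_zero]
    rw [← hpow, dot_idealMod_pow k hd (iC i) hE, hIE, dot_idealMod_prod k hd (iC i) _ C hCe e] at h0
    rcases mul_eq_zero.1 h0 with h1 | h1
    · exact absurd h1 (by omega)
    · exact h1
  have iA := ArSurfX.isInvertible_idealMod hA
  have hdotA : ∀ c : Fin r → ℕ, dot k (ClSub.idealMod IA) (ClSub.idealMod (∏ i, C i ^ c i)) =
      mform G (fun i => (a i : ℤ)) (fun i => (c i : ℤ)) := fun c => by
    rw [dot_idealMod_prod k hd iA _ C hCe c, mform, Finset.sum_comm]
    refine Finset.sum_congr rfl fun j _ => ?_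
    rw [dot_comm k hd iA (iC j), ha, dot_idealMod_prod k hd (iC j) _ C hCe a, Finset.mul_sum]
    exact Finset.sum_congr rfl fun i _ => by rw [hsymm i j]; ring
  have hAE : dot k (ClSub.idealMod IA) (ClSub.idealMod IE) = 0 := by
    rw [hIE, hdotA, mform]
    refine Finset.sum_eq_zero fun i _ => ?_
    simp only [mul_assoc, ← Finset.mul_sum, hrow i, mul_zero]
  rw [← hAB, dot_idealMod_mul k hd iA hA hB] at hAE
  obtain ⟨hnp, heq⟩ := mform_self_nonpos hn0 hsymm hrow hoff (fun i => (a i : ℤ))
  have hAA : dot k (ClSub.idealMod IA) (ClSub.idealMod IA) = mform G (fun i => (a i : ℤ)) (fun i => (a i : ℤ)) := by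
    rw [← hdotA a, ← ha]
  by_contra hlt
  have hz : mform G (fun i => (a i : ℤ)) (fun i => (a i : ℤ)) = 0 := by omega
  have hprop := heq hz
  have hedge : ∀ i j, i ≠ j → G i j ≠ 0 → a i * e j = a j * e i := fun i j h1 h2 => by
    exact_mod_cast hprop i j h1 h2
  have hconn' : ∀ i j, a i * e j = a j * e i := by
    intro i₀
    by_contra hcon
    push Not at hcon
    obtain ⟨j₀, hj₀⟩ := hcon
    let S : Finset (Fin r) := Finset.univ.filter fun j => a i₀ * e j = a j * e i₀
    have hdis : ∀ i ∈ S, ∀ j ∉ S, Disjoint ((C i).support : Set X) ((C j).support : Set X) := fun i hi j hj => by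
      haveI := hCi i
      haveI := hCi j
      have hij : i ≠ j := fun h => hj (h ▸ hi)
      have hG0 : G i j = 0 := by
        by_contra hG
        have h1 := (Finset.mem_filter.1 hi).2
        have h2 := hedge i j hij hG
        refine hj (Finset.mem_filter.2 ⟨Finset.mem_univ _, ?_⟩)
        refine Nat.eq_of_mul_eq_mul_right (hepos i) ?_
        rw [mul_assoc, mul_comm (e j), ← mul_assoc, h1, mul_right_comm, h2]
        ring
      exact disjoint_of_dot_eq_zero k hdim hreg (C i) (hCd i) (hCe j)
        (genC_notMem k (hCd i) (hCd j) fun h => hij (hCinj h)) hG0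
    have hcov : f ⁻¹' {p} = (⋃ i ∈ S, ((C i).support : Set X)) ∪ ⋃ i ∈ Sᶜ, ((C i).support : Set X) := by
      refine Set.Subset.antisymm (fun x hx => ?_) (Set.union_subset ?_ ?_)
      · have hx' : x ∈ (F.support : Set X) := by rw [hFdef, hs]; exact hx
        rw [← hpow, Scheme.IdealSheafData.support_pow _ _ (by omega), hIE, SetLike.mem_coe] at hx'
        refine Finset.prod_induction (fun j => C j ^ e j) (fun I => x ∈ I.support → x ∈ _)
          (fun I J hI hJ h => ?_) (fun h => ?_) (fun j _ h => ?_) hx'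
        · rw [Scheme.IdealSheafData.support_mul] at h
          exact h.elim hI hJ
        · change x ∈ (⊤ : X.IdealSheafData).support at h
          rw [Scheme.IdealSheafData.support_top] at h
          exact h.elim
        · rw [Scheme.IdealSheafData.support_pow _ _ (hepos j).ne'] at h
          by_cases hjS : j ∈ S
          · exact Or.inl (Set.mem_biUnion hjS h)
          · exact Or.inr (Set.mem_biUnion (Finset.mem_compl.2 hjS) h)
      · exact Set.iUnion₂_subset fun i _ => hCv i
      · exact Set.iUnion₂_subset fun i _ => hCv i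
    haveI := hCi i₀
    haveI := hCi j₀
    have hi₀S : i₀ ∈ S := Finset.mem_filter.2 ⟨Finset.mem_univ _, rfl⟩
    have hj₀S : j₀ ∈ Sᶜ := Finset.mem_compl.2 fun h => hj₀ (Finset.mem_filter.1 h).2
    obtain ⟨z, -, hz1, hz2⟩ := isPreconnected_closed_iff.1 (isConnected_fibre f hconn p).isPreconnected _ _
      (isClosed_biUnion_finset fun i (_ : i ∈ S) => (C i).support.isClosed)
      (isClosed_biUnion_finset fun i (_ : i ∈ Sᶜ) => (C i).support.isClosed) hcov.le
      ⟨genC (C i₀), hCv i₀ _ (genC_mem _), Set.mem_biUnion hi₀S (genC_mem _)⟩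
      ⟨genC (C j₀), hCv j₀ _ (genC_mem _), Set.mem_biUnion hj₀S (genC_mem _)⟩
    obtain ⟨i, hi, hzi⟩ := Set.mem_iUnion₂.1 hz1
    obtain ⟨j, hj, hzj⟩ := Set.mem_iUnion₂.1 hz2
    exact Set.disjoint_left.1 (hdis i hi j (Finset.mem_compl.1 hj)) hzi hzj
  rcases exists_common_factor hepos (fun i => Nat.le_add_right (a i) (b i)) hconn' with h0 | h0 | ⟨q, c, hq, hc⟩
  · exact hAne (by rw [ha, Finset.prod_eq_one fun i _ => by rw [h0 i, pow_zero]]; rfl)
  · refine hBne ?_
    rw [hb, Finset.prod_eq_one fun i _ => ?_]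
    · rfl
    · have : b i = 0 := by
        have := h0 i
        simp only [e] at this
        omega
      rw [this, pow_zero]
  · refine hprim q hq (∏ i, C i ^ c i) (isEffCartier_prod _ _ fun i _ => isEffCartier_pow (hCe i) _) ?_
    rw [hIE, ← Finset.prod_pow]
    exact Finset.prod_congr rfl fun i _ => by rw [← pow_mul, hc i, mul_comm]

end Groth.Agent.SurfInt
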