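import Groth.Agent.SurfInt.Asymp

/-! The limits of `2·hⁱ(L^m)/m²` under a Zariski decomposition. -/

noncomputable section

set_option linter.style.haveILetI false
set_option linter.unusedSectionVars false
set_option backward.isDefEq.respectTransparency false
set_option backward.isDefEq.respectTransparency.types false

universe u

open CategoryTheory CategoryTheory.Limits AlgebraicGeometry TopologicalSpace Opposite
open scoped Groth.Agent.H23.PicMul Topology

namespace Groth.Agent.SurfInt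

open Groth.Agent

variable (k : Type u) [Field k] {X : Scheme.{u}} [X.Over (Spec (CommRingCat.of k))]

theorem cl_multiTwist_pow {r : ℕ} (O : Fin r → X.Modules) (b : Fin r → ℕ) (q : ℕ) :
    PicF.cl (FGA.multiTwist O fun l => q * b l) = PicF.cl (FGA.multiTwist O b) ^ q := by
  rw [cl_multiTwist, cl_multiTwist, ← Finset.prod_pow]
  exact Finset.prod_congr rfl fun l _ => by rw [← pow_mul, mul_comm]

variable [IsProper (X ↘ Spec (CommRingCat.of k))] [IsIntegral X] (hdim : topologicalKrullDim X = 2)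
  (hreg : ∀ x : X, IsRegularLocalRing (X.presheaf.stalk x))
  {r : ℕ} (N : Fin r → X.IdealSheafData) (hNi : ∀ i, IsIntegral (N i).subscheme)
  (hNd : ∀ i, topologicalKrullDim ((N i).support : Set X) = 1)
  (O : Fin r → X.Modules) (hO : ∀ i, PicF.IsInvertible (O i))
  (hOi : ∀ i, ClSub.IsInverseOf (ClSub.idealMod (N i)) (O i)) (b : Fin r → ℕ)
  (hneg : ∀ v : Fin r → ℤ, v ≠ 0 →
    ∑ i, ∑ j, v i * v j * dot k (ClSub.idealMod (N i)) (ClSub.idealMod (N j)) < 0)
  {L P H : X.Modules} (hL : PicF.IsInvertible L) (hP : PicF.IsInvertible P) (hH : CohB1.IsAmple H)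
  (a : ℕ) (ha : 1 ≤ a) (hdec : PicF.cl L ^ a = PicF.cl P * PicF.cl (FGA.multiTwist O b))
  (hnef : ∀ C : X.IdealSheafData, IsIntegral C.subscheme → topologicalKrullDim (C.support : Set X) = 1 →
    0 ≤ degOn k (ClSub.quotMod C) P)
  (horth : ∀ i, degOn k (ClSub.quotMod (N i)) P = 0)

include hneg in
omit [IsProper (X ↘ Spec (CommRingCat.of k))] [IsIntegral X] in
theorem injective_of_negDef : Function.Injective N := by
  intro i l h
  by_contra hil
  set v : Fin r → ℤ := fun m => (if m = i then 1 else 0) - (if m = l then 1 else 0) with hv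
  have hv0 : v ≠ 0 := fun h0 => by
    have := congrFun h0 i
    simp [hv, hil] at this
  have h1 := hneg v hv0
  simp [hv, sub_mul, mul_sub, Finset.sum_sub_distrib, h] at h1

include hdim hreg hNi hNd hO hOi hP hH hnef horth hL hdec ha in
theorem facts : PicF.IsInvertible (FGA.multiTwist O b) ∧ 0 ≤ dot k P P ∧ 0 ≤ dot k P H ∧ 0 ≤ dot k L H ∧
    (a : ℤ) ^ 2 * dot k L L = dot k P P + dot k (FGA.multiTwist O b) (FGA.multiTwist O b) := by
  have hd := hdim.le
  haveI := hNi
  have hI := fun i => isInvertible_curve k hdim hreg (N i) (hNd i)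
  have hdot : ∀ A, PicF.IsInvertible A → ∀ i, dot k (O i) A = degOn k (ClSub.quotMod (N i)) A := fun A hA i => by
    rw [dot_inv_left k hd (hI i) (hO i) hA (hOi i), dot_ideal_left k hd _ (hI i) hA, neg_neg]
  have hT : ∀ A, PicF.IsInvertible A → PicF.IsInvertible (FGA.multiTwist O b) ∧
      dot k (FGA.multiTwist O b) A = ∑ i, (b i : ℤ) * degOn k (ClSub.quotMod (N i)) A := fun A hA => by
    obtain ⟨h1, h2⟩ := additive_multiTwist (fun M => dot k M A) (dot_one_left k hd hA)
      (fun M M' hM hM' => dot_tensor_left k hd hM hM' hA) O hO b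
    exact ⟨h1, h2.trans (Finset.sum_congr rfl fun i _ => by rw [hdot A hA])⟩
  obtain ⟨hTi, hTP⟩ := hT P hP
  rw [Finset.sum_eq_zero (fun i _ => by rw [horth i, mul_zero])] at hTP
  have hTH := (hT H hH.1).2
  have hLa := H23.PicMul.isInvertible_tensorPow hL a
  have hPT := H23.PicMul.isInvertible_tensor hP hTi
  obtain ⟨e⟩ : Nonempty (CohB1.tensorPow L a ≅ CohB1.tensorMod P (FGA.multiTwist O b)) :=
    H23.PicMul.cl_eq_iff.1 (by rw [H23.PicMul.cl_tensorPow, H23.PicMul.cl_tensor, hdec])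
  have key : ∀ A, PicF.IsInvertible A → (a : ℤ) * dot k L A = dot k P A + dot k (FGA.multiTwist O b) A := fun A hA => by
    rw [← dot_tensorPow_left k hd hL hA, ← dot_tensor_left k hd hP hTi hA]
    exact dot_congr k hd hLa hA e (Iso.refl A)
  have hPH := dot_nef_ample_nonneg k hdim hP hH hnef
  refine ⟨hTi, dot_self_nonneg_of_nef k hdim hreg hP hnef, hPH, ?_, ?_⟩
  · have hTH0 : 0 ≤ dot k (FGA.multiTwist O b) H := by
      rw [hTH]
      exact Finset.sum_nonneg fun i _ => mul_nonneg (Int.natCast_nonneg _)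
        (degOn_ample_pos k (N i) (hNd i) hH).le
    have h1 := key H hH.1
    exact nonneg_of_mul_nonneg_right (by linarith : 0 ≤ (a : ℤ) * dot k L H) (by exact_mod_cast ha)
  · have h1 := key L hL
    have h2 := key P hP
    have h3 := key _ hTi
    rw [dot_comm k hd hP hL, dot_comm k hd hTi hL] at h1
    rw [hTP] at h2
    rw [dot_comm k hd hP hTi, hTP] at h3
    calc (a : ℤ) ^ 2 * dot k L L = (a : ℤ) * ((a : ℤ) * dot k L L) := by ring
      _ = (a : ℤ) * dot k L P + (a : ℤ) * dot k L (FGA.multiTwist O b) := by rw [h1]; ring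
      _ = _ := by rw [h2, h3]; ring

include hdim hreg hNi hNd hO hOi hP hH hnef horth hL hdec ha hneg in
/-- Sections of large powers lie above the Euler characteristic of the positive part. -/
theorem exists_h0_lower : ∃ C : ℤ, 0 ≤ C ∧ ∀ m : ℕ, 1 ≤ m →
    dot k P P * (m : ℤ) ^ 2 ≤
      (a : ℤ) ^ 2 * (2 * Module.finrank k (Coh.HH X (CohB1.tensorPow L m) 0)) + C * m := by
  haveI := noeth k (X := X)
  haveI : X.IsSeparated := ⟨by
    rw [← Limits.terminal.comp_from (X ↘ Spec (CommRingCat.of k))]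
    infer_instance⟩
  have hd := hdim.le
  obtain ⟨hTi, hPP, hPH, hLH, -⟩ := facts k hdim hreg N hNi hNd O hO hOi b hL hP hH a ha hdec hnef horth
  obtain ⟨Cu, j, B, hCi, hC, hh2⟩ := exists_h2_le k hdim hreg hH
  haveI := hCi
  set β := 2 * (Curv2.euler k X P - Curv2.euler k X (Coh.structureModule X)) - dot k P P with hβ
  set S := ∑ s ∈ Finset.range a, |2 * Curv2.euler k X (CohB1.tensorPow L s)| with hS
  set D := 2 * (B : ℤ) + 2 * j * |degOn k (ClSub.quotMod Cu) P| + 2 * j * a * |degOn k (ClSub.quotMod Cu) L|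
    with hD
  refine ⟨2 * a * dot k P P + (a : ℤ) ^ 2 * (|β| + 2 * a * |dot k P L| + S + D), by positivity, fun m hm => ?_⟩
  set q := m / a with hq
  set s := m % a with hs
  have hms : s + a * q = m := Nat.mod_add_div m a
  have hsa : s < a := Nat.mod_lt m (by omega)
  have hqm : q ≤ m := Nat.div_le_self m a
  have hPq := H23.PicMul.isInvertible_tensorPow hP q
  have hLs := H23.PicMul.isInvertible_tensorPow hL s
  set F := CohB1.tensorMod (CohB1.tensorPow P q) (CohB1.tensorPow L s)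
  have hF : PicF.IsInvertible F := H23.PicMul.isInvertible_tensor hPq hLs
  have hTq := (additive_multiTwist (fun _ => (0 : ℤ)) rfl (fun _ _ _ _ => rfl) O hO (fun l => q * b l)).1
  have hge : Module.finrank k (Coh.HH X F 0) ≤ Module.finrank k (Coh.HH X (CohB1.tensorPow L m) 0) := by
    refine (h0_le_tensor k hF hTq (nontrivial_h0_multiTwist O hO (fun i => ?_) _)).trans_eq ?_
    · obtain ⟨σ, hσ, -⟩ := AVAmple.exists_divisor_section_ne_zero (N i)
        (isEffCartier_curve k hdim hreg (N i) (hNd i)) (hO i) (isInverseOf_comm (hOi i))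
      obtain ⟨t, ht⟩ := secOf_surjective (O i) σ
      exact nontrivial_of_ne t 0 fun h0 => hσ (by
        rw [← ht, h0]
        exact map_zero (Sheaf.H.equiv₀ (Coh.toAb (O i)) isTerminalTop))
    · rw [← hCl_cl, ← hCl_cl, H23.PicMul.cl_tensor, H23.PicMul.cl_tensor, H23.PicMul.cl_tensorPow,
        H23.PicMul.cl_tensorPow, H23.PicMul.cl_tensorPow, cl_multiTwist_pow]
      congr 1
      rw [← hms, pow_add, pow_mul, hdec, mul_pow]
      ac_rfl
  have hFH : 0 ≤ dot k F H := by
    rw [dot_tensor_left k hd hPq hLs hH.1, dot_tensorPow_left k hd hP hH.1, dot_tensorPow_left k hd hL hH.1]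
    exact add_nonneg (mul_nonneg (Int.natCast_nonneg _) hPH) (mul_nonneg (Int.natCast_nonneg _) hLH)
  have h2 : (Module.finrank k (Coh.HH X F 2) : ℤ) ≤
      B + j * ((q : ℤ) * |degOn k (ClSub.quotMod Cu) P| + (s : ℤ) * |degOn k (ClSub.quotMod Cu) L|) := by
    have h := (Int.ofNat_le.2 (hh2 F hF hFH))
    push_cast at h
    rw [degOn_tensor k (isCoh_quotMod k Cu) (dim_support_quot_curve hC) hPq hLs,
      degOn_tensorPow k (isCoh_quotMod k Cu) (dim_support_quot_curve hC) hP,
      degOn_tensorPow k (isCoh_quotMod k Cu) (dim_support_quot_curve hC) hL] at h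
    refine h.trans (add_le_add_right (mul_le_mul_of_nonneg_left ?_ (Int.natCast_nonneg _)) _)
    refine (abs_add_le _ _).trans_eq ?_
    rw [abs_mul, abs_mul, Nat.abs_cast, Nat.abs_cast]
  have he := euler_tensor_eq k hd hPq hLs
  rw [Euler.euler_eq_sum k F 3 fun i hi =>
    Snapper.subsingleton_HH_of_dim_le (d := 2) hdim.le (ZeroSchX.isQCoh_inv hF) (Nat.lt_of_succ_le hi)] at he
  simp only [Finset.sum_range_succ, Finset.sum_range_zero] at he
  rw [dot_tensorPow_left k hd hP hLs, dot_comm k hd hP hLs, dot_tensorPow_left k hd hL hP, dot_comm k hd hL hP] at he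
  norm_num at he
  have hPe := two_mul_euler_tensorPow k hd hP q
  rw [← hβ] at hPe
  have hh1 : (0 : ℤ) ≤ Module.finrank k (Coh.HH X F 1) := Int.natCast_nonneg _
  have hge' : (Module.finrank k (Coh.HH X F 0) : ℤ) ≤ Module.finrank k (Coh.HH X (CohB1.tensorPow L m) 0) := by
    exact_mod_cast hge
  have hmz : (1 : ℤ) ≤ m := by exact_mod_cast hm
  have hqz : (q : ℤ) ≤ m := by exact_mod_cast hqm
  have hsz : (s : ℤ) ≤ a := by exact_mod_cast hsa.le
  have hqm2 : (m : ℤ) ^ 2 ≤ (a : ℤ) ^ 2 * (q : ℤ) ^ 2 + 2 * a * m := by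
    have h1 : (s : ℤ) + a * q = m := by exact_mod_cast hms
    nlinarith [mul_le_mul hsz (le_refl (m : ℤ)) (Int.natCast_nonneg m) (Int.natCast_nonneg a),
      mul_self_nonneg (s : ℤ)]
  have hS' : -(S * m) ≤ 2 * Curv2.euler k X (CohB1.tensorPow L s) := by
    have h1 : |2 * Curv2.euler k X (CohB1.tensorPow L s)| ≤ S :=
      Finset.single_le_sum (f := fun s => |2 * Curv2.euler k X (CohB1.tensorPow L s)|) (fun _ _ => abs_nonneg _)
        (Finset.mem_range.2 hsa)
    have h2 := neg_abs_le (2 * Curv2.euler k X (CohB1.tensorPow L s))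
    have h3 : 0 ≤ S := le_trans (abs_nonneg _) h1
    nlinarith
  have hb1 : -(|β| * m) ≤ (q : ℤ) * β := by
    have := mul_le_mul_of_nonneg_left (neg_abs_le β) (Int.natCast_nonneg q)
    have := mul_le_mul_of_nonneg_right hqz (abs_nonneg β)
    linarith
  have hb2 : -(2 * a * |dot k P L| * m) ≤ 2 * ((q : ℤ) * ((s : ℤ) * dot k P L)) := by
    have h1 := mul_le_mul_of_nonneg_left (neg_abs_le (dot k P L))
      (mul_nonneg (Int.natCast_nonneg q) (Int.natCast_nonneg s))
    have h2 := mul_le_mul_of_nonneg_right (mul_le_mul hqz hsz (Int.natCast_nonneg s) (Int.natCast_nonneg m))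
      (abs_nonneg (dot k P L))
    linarith
  have hb3 : 2 * (Module.finrank k (Coh.HH X F 2) : ℤ) ≤ D * m := by
    have h1 := mul_le_mul_of_nonneg_left hqz (mul_nonneg (Int.natCast_nonneg j) (abs_nonneg (degOn k (ClSub.quotMod Cu) P)))
    have h3 := mul_le_mul_of_nonneg_left hsz (mul_nonneg (Int.natCast_nonneg j) (abs_nonneg (degOn k (ClSub.quotMod Cu) L)))
    have h4 := mul_le_mul_of_nonneg_left hmz (mul_nonneg (mul_nonneg (Int.natCast_nonneg j) (Int.natCast_nonneg a))
      (abs_nonneg (degOn k (ClSub.quotMod Cu) L)))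
    have h5 := mul_le_mul_of_nonneg_left hmz (Int.natCast_nonneg B)
    rw [hD]
    linarith
  have key : dot k P P * (q : ℤ) ^ 2 - (|β| + 2 * a * |dot k P L| + S + D) * m ≤
      2 * (Module.finrank k (Coh.HH X (CohB1.tensorPow L m) 0) : ℤ) := by
    linarith
  have := mul_le_mul_of_nonneg_left key (sq_nonneg (a : ℤ))
  have := mul_le_mul_of_nonneg_left hqm2 hPP
  linarith

include hdim hreg hNi hNd hO hOi hP hH hnef horth hL hdec ha hneg in
/-- Sections of large powers are bounded by any slightly enlarged positive part. -/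
theorem exists_h0_upper (t : ℕ) (ht : 1 ≤ t) : ∃ (C : ℤ) (m₀ : ℕ), ∀ m : ℕ, m₀ ≤ m →
    ((a * t : ℕ) : ℤ) ^ 2 * (2 * Module.finrank k (Coh.HH X (CohB1.tensorPow L m) 0)) ≤
      ((t : ℤ) ^ 2 * dot k P P + 2 * t * dot k P H + dot k H H) * (m : ℤ) ^ 2 + C * m := by
  classical
  haveI := noeth k (X := X)
  haveI := hNi
  have hd := hdim.le
  obtain ⟨hTi, hPP, hPH, hLH, -⟩ := facts k hdim hreg N hNi hNd O hO hOi b hL hP hH a ha hdec hnef horth
  have hI := fun i => isInvertible_curve k hdim hreg (N i) (hNd i)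
  have hinj := injective_of_negDef k N hneg
  obtain ⟨w, hw, hwneg⟩ := exists_neg_comb (fun i l => dot k (ClSub.idealMod (N i)) (ClSub.idealMod (N l)))
    (fun i l h => dot_ideal_nonneg k hd (N i) (hNd i) (hI i) (hI l)
      (genC_notMem k (hNd i) (hNd l) fun h' => h (hinj h'))) hneg
  have hPt := H23.PicMul.isInvertible_tensorPow hP t
  set A := CohB1.tensorMod (CohB1.tensorPow P t) H with hAdef
  have hAi : PicF.IsInvertible A := H23.PicMul.isInvertible_tensor hPt hH.1
  have hAA : dot k A A = (t : ℤ) ^ 2 * dot k P P + 2 * t * dot k P H + dot k H H := by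
    rw [dot_tensor_left k hd hPt hH.1 hAi, dot_tensor_right k hd hPt hH.1 hPt, dot_tensor_right k hd hPt hH.1 hH.1,
      dot_comm k hd hH.1 hPt, dot_tensorPow_left k hd hP hPt, dot_comm k hd hP hPt,
      dot_tensorPow_left k hd hP hP, dot_tensorPow_left k hd hP hH.1]
    ring
  have hAA0 : 0 < dot k A A := by
    rw [hAA]
    have := dot_self_pos_of_isAmple k hdim hH
    positivity
  have hA : CohB1.IsAmple A := isAmple_of_nakai k hdim hAi hH hAA0 fun C hC hC1 => by
    haveI := hC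
    rw [degOn_tensor k (isCoh_quotMod k C) (dim_support_quot_curve hC1) hPt hH.1,
      degOn_tensorPow k (isCoh_quotMod k C) (dim_support_quot_curve hC1) hP]
    exact add_pos_of_nonneg_of_pos (mul_nonneg (Int.natCast_nonneg _) (hnef C hC hC1)) (degOn_ample_pos k C hC1 hH)
  set T := a * t with hT
  have hT0 : 0 < T := Nat.mul_pos (by omega) (by omega)
  set D := T * ∑ i, (degOn k (ClSub.quotMod (N i)) L).natAbs
  set E := FGA.multiTwist O fun l => w l * D
  have hE : PicF.IsInvertible E := (additive_multiTwist (fun _ => (0 : ℤ)) rfl (fun _ _ _ _ => rfl) O hO _).1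
  set G : ℕ → X.Modules := fun s => CohB1.tensorMod (CohB1.tensorPow L s) E
  have hG : ∀ s, PicF.IsInvertible (G s) := fun s =>
    H23.PicMul.isInvertible_tensor (H23.PicMul.isInvertible_tensorPow hL s) hE
  choose p₀ hp₀ using fun s => exists_h0_eq_euler k hdim hA (hG s)
  obtain ⟨n₁, hn₁⟩ := exists_sections_of_pos k hdim hH.1 hH (dot_self_pos_of_isAmple k hdim hH)
    (dot_self_pos_of_isAmple k hdim hH)
  set β : ℕ → ℤ := fun s => 2 * (Curv2.euler k X A - Curv2.euler k X (Coh.structureModule X)) -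
    dot k A A + 2 * dot k (G s) A with hβ
  set S := ∑ s ∈ Finset.range T, (|β s| + |2 * Curv2.euler k X (G s)|) with hS
  refine ⟨(T : ℤ) ^ 2 * S, T * (n₁ + (Finset.range T).sup p₀ + 1), fun m hm => ?_⟩
  set p := m / T with hpdef
  set s := m % T with hsdef
  have hms : s + T * p = m := Nat.mod_add_div m T
  have hsT : s < T := Nat.mod_lt m hT0
  have hp : n₁ + (Finset.range T).sup p₀ + 1 ≤ p := (Nat.le_div_iff_mul_le hT0).2 (by rw [mul_comm]; exact hm)
  have hps : p₀ s ≤ p := le_trans (Finset.le_sup (Finset.mem_range.2 hsT)) (by omega)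
  have hPtp := H23.PicMul.isInvertible_tensorPow hP (t * p)
  have hLs := H23.PicMul.isInvertible_tensorPow hL s
  set M := CohB1.tensorMod (CohB1.tensorPow P (t * p)) (CohB1.tensorPow L s)
  have hM : PicF.IsInvertible M := H23.PicMul.isInvertible_tensor hPtp hLs
  have hdegM : ∀ i, degOn k (ClSub.quotMod (N i)) M ≤ (D : ℤ) := fun i => by
    rw [degOn_tensor k (isCoh_quotMod k _) (dim_support_quot_curve (hNd i)) hPtp hLs,
      degOn_tensorPow k (isCoh_quotMod k _) (dim_support_quot_curve (hNd i)) hP, horth i, mul_zero, zero_add,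
      degOn_tensorPow k (isCoh_quotMod k _) (dim_support_quot_curve (hNd i)) hL]
    refine le_trans (mul_le_mul_of_nonneg_left Int.le_natAbs (Int.natCast_nonneg _)) ?_
    exact_mod_cast Nat.mul_le_mul hsT.le
      (Finset.single_le_sum (f := fun i => (degOn k (ClSub.quotMod (N i)) L).natAbs) (fun _ _ => Nat.zero_le _)
        (Finset.mem_univ i))
  have h1 := h0_peel k hdim hreg N hinj hNi hNd O hO hOi w hw hwneg D hM hdegM (fun l => t * p * b l)
  have hHp := H23.PicMul.isInvertible_tensorPow hH.1 p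
  have h2 := h0_le_tensor k (H23.PicMul.isInvertible_tensor hM hE) hHp (hn₁ p (by omega))
  have hle : Module.finrank k (Coh.HH X (CohB1.tensorPow L m) 0) ≤
      Module.finrank k (Coh.HH X (CohB1.tensorMod (G s) (CohB1.tensorPow A p)) 0) := by
    rw [← hCl_cl, ← hCl_cl] at h2
    refine le_trans ?_ ((h1.trans h2).trans_eq ?_)
    · rw [← hCl_cl, H23.PicMul.cl_tensorPow, cl_multiTwist_pow, H23.PicMul.cl_tensor, H23.PicMul.cl_tensorPow,
        H23.PicMul.cl_tensorPow]
      refine le_of_eq (congrArg _ ?_)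
      rw [← hms, pow_add, hT, mul_assoc, pow_mul, hdec, mul_pow]
      ac_rfl
    · rw [← hCl_cl, H23.PicMul.cl_tensor, H23.PicMul.cl_tensor, H23.PicMul.cl_tensor, H23.PicMul.cl_tensor,
        H23.PicMul.cl_tensor, H23.PicMul.cl_tensorPow, H23.PicMul.cl_tensorPow, H23.PicMul.cl_tensorPow,
        H23.PicMul.cl_tensorPow, H23.PicMul.cl_tensor, H23.PicMul.cl_tensorPow, mul_pow, ← pow_mul]
      congr 1
      ac_rfl
  have h3 : 2 * (Module.finrank k (Coh.HH X (CohB1.tensorPow L m) 0) : ℤ) ≤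
      (p : ℤ) ^ 2 * dot k A A + (p : ℤ) * β s + 2 * Curv2.euler k X (G s) :=
    le_of_le_of_eq (by exact_mod_cast Nat.mul_le_mul_left 2 hle) (hp₀ s p hps)
  have hpm : (p : ℤ) ≤ m := by exact_mod_cast Nat.div_le_self m T
  have hTp : (T : ℤ) * p ≤ m := by exact_mod_cast (show T * p ≤ m by omega)
  have hmz : (1 : ℤ) ≤ m := by
    have : 1 ≤ m := le_trans (Nat.one_le_iff_ne_zero.2 (by positivity)) hm
    exact_mod_cast this
  have hSs : |β s| + |2 * Curv2.euler k X (G s)| ≤ S :=
    Finset.single_le_sum (f := fun s => |β s| + |2 * Curv2.euler k X (G s)|) (fun _ _ => by positivity)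
      (Finset.mem_range.2 hsT)
  have h4 : (p : ℤ) * β s + 2 * Curv2.euler k X (G s) ≤ S * m := by
    have e1 := mul_le_mul_of_nonneg_left (le_abs_self (β s)) (Int.natCast_nonneg p)
    have e2 := mul_le_mul_of_nonneg_right hpm (abs_nonneg (β s))
    have e3 := mul_le_mul_of_nonneg_right hSs (Int.natCast_nonneg m)
    have e4 := mul_le_mul_of_nonneg_left hmz (abs_nonneg (2 * Curv2.euler k X (G s)))
    have e5 := le_abs_self (2 * Curv2.euler k X (G s))
    linarith
  have h5 : ((T : ℤ) * p) ^ 2 ≤ (m : ℤ) ^ 2 := pow_le_pow_left₀ (by positivity) hTp 2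
  have h6 := mul_le_mul_of_nonneg_right h5 hAA0.le
  have h7 := mul_le_mul_of_nonneg_left (h3.trans (by linarith :
    (p : ℤ) ^ 2 * dot k A A + (p : ℤ) * β s + 2 * Curv2.euler k X (G s) ≤ (p : ℤ) ^ 2 * dot k A A + S * m))
    (sq_nonneg (T : ℤ))
  rw [← hAA]
  linarith

include hdim hreg hNi hNd hO hOi hP hH hnef horth hL hdec ha hneg in
/-- Asymptotic cohomology under a Zariski decomposition. -/
theorem tendsto_cohomology :
    Filter.Tendsto (fun m : ℕ => (Module.finrank k (Coh.HH X (CohB1.tensorPow L m) 0) : ℝ) * 2 / (m : ℝ) ^ 2)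
      Filter.atTop (𝓝 ((dot k P P : ℝ) / (a : ℝ) ^ 2)) ∧
    Filter.Tendsto (fun m : ℕ => (Module.finrank k (Coh.HH X (CohB1.tensorPow L m) 1) : ℝ) * 2 / (m : ℝ) ^ 2)
      Filter.atTop (𝓝 (-(dot k (FGA.multiTwist O b) (FGA.multiTwist O b) : ℝ) / (a : ℝ) ^ 2)) ∧
    Filter.Tendsto (fun m : ℕ => (Module.finrank k (Coh.HH X (CohB1.tensorPow L m) 2) : ℝ) * 2 / (m : ℝ) ^ 2)
      Filter.atTop (𝓝 0) := by
  haveI := noeth k (X := X)
  haveI : X.IsSeparated := ⟨by
    rw [← Limits.terminal.comp_from (X ↘ Spec (CommRingCat.of k))]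
    infer_instance⟩
  have hd := hdim.le
  obtain ⟨hTi, hPP, hPH, hLH, hLL⟩ := facts k hdim hreg N hNi hNd O hO hOi b hL hP hH a ha hdec hnef horth
  have haR : (0 : ℝ) < a := by exact_mod_cast ha
  have hinv : ∀ C : ℝ, Filter.Tendsto (fun m : ℕ => C / (m : ℝ)) Filter.atTop (𝓝 0) := fun C =>
    tendsto_const_div_atTop_nhds_zero_nat C
  have h0lim : Filter.Tendsto (fun m : ℕ => (Module.finrank k (Coh.HH X (CohB1.tensorPow L m) 0) : ℝ) * 2 / (m : ℝ) ^ 2)
      Filter.atTop (𝓝 ((dot k P P : ℝ) / (a : ℝ) ^ 2)) := by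
    refine tendsto_order.2 ⟨fun c hc => ?_, fun c hc => ?_⟩
    · obtain ⟨C, hC0, hC⟩ := exists_h0_lower k hdim hreg N hNi hNd O hO hOi b hneg hL hP hH a ha hdec hnef horth
      have hlim : Filter.Tendsto (fun m : ℕ => (dot k P P : ℝ) / (a : ℝ) ^ 2 - (C : ℝ) / (a : ℝ) ^ 2 / m)
          Filter.atTop (𝓝 ((dot k P P : ℝ) / (a : ℝ) ^ 2)) := by
        simpa using tendsto_const_nhds.sub (hinv ((C : ℝ) / (a : ℝ) ^ 2))
      filter_upwards [(tendsto_order.1 hlim).1 c hc, Filter.eventually_ge_atTop 1] with m hm hm1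
      refine hm.trans_le ?_
      have hmR : (0 : ℝ) < m := by exact_mod_cast hm1
      have h := hC m hm1
      have h' : (dot k P P : ℝ) * (m : ℝ) ^ 2 ≤
          (a : ℝ) ^ 2 * (2 * (Module.finrank k (Coh.HH X (CohB1.tensorPow L m) 0) : ℝ)) + (C : ℝ) * m := by
        exact_mod_cast h
      field_simp
      nlinarith
    · set K : ℝ := ((2 * dot k P H + dot k H H : ℤ) : ℝ) with hK
      have hHH := dot_self_pos_of_isAmple k hdim hH
      have hK0 : 0 ≤ K := by rw [hK]; exact_mod_cast (by omega : 0 ≤ 2 * dot k P H + dot k H H)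
      set ε := c - (dot k P P : ℝ) / (a : ℝ) ^ 2 with hε
      have hε0 : 0 < ε := sub_pos.2 hc
      obtain ⟨t, ht⟩ := exists_nat_gt (K / ε)
      have htR : (0 : ℝ) < (t + 1 : ℕ) := by positivity
      obtain ⟨C, m₀, hC⟩ := exists_h0_upper k hdim hreg N hNi hNd O hO hOi b hneg hL hP hH a ha hdec hnef horth
        (t + 1) (Nat.le_add_left 1 t)
      set T : ℝ := (a : ℝ) * (t + 1 : ℕ) with hT
      have hT0 : 0 < T := by positivity
      have hlim : Filter.Tendsto (fun m : ℕ => (dot k P P : ℝ) / (a : ℝ) ^ 2 + K / (t + 1 : ℕ) + (C : ℝ) / T ^ 2 / m)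
          Filter.atTop (𝓝 ((dot k P P : ℝ) / (a : ℝ) ^ 2 + K / (t + 1 : ℕ))) := by
        simpa using tendsto_const_nhds.add (hinv ((C : ℝ) / T ^ 2))
      have hKlt : K / (t + 1 : ℕ) < ε := by
        rw [div_lt_iff₀ htR]
        rw [div_lt_iff₀ hε0] at ht
        push_cast
        nlinarith
      filter_upwards [(tendsto_order.1 hlim).2 c (by linarith), Filter.eventually_ge_atTop m₀,
        Filter.eventually_ge_atTop 1] with m hm hm0 hm1
      refine lt_of_le_of_lt ?_ hm
      have hmR : (0 : ℝ) < m := by exact_mod_cast hm1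
      have h := hC m hm0
      have h' : T ^ 2 * (2 * (Module.finrank k (Coh.HH X (CohB1.tensorPow L m) 0) : ℝ)) ≤
          (((t + 1 : ℕ) : ℝ) ^ 2 * dot k P P + 2 * (t + 1 : ℕ) * dot k P H + dot k H H) * (m : ℝ) ^ 2 + C * m := by
        rw [hT]
        exact_mod_cast h
      have hone : (1 : ℝ) ≤ (t + 1 : ℕ) := by exact_mod_cast Nat.le_add_left 1 t
      have haone : (1 : ℝ) ≤ a := by exact_mod_cast ha
      have hHR : (0 : ℝ) ≤ dot k H H := by exact_mod_cast hHH.le
      have hKb : 2 * ((t + 1 : ℕ) : ℝ) * dot k P H + dot k H H ≤ K * (t + 1 : ℕ) * (a : ℝ) ^ 2 := by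
        have e1 : (dot k H H : ℝ) * 1 ≤ dot k H H * (t + 1 : ℕ) := mul_le_mul_of_nonneg_left hone hHR
        have e2 : K * (t + 1 : ℕ) * 1 ≤ K * (t + 1 : ℕ) * (a : ℝ) ^ 2 :=
          mul_le_mul_of_nonneg_left (one_le_pow₀ haone) (by positivity)
        rw [hK] at e2 ⊢
        push_cast at e1 e2 ⊢
        linarith
      have h2 := mul_le_mul_of_nonneg_right hKb (sq_nonneg (m : ℝ))
      rw [show (dot k P P : ℝ) / (a : ℝ) ^ 2 + K / (t + 1 : ℕ) + (C : ℝ) / T ^ 2 / m =
        (((t + 1 : ℕ) : ℝ) ^ 2 * dot k P P * (m : ℝ) ^ 2 + K * (t + 1 : ℕ) * (a : ℝ) ^ 2 * (m : ℝ) ^ 2 + C * m) /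
          T ^ 2 / (m : ℝ) ^ 2 by rw [hT]; field_simp]
      rw [div_le_div_iff_of_pos_right (by positivity : (0 : ℝ) < (m : ℝ) ^ 2), le_div_iff₀ (by positivity)]
      linarith
  have h2lim : Filter.Tendsto (fun m : ℕ => (Module.finrank k (Coh.HH X (CohB1.tensorPow L m) 2) : ℝ) * 2 / (m : ℝ) ^ 2)
      Filter.atTop (𝓝 0) := by
    obtain ⟨Cu, j, B, hCi, hC, hh2⟩ := exists_h2_le k hdim hreg hH
    haveI := hCi
    set K : ℝ := 2 * ((B + j * (degOn k (ClSub.quotMod Cu) L).natAbs : ℕ) : ℝ)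
    refine tendsto_of_tendsto_of_tendsto_of_le_of_le' tendsto_const_nhds (hinv K)
      (Filter.Eventually.of_forall fun m => by positivity) ?_
    filter_upwards [Filter.eventually_ge_atTop 1] with m hm1
    have hmR : (0 : ℝ) < m := by exact_mod_cast hm1
    have h := hh2 _ (H23.PicMul.isInvertible_tensorPow hL m) (by
      rw [dot_tensorPow_left k hd hL hH.1]; exact mul_nonneg (Int.natCast_nonneg _) hLH)
    rw [degOn_tensorPow k (isCoh_quotMod k Cu) (dim_support_quot_curve hC) hL, Int.natAbs_mul,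
      Int.natAbs_natCast] at h
    have h' : 2 * Module.finrank k (Coh.HH X (CohB1.tensorPow L m) 2) ≤
        2 * (B + j * (degOn k (ClSub.quotMod Cu) L).natAbs) * m := by
      have : B * 1 ≤ B * m := Nat.mul_le_mul_left _ hm1
      linarith
    have hR : (Module.finrank k (Coh.HH X (CohB1.tensorPow L m) 2) : ℝ) * 2 ≤ K * m := by
      rw [mul_comm]
      have := (Nat.cast_le (α := ℝ)).2 h'
      push_cast [K] at this ⊢
      linarith
    rw [div_le_div_iff₀ (by positivity) hmR]
    calc _ ≤ K * m * m := mul_le_mul_of_nonneg_right hR hmR.le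
      _ = _ := by ring
  refine ⟨h0lim, ?_, h2lim⟩
  set bL := 2 * (Curv2.euler k X L - Curv2.euler k X (Coh.structureModule X)) - dot k L L
  set eL := 2 * Curv2.euler k X (Coh.structureModule X)
  have hχ : Filter.Tendsto (fun m : ℕ => (dot k L L : ℝ) + (bL : ℝ) / m + (eL : ℝ) / m / m)
      Filter.atTop (𝓝 (dot k L L : ℝ)) := by
    have h3 : Filter.Tendsto (fun m : ℕ => (eL : ℝ) / m / m) Filter.atTop (𝓝 0) :=
      (hinv _).div_atTop tendsto_natCast_atTop_atTop
    simpa using ((tendsto_const_nhds (x := (dot k L L : ℝ))).add (hinv bL)).add h3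
  have htot := (h0lim.add h2lim).sub hχ
  have hval : (dot k P P : ℝ) / (a : ℝ) ^ 2 + 0 - (dot k L L : ℝ) =
      -(dot k (FGA.multiTwist O b) (FGA.multiTwist O b) : ℝ) / (a : ℝ) ^ 2 := by
    have h : (a : ℝ) ^ 2 * (dot k L L : ℝ) = dot k P P + dot k (FGA.multiTwist O b) (FGA.multiTwist O b) := by
      exact_mod_cast hLL
    field_simp
    linarith
  rw [hval] at htot
  refine htot.congr' ?_
  filter_upwards [Filter.eventually_ge_atTop 1] with m hm1
  have hmR : (0 : ℝ) < m := by exact_mod_cast hm1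
  have heu := two_mul_euler_tensorPow k hd hL m
  rw [Euler.euler_eq_sum k (CohB1.tensorPow L m) 3 fun i hi => Snapper.subsingleton_HH_of_dim_le (d := 2) hdim.le
    (ZeroSchX.isQCoh_inv (H23.PicMul.isInvertible_tensorPow hL m)) (Nat.lt_of_succ_le hi)] at heu
  simp only [Finset.sum_range_succ, Finset.sum_range_zero] at heu
  norm_num at heu
  have heu' : 2 * ((Module.finrank k (Coh.HH X (CohB1.tensorPow L m) 0) : ℝ) -
      (Module.finrank k (Coh.HH X (CohB1.tensorPow L m) 1) : ℝ) +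
      (Module.finrank k (Coh.HH X (CohB1.tensorPow L m) 2) : ℝ)) =
      (m : ℝ) ^ 2 * dot k L L + (m : ℝ) * bL + eL := by
    exact_mod_cast (show 2 * ((Module.finrank k (Coh.HH X (CohB1.tensorPow L m) 0) : ℤ) -
      (Module.finrank k (Coh.HH X (CohB1.tensorPow L m) 1) : ℤ) +
      (Module.finrank k (Coh.HH X (CohB1.tensorPow L m) 2) : ℤ)) = (m : ℤ) ^ 2 * dot k L L + (m : ℤ) * bL + eL by
        linarith)
  field_simp
  linarith

end Groth.Agent.SurfInt
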