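import Groth.Agent.SurfInt.RatConfig

/-! Artin's criterion for the vanishing of `H¹` on the sub-divisors of a divisor. -/

noncomputable section

set_option linter.style.haveILetI false
set_option linter.unusedSectionVars false
set_option backward.isDefEq.respectTransparency false
set_option backward.isDefEq.respectTransparency.types false

universe u

open CategoryTheory CategoryTheory.Limits AlgebraicGeometry TopologicalSpace Opposite

namespace Groth.Agent.SurfInt

open Groth.Agent

variable (k : Type u) [Field k] [IsAlgClosed k] {X : Scheme.{u}} [X.Over (Spec (CommRingCat.of k))]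
  [IsProper (X ↘ Spec (CommRingCat.of k))] [IsIntegral X]

omit [IsAlgClosed k] [IsIntegral X] in
/-- On a divisor only `h⁰` and `h¹` count. -/
theorem euler_quot_eq {Z : X.IdealSheafData} (hd : topologicalKrullDim (Z.support : Set X) ≤ 1) :
    Curv2.euler k X (ClSub.quotMod Z) = (Module.finrank k (Coh.HH X (ClSub.quotMod Z) 0) : ℤ) -
      Module.finrank k (Coh.HH X (ClSub.quotMod Z) 1) := by
  letI := overComp k Z.subschemeι
  haveI := isProper_comp k Z.subschemeι rfl
  haveI := noeth k (X := Z.subscheme)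
  haveI : Z.subscheme.IsSeparated := ⟨by
    rw [← Limits.terminal.comp_from (Z.subscheme ↘ Spec (CommRingCat.of k))]
    infer_instance⟩
  have hd' : topologicalKrullDim Z.subscheme ≤ 1 := by
    refine le_of_eq_of_le ?_ hd
    exact IsHomeomorph.topologicalKrullDim_eq _
      (Homeomorph.isHomeomorph ((Z.subschemeι.isClosedEmbedding.isEmbedding.toHomeomorph).trans
        (Homeomorph.setCongr Z.range_subschemeι)))
  have hq := StMod.isQCoh_structureModule Z.subscheme
  have key : ∀ n, Module.finrank k (Coh.HH X (ClSub.quotMod Z) n) =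
      Module.finrank k (Coh.HH Z.subscheme (Coh.structureModule Z.subscheme) n) := fun n => by
    obtain ⟨e⟩ := QCoh.HH_push_linear Z.subschemeι (Coh.toGlobal (X ↘ Spec (CommRingCat.of k)))
      (Coh.toGlobal (Z.subscheme ↘ Spec (CommRingCat.of k))) (fun a => rfl) hq n
    exact e.finrank_eq.symm
  rw [key, key, euler_push_structure k Z.subschemeι rfl]
  rw [Euler.euler_eq_sum k _ 2 fun i hi =>
    Snapper.subsingleton_HH_of_dim_le (d := 1) hd' hq (Nat.lt_of_succ_le hi)]
  rw [Finset.sum_range_succ, Finset.sum_range_one]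
  simp
  ring

variable (hdim : topologicalKrullDim X = 2) (hreg : ∀ x : X, IsRegularLocalRing (X.presheaf.stalk x))

include hdim hreg

theorem h0_quot_pos {Z : X.IdealSheafData} (hZ : BlowUp.IsEffCartierIdeal Z) (hne : Z ≠ ⊤) :
    0 < Module.finrank k (Coh.HH X (ClSub.quotMod Z) 0) := by
  haveI := noeth k (X := X)
  haveI := CurveCohLib.finite_HH (k := k) (isCoh_quotMod k Z) 0
  obtain ⟨C, hCi, -, hle⟩ := exists_curve_le k hdim hZ hne
  haveI := hCi
  haveI : Epi (ClSub.toSubscheme Z) := (shortExact_ideal Z).epi_g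
  have hne0 : ClSub.toSubscheme Z ≠ 0 := fun h0 => by
    have hx : genC C ∈ Z.support := (Scheme.IdealSheafData.support_antitone hle) (genC_mem (C := C))
    refine CurveCohLib.GlobGen.nontrivial_stalk_quotMod Z hx (subsingleton_of_forall_eq 0 fun v => ?_)
    obtain ⟨w, rfl⟩ := st_surjective (ClSub.toSubscheme Z) v
    rw [h0]
    simp [st]
    rfl
  haveI := nontrivial_H0_of_hom hne0
  exact Module.finrank_pos

theorem h1_iff_euler {W : X.Modules} (hW : ExtPow.IsExtPow 2 (Omega.sheaf (X ↘ Spec (CommRingCat.of k))) W)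
    {Z : X.IdealSheafData} (hZ : BlowUp.IsEffCartierIdeal Z)
    (h : ∀ Z' J : X.IdealSheafData, BlowUp.IsEffCartierIdeal Z' → BlowUp.IsEffCartierIdeal J → Z' ≠ ⊤ →
      Z = Z' * J → 1 ≤ Curv2.euler k X (ClSub.quotMod Z')) :
    Subsingleton (Coh.HH X (ClSub.quotMod Z) 1) := by
  classical
  have hd := hdim.le
  haveI := noeth k (X := X)
  haveI := wellFoundedGT_ideals (X := X)
  induction Z using WellFoundedGT.induction with
  | ind Z ih =>
    by_cases hne : Z = ⊤
    · subst hne
      exact Euler.subsingleton_HH_of_isZero (CurveCohLib.isZero_of_subsingleton_stalks fun x =>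
        ParShLib.subsingleton_stalk_quotMod ⊤ (fun hx => by rw [Scheme.IdealSheafData.support_top] at hx; exact hx)) 1
    have hχ : 1 ≤ Curv2.euler k X (ClSub.quotMod Z) :=
      h Z ⊤ hZ (BlowUpLib.isEffCartier_top X) hne (mul_top_ideal Z).symm
    have iZ := ArSurfX.isInvertible_idealMod hZ
    have hWi := Adj.isInvertible_canonical k hdim hreg hW
    have hadj := Adj.adjunction_euler k hdim hreg hW Z iZ
    obtain ⟨M', hM', eM⟩ := H23.PicInv.exists_inverse iZ
    have hM : PicF.IsInvertible (CohB1.tensorMod W M') := InvX.isInvertible_tensorMod hWi hM'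
    obtain ⟨C, hCi, hC, hle, hdeg⟩ : ∃ C : X.IdealSheafData, IsIntegral C.subscheme ∧
        topologicalKrullDim (C.support : Set X) = 1 ∧ Z ≤ C ∧
        degOn k (ClSub.quotMod C) (CohB1.tensorMod W M') < 0 := by
      by_contra hcon
      push Not at hcon
      have h0 := degOn_quot_nonneg k hdim hreg hM hZ fun C hCi hC hle => hcon C hCi hC hle
      have hdd := dim_support_quotMod (dim_support_effCartier k hdim hZ) (X := X)
      rw [degOn_tensor k (isCoh_quotMod k Z) hdd hWi hM', degOn_inv k (isCoh_quotMod k Z) hdd iZ hM' eM] at h0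
      rw [dot_ideal_left k hd Z iZ iZ, dot_ideal_left k hd Z iZ hWi] at hadj
      omega
    haveI := hCi
    have hCe := isEffCartier_curve k hdim hreg C hC
    have iC := ArSurfX.isInvertible_idealMod hCe
    have hCne : C ≠ ⊤ := fun e => by
      rw [e, dim_support_top] at hC
      exact absurd hC (by simp)
    obtain ⟨Z', hZ', he, hlt⟩ := exists_peel k hdim hreg hZ C hC hle
    have iZ' := ArSurfX.isInvertible_idealMod hZ'
    letI := overComp k C.subschemeι
    have hχC := h C Z' hCe hZ' hCne he
    have hχC' := Adj.euler_quot_curve k C hC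
    have hC1 : Subsingleton (Coh.HH X (ClSub.quotMod C) 1) := by
      have h1 := euler_quot_eq k (Z := C) hC.le
      haveI := CurveCohLib.finite_HH (k := k) (isCoh_quotMod k C) 1
      have h0 : Module.finrank k (Coh.HH X (ClSub.quotMod C) 0) ≤ 1 := by
        obtain ⟨e⟩ := QCoh.HH_push_linear C.subschemeι (Coh.toGlobal (X ↘ Spec (CommRingCat.of k)))
          (Coh.toGlobal (C.subscheme ↘ Spec (CommRingCat.of k))) (fun a => rfl)
          (StMod.isQCoh_structureModule C.subscheme) 0
        haveI := isProper_comp k C.subschemeι rfl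
        rw [← e.finrank_eq, Adj.finrank_h0_integral k C.subscheme]
      exact (Module.finrank_zero_iff (R := k)).1 (by omega)
    have hadjC := Adj.adjunction_euler k hdim hreg hW C iC
    have hZC : dot k (ClSub.idealMod C) (ClSub.idealMod Z) =
        dot k (ClSub.idealMod C) (ClSub.idealMod C) + dot k (ClSub.idealMod C) (ClSub.idealMod Z') := by
      rw [he, dot_idealMod_mul k hd iC hCe hZ']
    rw [dot_ideal_left k hd C iC iC, dot_ideal_left k hd C iC hWi] at hadjC
    rw [dot_ideal_left k hd C iC iC, dot_ideal_left k hd C iC iZ, dot_ideal_left k hd C iC iZ'] at hZC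
    rw [degOn_tensor k (isCoh_quotMod k C) (dim_support_quot_curve hC) hWi hM',
      degOn_inv k (isCoh_quotMod k C) (dim_support_quot_curve hC) iZ hM' eM] at hdeg
    rw [he, mul_comm]
    refine subsingleton_h1_residual k hZ' hCe (subsingleton_h1_twist k C hC hC1 iZ' (by omega))
      (ih Z' hlt hZ' fun Z'' J h1 h2 h3 h4 => h Z'' (C * J) h1 (ArSurfX.isEffCartier_mul hCe h2) h3
        (by rw [he, h4]; exact mul_left_comm _ _ _))

theorem artin_criterion {W : X.Modules} (hW : ExtPow.IsExtPow 2 (Omega.sheaf (X ↘ Spec (CommRingCat.of k))) W)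
    {Z : X.IdealSheafData} :
    (∀ Z' J : X.IdealSheafData, BlowUp.IsEffCartierIdeal Z' → BlowUp.IsEffCartierIdeal J → Z' ≠ ⊤ → Z = Z' * J →
        Subsingleton (Coh.HH X (ClSub.quotMod Z') 1)) ↔
      (∀ Z' J : X.IdealSheafData, BlowUp.IsEffCartierIdeal Z' → BlowUp.IsEffCartierIdeal J → Z' ≠ ⊤ → Z = Z' * J →
        1 ≤ Curv2.euler k X (ClSub.quotMod Z')) := by
  constructor
  · intro h Z' J h1 h2 h3 h4
    haveI := h Z' J h1 h2 h3 h4
    rw [euler_quot_eq k (dim_support_effCartier k hdim h1),
      Module.finrank_zero_of_subsingleton (M := Coh.HH X (ClSub.quotMod Z') 1)]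
    have := h0_quot_pos k hdim hreg h1 h3
    omega
  · intro h Z' J h1 h2 h3 h4
    refine h1_iff_euler k hdim hreg hW h1 fun Z'' J' e1 e2 e3 e4 => h Z'' (J' * J) e1 ?_ e3 ?_
    · exact ArSurfX.isEffCartier_mul e2 h2
    · rw [h4, e4, mul_assoc]

end Groth.Agent.SurfInt
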