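import Groth.Agent.SurfInt.ArtinCrit
import Groth.Agent.SurfInt.AffCompl
import Groth.Agent.HilbPoly.Step
import Groth.Agent.H44Adj.Main
import Groth.Agent.SurfInt.NegDef
import Groth.Agent.PnCoh.Finite.SerreVanishing

/-! Cohomology of nef twists on cycles of a rational configuration. -/

noncomputable section

set_option linter.style.haveILetI false
set_option linter.unusedSectionVars false
set_option backward.isDefEq.respectTransparency false
set_option backward.isDefEq.respectTransparency.types false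

universe u

open CategoryTheory CategoryTheory.Limits AlgebraicGeometry TopologicalSpace Opposite

namespace Groth.Agent.SurfInt

open Groth.Agent
open Groth.Agent.PnCoh.Finite (mapLin)

variable (k : Type u) [Field k] {X : Scheme.{u}} [X.Over (Spec (CommRingCat.of k))]
  [IsProper (X ↘ Spec (CommRingCat.of k))]

/-- On a divisor only `h⁰` and `h¹` count, also for twists. -/
theorem euler_twist_eq {Z : X.IdealSheafData} (hd : topologicalKrullDim (Z.support : Set X) ≤ 1)
    {N : X.Modules} (hN : PicF.IsInvertible N) :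
    Curv2.euler k X (CohB1.tensorMod (ClSub.quotMod Z) N) =
      (Module.finrank k (Coh.HH X (CohB1.tensorMod (ClSub.quotMod Z) N) 0) : ℤ) -
        Module.finrank k (Coh.HH X (CohB1.tensorMod (ClSub.quotMod Z) N) 1) := by
  haveI := noeth k (X := X)
  haveI : X.IsSeparated := ⟨by
    rw [← Limits.terminal.comp_from (X ↘ Spec (CommRingCat.of k))]
    infer_instance⟩
  have hc := isCoh_twist_quot k Z hN
  have hs' : CohB1.support (CohB1.tensorMod (ClSub.quotMod Z) N) ⊆ (Z.support : Set X) :=
    (HilbPoly.support_tensor_subset _ N).trans (support_quotMod_subset Z)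
  rw [Euler.euler_eq_sum k _ 2 fun i hi => Snapper.subsingleton_HH_of_dim_lt 2 Z.support
    (hd.trans_lt (by norm_num)) _ hc.1 hs' i hi]
  rw [Finset.sum_range_succ, Finset.sum_range_one]
  simp
  ring

variable [IsAlgClosed k] [IsIntegral X] (hdim : topologicalKrullDim X = 2)
  (hreg : ∀ x : X, IsRegularLocalRing (X.presheaf.stalk x))

include k hdim hreg

/-- An effective divisor and a curve outside it meet non-negatively. -/
theorem le_curve_of_degOn_pos {J : X.IdealSheafData} (hJ : BlowUp.IsEffCartierIdeal J) (C : X.IdealSheafData)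
    [IsIntegral C.subscheme] (hC : topologicalKrullDim (C.support : Set X) = 1)
    (h : 0 < degOn k (ClSub.quotMod C) (ClSub.idealMod J)) : J ≤ C := by
  by_contra hle
  have := degOn_curve_ideal_nonpos k C hC (F := J) (ArSurfX.isInvertible_idealMod hJ) fun hg => hle ((le_curve_iff C).2 hg)
  omega

/-- A curve of a divisor with `χ(O) > 0` along which `K + Z` is negative. -/
theorem exists_curve_twist_ge {Z : X.IdealSheafData} (hZ : BlowUp.IsEffCartierIdeal Z)
    (hχ : 1 ≤ Curv2.euler k X (ClSub.quotMod Z))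
    (hC1 : ∀ C : X.IdealSheafData, IsIntegral C.subscheme → topologicalKrullDim (C.support : Set X) = 1 → Z ≤ C →
      Subsingleton (Coh.HH X (ClSub.quotMod C) 1)) :
    ∃ (C : X.IdealSheafData) (Z' : X.IdealSheafData), IsIntegral C.subscheme ∧
      topologicalKrullDim (C.support : Set X) = 1 ∧ BlowUp.IsEffCartierIdeal Z' ∧ Z = C * Z' ∧ Z < Z' ∧
      Subsingleton (Coh.HH X (ClSub.quotMod C) 1) ∧ -1 ≤ degOn k (ClSub.quotMod C) (ClSub.idealMod Z') := by
  have hd := hdim.le
  haveI := noeth k (X := X)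
  obtain ⟨W, hW⟩ : ∃ W, ExtPow.IsExtPow 2 (Omega.sheaf (X ↘ Spec (CommRingCat.of k))) W :=
    H44Adj.exists_isExtPow _ _ (OmegaUniv.isQCoh_omega _)
  have iZ := ArSurfX.isInvertible_idealMod hZ
  have hWi := Adj.isInvertible_canonical k hdim hreg hW
  have hadj := Adj.adjunction_euler k hdim hreg hW Z iZ
  obtain ⟨M', hM', eM⟩ := H23.PicInv.exists_inverse iZ
  have hM : PicF.IsInvertible (CohB1.tensorMod W M') := InvX.isInvertible_tensorMod hWi hM'
  obtain ⟨C, hCi, hC, hle, hdeg⟩ : ∃ C : X.IdealSheafData, IsIntegral C.subscheme ∧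
      topologicalKrullDim (C.support : Set X) = 1 ∧ Z ≤ C ∧
      degOn k (ClSub.quotMod C) (CohB1.tensorMod W M') < 0 := by
    by_contra hcon
    push Not at hcon
    have h0 := degOn_quot_nonneg k hdim hreg hM hZ fun C hCi hC hle => hcon C hCi hC hle
    have hdd := dim_support_quotMod (dim_support_effCartier k hdim hZ) (X := X)
    rw [degOn_tensor k (isCoh_quotMod k Z) hdd hWi hM', degOn_inv k (isCoh_quotMod k Z) hdd iZ hM' eM] at h0
    rw [dot_ideal_left k hd Z iZ iZ, dot_ideal_left k hd Z iZ hWi] at hadj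
    omega
  haveI := hCi
  have hCe := isEffCartier_curve k hdim hreg C hC
  have iC := ArSurfX.isInvertible_idealMod hCe
  obtain ⟨Z', hZ', he, hlt⟩ := exists_peel k hdim hreg hZ C hC hle
  have iZ' := ArSurfX.isInvertible_idealMod hZ'
  haveI hC1' := hC1 C hCi hC hle
  refine ⟨C, Z', hCi, hC, hZ', he, hlt, hC1', ?_⟩
  have h1 := euler_quot_eq k (Z := C) hC.le
  rw [Module.finrank_zero_of_subsingleton (M := Coh.HH X (ClSub.quotMod C) 1)] at h1
  have h0 := h0_quot_pos k hdim hreg hCe (fun e => by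
    rw [e, dim_support_top] at hC
    exact absurd hC (by simp))
  have h01 : Module.finrank k (Coh.HH X (ClSub.quotMod C) 0) ≤ 1 := by
    have hh := hZ_curve_le_one k C hC (N := Coh.structureModule X) isInvertible_structure (by rw [degOn_one k])
    unfold Groth.Agent.SurfInt.hZ at hh
    rwa [finrank_congr k (H23.PicMul.unit (ClSub.quotMod C)).some 0] at hh
  have hadjC := Adj.adjunction_euler k hdim hreg hW C iC
  have hZC : dot k (ClSub.idealMod C) (ClSub.idealMod Z) =
      dot k (ClSub.idealMod C) (ClSub.idealMod C) + dot k (ClSub.idealMod C) (ClSub.idealMod Z') := by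
    rw [he, dot_idealMod_mul k hd iC hCe hZ']
  rw [dot_ideal_left k hd C iC iC, dot_ideal_left k hd C iC hWi] at hadjC
  rw [dot_ideal_left k hd C iC iC, dot_ideal_left k hd C iC iZ, dot_ideal_left k hd C iC iZ'] at hZC
  rw [degOn_tensor k (isCoh_quotMod k C) (dim_support_quot_curve hC) hWi hM',
    degOn_inv k (isCoh_quotMod k C) (dim_support_quot_curve hC) iZ hM' eM] at hdeg
  omega

/-- A nef twist on a rational cycle has no `H¹`. -/
theorem subsingleton_h1_nef {Z : X.IdealSheafData} (hZ : BlowUp.IsEffCartierIdeal Z)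
    (h : ∀ Z' J : X.IdealSheafData, BlowUp.IsEffCartierIdeal Z' → BlowUp.IsEffCartierIdeal J → Z' ≠ ⊤ →
      Z = Z' * J → Subsingleton (Coh.HH X (ClSub.quotMod Z') 1))
    {M : X.Modules} (hM : PicF.IsInvertible M)
    (hnef : ∀ C : X.IdealSheafData, IsIntegral C.subscheme → topologicalKrullDim (C.support : Set X) = 1 → Z ≤ C →
      0 ≤ degOn k (ClSub.quotMod C) M) :
    Subsingleton (Coh.HH X (CohB1.tensorMod (ClSub.quotMod Z) M) 1) := by
  classical
  haveI := noeth k (X := X)
  haveI := wellFoundedGT_ideals (X := X)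
  induction Z using WellFoundedGT.induction with
  | ind Z ih =>
    by_cases hne : Z = ⊤
    · subst hne
      exact Euler.subsingleton_HH_of_isZero (isZero_twist hM (CurveCohLib.isZero_of_subsingleton_stalks fun x =>
        ParShLib.subsingleton_stalk_quotMod ⊤ (fun hx => by rw [Scheme.IdealSheafData.support_top] at hx; exact hx))) 1
    haveI := h Z ⊤ hZ (BlowUpLib.isEffCartier_top X) hne (mul_top_ideal Z).symm
    have hχ : 1 ≤ Curv2.euler k X (ClSub.quotMod Z) := by
      rw [euler_quot_eq k (dim_support_effCartier k hdim hZ),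
        Module.finrank_zero_of_subsingleton (M := Coh.HH X (ClSub.quotMod Z) 1)]
      have := h0_quot_pos k hdim hreg hZ hne
      omega
    obtain ⟨C, Z', hCi, hC, hZ', he, hlt, hC1, hdeg⟩ := exists_curve_twist_ge k hdim hreg hZ hχ
      fun C hCi hC hle => by
        haveI := hCi
        obtain ⟨Z', hZ', he, -⟩ := exists_peel k hdim hreg hZ C hC hle
        exact h C Z' (isEffCartier_curve k hdim hreg C hC) hZ' (fun e => by
          rw [e, dim_support_top] at hC
          exact absurd hC (by simp)) he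
    haveI := hCi
    have hCe := isEffCartier_curve k hdim hreg C hC
    have iZ' := ArSurfX.isInvertible_idealMod hZ'
    have hZM := InvX.isInvertible_tensorMod iZ' hM
    have h1 : Subsingleton (Coh.HH X (CohB1.tensorMod (ClSub.quotMod C) (CohB1.tensorMod (ClSub.idealMod Z') M)) 1) :=
      subsingleton_h1_twist k C hC hC1 hZM (by
        rw [degOn_tensor k (isCoh_quotMod k C) (dim_support_quot_curve hC) iZ' hM]
        have := hnef C hCi hC (he ▸ mul_le_left' C Z')
        omega)
    have h2 := ih Z' hlt hZ' (fun Z'' J h1 h2 h3 h4 => h Z'' (C * J) h1 (ArSurfX.isEffCartier_mul hCe h2) h3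
        (by rw [he, h4]; exact mul_left_comm _ _ _))
      fun D hDi hD hD' => hnef D hDi hD (hlt.le.trans hD')
    rw [he, mul_comm]
    obtain ⟨i, q, w, hS⟩ := exists_residual_twist hZ' hCe hM
    exact QCoh.subsingleton_HH_X₂ hS 1 h1 h2

/-- `h⁰(O_Z) ≤ 1` for a fundamental cycle. -/
theorem h0_fundamental_le_one {r : ℕ} (C : Fin r → X.IdealSheafData) (hCi : ∀ i, IsIntegral (C i).subscheme)
    (hCd : ∀ i, topologicalKrullDim ((C i).support : Set X) = 1) {Z₀ : X.IdealSheafData}
    (hZ₀ : BlowUp.IsEffCartierIdeal Z₀) (hne : Z₀ ≠ ⊤)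
    (hZ₀s : (Z₀.support : Set X) ⊆ ⋃ i, ((C i).support : Set X))
    (hnef : ∀ i, 0 ≤ degOn k (ClSub.quotMod (C i)) (ClSub.idealMod Z₀))
    (hmin : ∀ Z : X.IdealSheafData, BlowUp.IsEffCartierIdeal Z → Z ≠ ⊤ →
      (Z.support : Set X) ⊆ ⋃ i, ((C i).support : Set X) →
      (∀ i, 0 ≤ degOn k (ClSub.quotMod (C i)) (ClSub.idealMod Z)) → Z ≤ Z₀) :
    Module.finrank k (Coh.HH X (ClSub.quotMod Z₀) 0) ≤ 1 := by
  classical
  haveI := noeth k (X := X)
  haveI := wellFoundedGT_ideals (X := X)
  have hO : PicF.IsInvertible (Coh.structureModule X) := isInvertible_structure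
  have key : ∀ J : X.IdealSheafData, ∀ Z : X.IdealSheafData, BlowUp.IsEffCartierIdeal J →
      BlowUp.IsEffCartierIdeal Z → Z ≠ ⊤ → Z₀ = Z * J → hZ k Z (Coh.structureModule X) ≤ 1 →
      hZ k Z₀ (Coh.structureModule X) ≤ 1 := by
    intro J
    induction J using WellFoundedGT.induction with
    | ind J ih =>
      intro Z hJ hZ hZne he hh
      have iZ := ArSurfX.isInvertible_idealMod hZ
      have iJ := ArSurfX.isInvertible_idealMod hJ
      by_cases hall : ∀ i, 0 ≤ degOn k (ClSub.quotMod (C i)) (ClSub.idealMod Z)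
      · have h1 : Z₀ ≤ Z := he ▸ mul_le_left' Z J
        have h2 := hmin Z hZ hZne (Set.Subset.trans (Scheme.IdealSheafData.support_antitone h1) hZ₀s) hall
        rwa [le_antisymm h2 h1] at hh
      · push Not at hall
        obtain ⟨i, hi⟩ := hall
        haveI := hCi i
        have hCe := isEffCartier_curve k hdim hreg (C i) (hCd i)
        have hJC : J ≤ C i := by
          refine le_curve_of_degOn_pos k hdim hreg hJ (C i) (hCd i) ?_
          have h0 := hnef i
          rw [he, degOn_congr k (ArSurfX.nonempty_idealMod_mul hZ hJ).some.symm,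
            degOn_tensor k (isCoh_quotMod k (C i)) (dim_support_quot_curve (hCd i)) iZ iJ] at h0
          omega
        obtain ⟨J', hJ', hJe, hlt⟩ := exists_peel k hdim hreg hJ (C i) (hCd i) hJC
        have hZC := ArSurfX.isEffCartier_mul hZ hCe
        refine ih J' hlt (Z * C i) hJ' hZC (fun e => hZne ?_) (by rw [he, hJe, mul_assoc]) ?_
        · exact top_le_iff.1 (e ▸ mul_le_left' Z (C i))
        · have h1 := hZ_mul_le k hZ hCe hO
          rw [hZ_curve_eq_zero k (C i) (hCd i) (InvX.isInvertible_tensorMod iZ hO) (by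
            rw [degOn_tensor k (isCoh_quotMod k (C i)) (dim_support_quot_curve (hCd i)) iZ hO, degOn_one k]
            omega)] at h1
          omega
  obtain ⟨D, hDi, hD, hle⟩ := exists_curve_le k hdim hZ₀ hne
  haveI := hDi
  obtain ⟨J, hJ, he, -⟩ := exists_peel k hdim hreg hZ₀ D hD hle
  have h := key J D hJ (isEffCartier_curve k hdim hreg D hD) (fun e => by
    rw [e, dim_support_top] at hD
    exact absurd hD (by simp)) he (hZ_curve_le_one k D hD hO (by rw [degOn_one k]))
  unfold hZ at h
  rwa [finrank_congr k (H23.PicMul.unit (ClSub.quotMod Z₀)).some 0] at h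

end Groth.Agent.SurfInt

namespace Groth.Agent.SurfInt

open Groth.Agent

theorem mul_le_mul_ideal {X : Scheme.{u}} {A B A' B' : X.IdealSheafData} (h : A ≤ A') (h' : B ≤ B') :
    A * B ≤ A' * B' := fun U => by
  simp only [Scheme.IdealSheafData.ideal_mul, Pi.mul_apply]
  exact Ideal.mul_mono (h U) (h' U)

theorem pow_le_pow_ideal {X : Scheme.{u}} {A A' : X.IdealSheafData} (h : A ≤ A') : ∀ n : ℕ, A ^ n ≤ A' ^ n
  | 0 => by rw [pow_zero, pow_zero]
  | n + 1 => by rw [pow_succ, pow_succ]; exact mul_le_mul_ideal (pow_le_pow_ideal h n) h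

theorem prod_le_prod_ideal {X : Scheme.{u}} {ι : Type*} (s : Finset ι) {A A' : ι → X.IdealSheafData}
    (h : ∀ i ∈ s, A i ≤ A' i) : ∏ i ∈ s, A i ≤ ∏ i ∈ s, A' i := by
  classical
  induction s using Finset.induction_on with
  | empty => rw [Finset.prod_empty, Finset.prod_empty]
  | insert a t ha ih =>
    rw [Finset.prod_insert ha, Finset.prod_insert ha]
    exact mul_le_mul_ideal (h a (Finset.mem_insert_self a t)) (ih fun i hi => h i (Finset.mem_insert_of_mem hi))

variable (k : Type u) [Field k] {X : Scheme.{u}} [X.Over (Spec (CommRingCat.of k))]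
  [IsProper (X ↘ Spec (CommRingCat.of k))]

/-- `H¹` of a larger divisor surjects. -/
theorem subsingleton_h1_of_le [IsAlgClosed k] [IsIntegral X] (hdim : topologicalKrullDim X = 2)
    {Z' Z : X.IdealSheafData} (hZ' : BlowUp.IsEffCartierIdeal Z') (hZ : BlowUp.IsEffCartierIdeal Z) (hle : Z' ≤ Z)
    (h : Subsingleton (Coh.HH X (ClSub.quotMod Z') 1)) : Subsingleton (Coh.HH X (ClSub.quotMod Z) 1) := by
  haveI := noeth k (X := X)
  haveI : X.IsSeparated := ⟨by
    rw [← Limits.terminal.comp_from (X ↘ Spec (CommRingCat.of k))]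
    infer_instance⟩
  let J := ModPairLib.colon Z' Z (ModPairLib.isLocPrincipal_of_isEffCartier hZ)
  have hmul : J * Z = Z' := ModPairLib.colon_mul hZ hle
  have hJ : BlowUp.IsEffCartierIdeal J := ModPairLib.isEffCartier_of_mul hZ (hmul.symm ▸ hZ')
  rw [mul_comm] at hmul
  obtain ⟨i, q, w, hS, -⟩ := exists_residual hZ hJ
  rw [← hmul] at h
  have hI := ArSurfX.isInvertible_idealMod hZ
  have hs : CohB1.support (CohB1.tensorMod (ClSub.quotMod J) (ClSub.idealMod Z)) ⊆ (J.support : Set X) :=
    (HilbPoly.support_tensor_subset _ _).trans (support_quotMod_subset J)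
  exact PnCoh.Finite.subsingleton_HH_X₃ hS 1 h (Snapper.subsingleton_HH_of_dim_lt 2 J.support
    ((dim_support_effCartier k hdim hJ).trans_lt (by norm_num)) _ (isCoh_twist_quot k J hI).1 hs 2 le_rfl)

variable [IsAlgClosed k] [IsIntegral X] (hdim : topologicalKrullDim X = 2)
  (hreg : ∀ x : X, IsRegularLocalRing (X.presheaf.stalk x))
  {r : ℕ} (C : Fin r → X.IdealSheafData) (hCi : ∀ i, IsIntegral (C i).subscheme)
  (hCd : ∀ i, topologicalKrullDim ((C i).support : Set X) = 1)

include k hdim hreg hCi hCd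

/-- An effective divisor supported on a configuration is a combination of its curves. -/
theorem exists_decomp_config {Z : X.IdealSheafData} (hZ : BlowUp.IsEffCartierIdeal Z)
    (hZs : (Z.support : Set X) ⊆ ⋃ i, ((C i).support : Set X)) : ∃ e : Fin r → ℕ, Z = ∏ i, C i ^ e i := by
  haveI := noeth k (X := X)
  have hCe : ∀ i, BlowUp.IsEffCartierIdeal (C i) := fun i =>
    haveI := hCi i; isEffCartier_curve k hdim hreg (C i) (hCd i)
  have hCne : ∀ i, C i ≠ ⊤ := fun i h => by
    have := hCd i
    rw [h, dim_support_top] at this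
    exact absurd this (by simp)
  obtain ⟨e, E, hE, hFE, hEC⟩ := exists_decomp C hCe hCne Z hZ
  refine ⟨e, ?_⟩
  have hEtop : E = ⊤ := by
    by_contra hEne
    obtain ⟨D, hDi, hD, hle⟩ := exists_curve_le k hdim hE hEne
    haveI := hDi
    have hgen : genC D ∈ (Z.support : Set X) := by
      rw [hFE, Scheme.IdealSheafData.support_mul]
      exact Or.inr (Scheme.IdealSheafData.support_antitone hle (genC_mem (C := D)))
    obtain ⟨i, hi⟩ := Set.mem_iUnion.1 (hZs hgen)
    haveI := hCi i
    have hDC : D = C i := by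
      by_contra h
      exact genC_notMem k hD (hCd i) h hi
    exact hEC i (hDC ▸ hle)
  rwa [hEtop, mul_top_ideal] at hFE

/-- The fundamental cycle of a connected configuration contains every curve. -/
theorem fundamental_le_curve (hC : Function.Injective C) {Z₀ : X.IdealSheafData}
    (hZ₀ : BlowUp.IsEffCartierIdeal Z₀) (hne : Z₀ ≠ ⊤) (hZ₀s : (Z₀.support : Set X) ⊆ ⋃ i, ((C i).support : Set X))
    (hconn : ∀ S : Finset (Fin r), S.Nonempty → Sᶜ.Nonempty →
      ∃ i ∈ S, ∃ j ∈ Sᶜ, dot k (ClSub.idealMod (C i)) (ClSub.idealMod (C j)) ≠ 0)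
    (hnef : ∀ i, 0 ≤ degOn k (ClSub.quotMod (C i)) (ClSub.idealMod Z₀)) (j : Fin r) : Z₀ ≤ C j := by
  classical
  by_contra hj
  let S : Finset (Fin r) := Finset.univ.filter fun i => Z₀ ≤ C i
  have hS : S.Nonempty := by
    obtain ⟨D, hDi, hD, hle⟩ := exists_curve_le k hdim hZ₀ hne
    haveI := hDi
    obtain ⟨i, hi⟩ := Set.mem_iUnion.1 (hZ₀s ((le_curve_iff D).1 hle))
    haveI := hCi i
    have hDC : D = C i := by
      by_contra h
      exact genC_notMem k hD (hCd i) h hi
    exact ⟨i, Finset.mem_filter.2 ⟨Finset.mem_univ _, hDC ▸ hle⟩⟩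
  obtain ⟨a, ha, b, hb, hab⟩ := hconn S hS ⟨j, Finset.mem_compl.2 fun h => hj (Finset.mem_filter.1 h).2⟩
  haveI := hCi a
  haveI := hCi b
  have haC : Z₀ ≤ C a := (Finset.mem_filter.1 ha).2
  have hbC : ¬ Z₀ ≤ C b := fun h => Finset.mem_compl.1 hb (Finset.mem_filter.2 ⟨Finset.mem_univ _, h⟩)
  have hne' : b ≠ a := fun h => hbC (h ▸ haC)
  have hd := hdim.le
  have iC := fun i => haveI := hCi i; isInvertible_curve k hdim hreg (C i) (hCd i)
  obtain ⟨Z', hZ', he, hlt⟩ := exists_peel k hdim hreg hZ₀ (C a) (hCd a) haC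
  have iZ' := ArSurfX.isInvertible_idealMod hZ'
  have h1 := dot_curves_nonneg k hdim hreg C hCi hCd hC b a hne'
  rw [dot_comm k hd (iC a) (iC b)] at hab
  have h2 := degOn_curve_ideal_nonpos k (C b) (hCd b) (F := Z') iZ' fun hg =>
    hbC (hlt.le.trans ((le_curve_iff (C b)).2 hg))
  have h3 := hnef b
  have hA := isEffCartier_curve k hdim hreg (C a) (hCd a)
  have h4 : dot k (ClSub.idealMod (C b)) (ClSub.idealMod Z₀) =
      dot k (ClSub.idealMod (C b)) (ClSub.idealMod (C a)) + dot k (ClSub.idealMod (C b)) (ClSub.idealMod Z') := by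
    rw [he, dot_idealMod_mul k hd (iC b) hA hZ']
  have h5 := dot_ideal_left k hd (C b) (iC b) iZ'
  have h6 := dot_ideal_left k hd (C b) (iC b) (ArSurfX.isInvertible_idealMod hZ₀)
  omega

/-- A configuration whose fundamental cycle has genus `0` is rational. -/
theorem subsingleton_h1_of_fundamental (hC : Function.Injective C) {Z₀ : X.IdealSheafData}
    (hZ₀ : BlowUp.IsEffCartierIdeal Z₀) (hZ₀C : ∀ i, Z₀ ≤ C i)
    (hnef : ∀ i, 0 ≤ degOn k (ClSub.quotMod (C i)) (ClSub.idealMod Z₀))
    (hZ₀s : (Z₀.support : Set X) ⊆ ⋃ i, ((C i).support : Set X))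
    (h0 : Subsingleton (Coh.HH X (ClSub.quotMod Z₀) 1))
    {Z : X.IdealSheafData} (hZ : BlowUp.IsEffCartierIdeal Z)
    (hZs : (Z.support : Set X) ⊆ ⋃ i, ((C i).support : Set X)) :
    Subsingleton (Coh.HH X (ClSub.quotMod Z) 1) := by
  classical
  haveI := noeth k (X := X)
  have hd := hdim.le
  have hpow : ∀ m : ℕ, Subsingleton (Coh.HH X (ClSub.quotMod (Z₀ ^ m)) 1) := by
    intro m
    induction m with
    | zero =>
      rw [pow_zero]
      exact Euler.subsingleton_HH_of_isZero (CurveCohLib.isZero_of_subsingleton_stalks fun x =>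
        ParShLib.subsingleton_stalk_quotMod ⊤ (fun hx => by rw [Scheme.IdealSheafData.support_top] at hx; exact hx)) 1
    | succ m ih =>
      have hm := isEffCartier_pow hZ₀ m
      have iM := ArSurfX.isInvertible_idealMod hm
      obtain ⟨i, q, w, hS, -⟩ := exists_residual hm hZ₀
      rw [pow_succ]
      refine QCoh.subsingleton_HH_X₂ hS 1 (subsingleton_h1_nef k hdim hreg hZ₀
        (fun Z' J h1 _ _ h4 => subsingleton_h1_of_le k hdim hZ₀ h1 (h4 ▸ mul_le_left' Z' J) h0) iM ?_) ih
      intro D hDi hD hle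
      haveI := hDi
      obtain ⟨i, hi⟩ := Set.mem_iUnion.1 (hZ₀s ((le_curve_iff D).1 hle))
      haveI := hCi i
      have hDC : D = C i := by
        by_contra h
        exact genC_notMem k hD (hCd i) h hi
      subst hDC
      have iC := isInvertible_curve k hdim hreg (C i) (hCd i)
      have h1 := dot_ideal_left k hd (C i) iC iM
      have h2 := dot_ideal_left k hd (C i) iC (ArSurfX.isInvertible_idealMod hZ₀)
      rw [dot_idealMod_pow k hd iC hZ₀, h2] at h1
      nlinarith [hnef i, Int.natCast_nonneg m]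
  obtain ⟨e, he⟩ := exists_decomp_config k hdim hreg C hCi hCd hZ hZs
  have hle : Z₀ ^ (∑ i, e i) ≤ Z := by
    rw [he, ← Finset.prod_pow_eq_pow_sum]
    exact prod_le_prod_ideal _ fun i _ => pow_le_pow_ideal (hZ₀C i) _
  exact subsingleton_h1_of_le k hdim (isEffCartier_pow hZ₀ _) hZ hle (hpow _)

end Groth.Agent.SurfInt
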