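import Groth.Agent.SurfInt.NumConnApps
import Groth.Agent.CurveVA.Vanish

/-! `H¹(Z, O_Z) = 0` on configurations of rational curves. -/

noncomputable section

set_option linter.style.haveILetI false
set_option linter.unusedSectionVars false
set_option backward.isDefEq.respectTransparency false
set_option backward.isDefEq.respectTransparency.types false

universe u

open CategoryTheory CategoryTheory.Limits AlgebraicGeometry TopologicalSpace Opposite

namespace Groth.Agent.SurfInt

open Groth.Agent
open Groth.Agent.PnCoh.Finite (mapLin)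

variable (k : Type u) [Field k] [IsAlgClosed k] {X : Scheme.{u}} [X.Over (Spec (CommRingCat.of k))]
  [IsProper (X ↘ Spec (CommRingCat.of k))] [IsIntegral X]

theorem subsingleton_h1_twist (C : X.IdealSheafData) [IsIntegral C.subscheme]
    (hC : topologicalKrullDim (C.support : Set X) = 1) (hg : Subsingleton (Coh.HH X (ClSub.quotMod C) 1))
    {M : X.Modules} (hM : PicF.IsInvertible M) (hdeg : -1 ≤ degOn k (ClSub.quotMod C) M) :
    Subsingleton (Coh.HH X (CohB1.tensorMod (ClSub.quotMod C) M) 1) := by
  letI := overComp k C.subschemeι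
  haveI := isProper_comp k C.subschemeι rfl
  haveI := noeth k (X := C.subscheme)
  haveI := noeth k (X := X)
  have hd1 : topologicalKrullDim C.subscheme = 1 := (dim_subscheme C).trans hC
  have hg0 : Curv2.genus k C.subscheme = 0 := by
    obtain ⟨e⟩ := QCoh.HH_push_linear C.subschemeι (Coh.toGlobal (X ↘ Spec (CommRingCat.of k)))
      (Coh.toGlobal (C.subscheme ↘ Spec (CommRingCat.of k))) (fun a => rfl)
      (StMod.isQCoh_structureModule C.subscheme) 1
    exact e.finrank_eq.trans (@Module.finrank_zero_of_subsingleton k (Coh.HH X (ClSub.quotMod C) 1) _ _ _ _ hg)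
  have hMi := PicClLib.isInvertible_pullback C.subschemeι hM
  haveI := CurveVA.subsingleton_h1_of_deg k hd1 (Adj.finrank_h0_integral k C.subscheme) hMi (by
    rw [hg0, ← degOn_push k C.subschemeι rfl hM]
    simpa using hdeg)
  have h := finrank_twist_curve k C hM 1
  rw [Module.finrank_zero_of_subsingleton (M := Coh.HH C.subscheme ((Scheme.Modules.pullback C.subschemeι).obj M) 1),
    ← finrank_congr k (H23.PicMul.comm (ClSub.quotMod C) M).some 1] at h
  haveI := finite_twist_quot k C hM 1
  exact Module.finrank_zero_iff.1 h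

include k in
theorem subsingleton_h1_residual {A B : X.IdealSheafData} (hA : BlowUp.IsEffCartierIdeal A)
    (hB : BlowUp.IsEffCartierIdeal B)
    (h1 : Subsingleton (Coh.HH X (CohB1.tensorMod (ClSub.quotMod B) (ClSub.idealMod A)) 1))
    (h2 : Subsingleton (Coh.HH X (ClSub.quotMod A) 1)) : Subsingleton (Coh.HH X (ClSub.quotMod (A * B)) 1) := by
  obtain ⟨i, q, w, hS, -⟩ := exists_residual hA hB
  refine subsingleton_of_forall_eq 0 fun z => ?_
  have hk : LinearMap.ker (mapLin k q 1) = LinearMap.range (mapLin k i 1) :=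
    CurveCohLib.ker_mapLin_g (A := k) hS 1
  have hz : z ∈ LinearMap.ker (mapLin k q 1) := LinearMap.mem_ker.2 (Subsingleton.elim _ _)
  rw [hk] at hz
  obtain ⟨y, rfl⟩ := hz
  rw [show y = 0 from Subsingleton.elim _ _, map_zero]

variable (hdim : topologicalKrullDim X = 2) (hreg : ∀ x : X, IsRegularLocalRing (X.presheaf.stalk x))
  {r : ℕ} (C : Fin r → X.IdealSheafData) (hC : Function.Injective C)
  (hCi : ∀ i, IsIntegral (C i).subscheme) (hCd : ∀ i, topologicalKrullDim ((C i).support : Set X) = 1)
  (hCrat : ∀ i, Subsingleton (Coh.HH X (ClSub.quotMod (C i)) 1))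
  (hC2 : ∀ i, dot k (ClSub.idealMod (C i)) (ClSub.idealMod (C i)) = -2)
  (hneg : ∀ a : Fin r → ℤ, a ≠ 0 →
    ∑ i, ∑ j, a i * a j * dot k (ClSub.idealMod (C i)) (ClSub.idealMod (C j)) < 0)

include hdim hreg hC hCi hCd hCrat hC2 hneg

theorem subsingleton_h1_config {Z : X.IdealSheafData} (hZ : BlowUp.IsEffCartierIdeal Z)
    (hZs : (Z.support : Set X) ⊆ ⋃ i, ((C i).support : Set X)) :
    Subsingleton (Coh.HH X (ClSub.quotMod Z) 1) := by
  classical
  have hd := hdim.le
  haveI := noeth k (X := X)
  haveI := wellFoundedGT_ideals (X := X)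
  have hCe : ∀ i, BlowUp.IsEffCartierIdeal (C i) := fun i =>
    haveI := hCi i; isEffCartier_curve k hdim hreg (C i) (hCd i)
  have hCne : ∀ i, C i ≠ ⊤ := fun i h => by
    have := hCd i
    rw [h, dim_support_top] at this
    exact absurd this (by simp)
  have iC := fun i => ArSurfX.isInvertible_idealMod (hCe i)
  induction Z using WellFoundedGT.induction with
  | ind Z ih =>
    by_cases hne : Z = ⊤
    · subst hne
      exact Euler.subsingleton_HH_of_isZero (CurveCohLib.isZero_of_subsingleton_stalks fun x =>
        ParShLib.subsingleton_stalk_quotMod ⊤ (fun hx => by rw [Scheme.IdealSheafData.support_top] at hx; exact hx)) 1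
    obtain ⟨e, E, hE, hFE, hEC⟩ := exists_decomp C hCe hCne Z hZ
    have hEtop : E = ⊤ := by
      by_contra hEne
      obtain ⟨D, hDi, hD, hle⟩ := exists_curve_le k hdim hE hEne
      haveI := hDi
      have hgen : genC D ∈ (Z.support : Set X) := by
        rw [hFE, Scheme.IdealSheafData.support_mul]
        exact Or.inr (Scheme.IdealSheafData.support_antitone hle (genC_mem (C := D)))
      obtain ⟨i, hi⟩ := Set.mem_iUnion.1 (hZs hgen)
      haveI := hCi i
      have hDC : D = C i := by
        by_contra h
        exact genC_notMem k hD (hCd i) h hi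
      exact hEC i (hDC ▸ hle)
    rw [hEtop, mul_top_ideal] at hFE
    have iZ := ArSurfX.isInvertible_idealMod hZ
    have hrow : ∀ i, dot k (ClSub.idealMod (C i)) (ClSub.idealMod Z) =
        ∑ j, (e j : ℤ) * dot k (ClSub.idealMod (C i)) (ClSub.idealMod (C j)) := fun i => by
      rw [hFE, dot_idealMod_prod k hd (iC i) _ _ hCe e]
    obtain ⟨i, hei, hi⟩ : ∃ i, 0 < e i ∧ dot k (ClSub.idealMod (C i)) (ClSub.idealMod Z) < 0 := by
      by_contra hcon
      push Not at hcon
      have he0 : (fun i => (e i : ℤ)) ≠ 0 := fun h0 => by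
        refine hne (hFE.trans (Finset.prod_eq_one fun i _ => ?_))
        rw [show e i = 0 from Int.natCast_eq_zero.1 (congrFun h0 i), pow_zero]
      have h := hneg _ he0
      have h' : 0 ≤ ∑ i, ∑ j, (e i : ℤ) * e j * dot k (ClSub.idealMod (C i)) (ClSub.idealMod (C j)) :=
        Finset.sum_nonneg fun i _ => by
          simp only [mul_assoc, ← Finset.mul_sum]
          rw [← hrow]
          rcases Nat.eq_zero_or_pos (e i) with h0 | h0
          · rw [h0]; simp
          · exact mul_nonneg (Int.natCast_nonneg _) (hcon i h0)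
      omega
    haveI := hCi i
    have hle : Z ≤ C i := by
      rw [hFE, ← Finset.mul_prod_erase _ _ (Finset.mem_univ i),
        show C i ^ e i = C i * C i ^ (e i - 1) by rw [← pow_succ']; congr 1; omega, mul_assoc]
      exact mul_le_left' _ _
    obtain ⟨Z', hZ', he, hlt⟩ := exists_peel k hdim hreg hZ (C i) (hCd i) hle
    have iZ' := ArSurfX.isInvertible_idealMod hZ'
    have hsub : (Z'.support : Set X) ⊆ ⋃ i, ((C i).support : Set X) :=
      Set.Subset.trans (Scheme.IdealSheafData.support_antitone hlt.le) hZs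
    rw [he, mul_comm]
    refine subsingleton_h1_residual k hZ' (hCe i) (subsingleton_h1_twist k (C i) (hCd i) (hCrat i) iZ' ?_)
      (ih Z' hlt hZ' hsub)
    have h1 : dot k (ClSub.idealMod (C i)) (ClSub.idealMod Z) =
        dot k (ClSub.idealMod (C i)) (ClSub.idealMod (C i)) + dot k (ClSub.idealMod (C i)) (ClSub.idealMod Z') := by
      rw [he, dot_idealMod_mul k hd (iC i) (hCe i) hZ']
    rw [hC2 i] at h1
    have h2 := dot_ideal_left k hd (C i) (iC i) iZ'
    omega

end Groth.Agent.SurfInt
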