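import Groth.Agent.SurfInt.Lattice
import Mathlib.Analysis.Normed.Group.Basic

/-! The positive cone and the ample cone of a surface. -/

noncomputable section

set_option linter.style.haveILetI false
set_option linter.unusedSectionVars false
set_option backward.isDefEq.respectTransparency false
set_option backward.isDefEq.respectTransparency.types false

universe u

open CategoryTheory CategoryTheory.Limits AlgebraicGeometry TopologicalSpace Opposite

namespace Groth.Agent.SurfInt

open Groth.Agent
open scoped Groth.Agent.H23.PicMul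

variable {k : Type u} [Field k] {X : Scheme.{u}} [X.Over (Spec (CommRingCat.of k))] [PicGrp.Law X]
  [Module.Finite ℝ (NumR.N1R k X)] [IsProper (X ↘ Spec (CommRingCat.of k))] [AlgebraicGeometry.IsIntegral X]
  (hdim : topologicalKrullDim X = 2)
  {B : NumR.N1R k X →ₗ[ℝ] NumR.N1R k X →ₗ[ℝ] ℝ} (hB : NumR.IsIntForm₂ k X B)
  {H : X.Modules} (hH : CohB1.IsAmple H)

include hdim hB hH

/-- A class of positive square does not pair to zero with an ample one. -/
theorem form_ne_zero {x : NumR.N1R k X} (hx : 0 < B x x) : B x (NumR.clR k X H hH.1) ≠ 0 := fun h0 => by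
  have h1 := hodge_inequality hdim hB hH x
  rw [h0] at h1
  have := form_self_pos hdim hB hH
  nlinarith

theorem form_pos_of_pos {x y : NumR.N1R k X} (hx : x ∈ NumR.posCone k X B H hH.1) (hy : 0 ≤ B y y)
    (hyh : 0 < B y (NumR.clR k X H hH.1)) : 0 < B x y := by
  obtain ⟨hxx, hxh⟩ := hx
  set h := NumR.clR k X H hH.1
  have hhh := form_self_pos hdim hB hH
  have h1 := hodge_inequality hdim hB hH (B x h • y - B y h • x)
  have hw : B (B x h • y - B y h • x) h = 0 := by
    simp only [map_sub, map_smul, LinearMap.sub_apply, LinearMap.smul_apply, smul_eq_mul]; ring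
  rw [hw] at h1
  simp only [map_sub, map_smul, LinearMap.sub_apply, LinearMap.smul_apply, smul_eq_mul, form_comm hdim hB y x] at h1
  set p := B x h
  set q := B y h
  by_contra hneg
  push Not at hneg
  have h2 : p * p * B y y - 2 * p * q * B x y + q * q * B x x ≤ 0 := nonpos_of_mul_nonpos_right (a := B h h)
    (by rw [mul_comm]; nlinarith) hhh
  nlinarith [mul_pos (mul_pos hyh hyh) hxx, mul_nonneg (mul_nonneg hxh.le hxh.le) hy,
    mul_nonneg (mul_nonneg hxh.le hyh.le) (neg_nonneg.2 hneg)]

theorem isOpen_posCone : IsOpen (NumR.posCone k X B H hH.1) :=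
  (isOpen_lt continuous_const (continuous_quad B)).inter (isOpen_lt continuous_const (continuous_left B _))

theorem convex_posCone : Convex ℝ (NumR.posCone k X B H hH.1) := by
  intro x hx y hy a b ha hb hab
  have hxy := form_pos_of_pos hdim hB hH hx hy.1.le hy.2
  obtain ⟨hxx, hxh⟩ := hx
  obtain ⟨hyy, hyh⟩ := hy
  refine ⟨?_, ?_⟩
  · simp only [map_add, map_smul, LinearMap.add_apply, LinearMap.smul_apply, smul_eq_mul, form_comm hdim hB y x]
    rcases eq_or_lt_of_le ha with rfl | ha'
    · obtain rfl : b = 1 := by linarith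
      simpa using hyy
    · nlinarith [mul_pos (mul_pos ha' ha') hxx, mul_nonneg (mul_nonneg ha hb) hxy.le, mul_nonneg (mul_nonneg hb hb) hyy.le]
  · simp only [map_add, map_smul, LinearMap.add_apply, LinearMap.smul_apply, smul_eq_mul]
    rcases eq_or_lt_of_le ha with rfl | ha'
    · obtain rfl : b = 1 := by linarith
      simpa using hyh
    · nlinarith [mul_pos ha' hxh, mul_nonneg hb hyh.le]

variable (hreg : ∀ x : X, IsRegularLocalRing (X.presheaf.stalk x))

include hreg

theorem eq_zero_of_orthogonal_pos {x y : NumR.N1R k X} (hx : 0 < B x x) (hy : 0 ≤ B y y) (hxy : B x y = 0) :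
    y = 0 := by
  set h := NumR.clR k X H hH.1
  have hp : B x h ≠ 0 := form_ne_zero hdim hB hH hx
  have hw := eq_zero_of_orthogonal hdim hB hH hreg (B x h • y - B y h • x)
    (by simp only [map_sub, map_smul, LinearMap.sub_apply, LinearMap.smul_apply, smul_eq_mul]; ring)
    (by
      simp only [map_sub, map_smul, LinearMap.sub_apply, LinearMap.smul_apply, smul_eq_mul, form_comm hdim hB y x, hxy]
      nlinarith [mul_nonneg (sq_nonneg (B x h)) hy, mul_nonneg (sq_nonneg (B y h)) hx.le])
  have h2 := congrArg (fun z => B x z) hw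
  simp only [map_sub, map_smul, smul_eq_mul, hxy, mul_zero, zero_sub, map_zero, neg_eq_zero] at h2
  rw [(mul_eq_zero.1 h2).resolve_right hx.ne', zero_smul, sub_zero] at hw
  exact (smul_eq_zero.1 hw).resolve_left hp

omit hreg

/-- Fewer curves with negative definite intersection matrix than the Picard number. -/
theorem card_lt_finrank {r : ℕ} (A : Fin r → X.Modules) (hA : ∀ i, PicF.IsInvertible (A i))
    (hneg : ∀ a : Fin r → ℤ, a ≠ 0 → ∑ i, ∑ j, a i * a j * dot k (A i) (A j) < 0) :
    r + 1 ≤ Module.finrank ℝ (NumR.N1R k X) := by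
  classical
  let v : Fin r → NumR.N1R k X := fun i => NumR.clR k X (A i) (hA i)
  let G : Matrix (Fin r) (Fin r) ℤ := .of fun i j => dot k (A i) (A j)
  have hG : G.det ≠ 0 := fun h0 => by
    obtain ⟨a, ha, hGa⟩ := Matrix.exists_mulVec_eq_zero_iff.2 h0
    refine (hneg a ha).ne ?_
    refine Finset.sum_eq_zero fun i _ => ?_
    have hi : ∑ j, dot k (A i) (A j) * a j = 0 := congrFun hGa i
    calc ∑ j, a i * a j * dot k (A i) (A j) = a i * ∑ j, dot k (A i) (A j) * a j := by
          rw [Finset.mul_sum]; exact Finset.sum_congr rfl fun j _ => by ring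
      _ = 0 := by rw [hi, mul_zero]
  have hB' : ∀ c d : Fin r → ℝ, B (∑ i, c i • v i) (∑ j, d j • v j) = ∑ i, ∑ j, c i * d j * (dot k (A i) (A j) : ℝ) := by
    intro c d
    simp only [map_sum, map_smul, LinearMap.sum_apply, LinearMap.smul_apply, smul_eq_mul, v, Finset.mul_sum]
    rw [Finset.sum_comm]
    refine Finset.sum_congr rfl fun i _ => Finset.sum_congr rfl fun j _ => ?_
    rw [hB]
    ring
  have hli : LinearIndependent ℝ v := by
    rw [Fintype.linearIndependent_iff]
    intro c hc
    have hGR : (G.map (Int.cast : ℤ → ℝ)).det ≠ 0 := by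
      rw [show (G.map (Int.cast : ℤ → ℝ)) = (Int.castRingHom ℝ).mapMatrix G from rfl, ← RingHom.map_det]
      simpa using hG
    have h0 : (G.map (Int.cast : ℤ → ℝ)).transpose.mulVec c = 0 := funext fun j => by
      have h1 := hB' c (fun l => if l = j then 1 else 0)
      rw [hc, map_zero, LinearMap.zero_apply] at h1
      simp only [mul_ite, mul_one, mul_zero, ite_mul, zero_mul, Finset.sum_ite_eq', Finset.mem_univ, if_true] at h1
      rw [Pi.zero_apply, h1]
      simp only [Matrix.mulVec, dotProduct, Matrix.transpose_apply, Matrix.map_apply, G, Matrix.of_apply]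
      exact Finset.sum_congr rfl fun i _ => mul_comm _ _
    have := Matrix.eq_zero_of_mulVec_eq_zero (by rwa [Matrix.det_transpose]) h0
    exact fun i => congrFun this i
  have hle : ∀ c : Fin r → ℝ, B (∑ i, c i • v i) (∑ i, c i • v i) ≤ 0 := by
    refine nonpos_of_int _ ((continuous_quad B).comp (continuous_finsetSum _ fun i _ => (continuous_apply i).smul (continuous_const (y := v i))))
      (fun t c => ?_) fun a => ?_
    · simp only [Pi.smul_apply, smul_eq_mul, mul_smul, ← Finset.smul_sum, map_smul, LinearMap.smul_apply]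
      ring
    · show B (∑ i, ((a i : ℝ)) • v i) (∑ i, ((a i : ℝ)) • v i) ≤ 0
      rw [hB']
      by_cases ha : a = 0
      · subst ha; simp
      · have := (hneg a ha).le
        exact_mod_cast this
  let w : Option (Fin r) → NumR.N1R k X := fun o => o.elim (NumR.clR k X H hH.1) v
  have hw : LinearIndependent ℝ w := linearIndependent_option.2 ⟨hli, fun hmem => by
    obtain ⟨c, hc⟩ := (Submodule.mem_span_range_iff_exists_fun ℝ).1 hmem
    have h1 := hle c
    simp only [w, Function.comp_def, Option.elim] at hc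
    rw [hc] at h1
    exact absurd h1 (not_le.2 (form_self_pos hdim hB hH))⟩
  have := hw.fintype_card_le_finrank
  simpa using this

end Groth.Agent.SurfInt

namespace Groth.Agent.SurfInt

open Groth.Agent
open scoped Groth.Agent.H23.PicMul

section Cone

variable {k : Type u} [Field k] {X : Scheme.{u}} [X.Over (Spec (CommRingCat.of k))] [PicGrp.Law X]

theorem clR_pow_tensor {A L : X.Modules} (hA : PicF.IsInvertible A) (hL : PicF.IsInvertible L) (m : ℕ)
    (h : PicF.IsInvertible (CohB1.tensorMod (CohB1.tensorPow A m) L)) :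
    NumR.clR k X (CohB1.tensorMod (CohB1.tensorPow A m) L) h = (m : ℝ) • NumR.clR k X A hA + NumR.clR k X L hL := by
  have h1 : PicGrp.cls _ h = PicGrp.cls A hA ^ m * PicGrp.cls L hL := Subtype.ext (by
    rw [PicGrp.mul_val, PicGrp.cls_pow_val]; rfl)
  rw [NumR.clR, NumR.clR, NumR.clR, NumR.cl, h1, ofMul_mul, ofMul_pow, map_add, map_nsmul, map_add, map_nsmul,
    Nat.cast_smul_eq_nsmul ℝ]
  rfl

/-- Adding non-negative multiples of elements of a convex cone stays in the cone. -/
theorem add_sum_mem {E ι : Type*} [AddCommGroup E] [Module ℝ E] (C : ConvexCone ℝ E) {z : E} (hz : z ∈ C)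
    (s : Finset ι) (c : ι → ℝ) (w : ι → E) (hc : ∀ i, 0 ≤ c i) (hw : ∀ i, w i ∈ C) :
    z + ∑ i ∈ s, c i • w i ∈ C := by
  classical
  induction s using Finset.induction_on with
  | empty => simpa using hz
  | insert a t ha ih =>
    rw [Finset.sum_insert ha, add_left_comm]
    rcases eq_or_lt_of_le (hc a) with h0 | h0
    · rwa [← h0, zero_smul, zero_add]
    · exact C.add_mem (C.smul_mem h0 (hw a)) ih

variable [Module.Finite ℝ (NumR.N1R k X)] [IsProper (X ↘ Spec (CommRingCat.of k))]

theorem mem_interior_ampleCone {A : X.Modules} (hA : CohB1.IsAmple A) :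
    NumR.clR k X A hA.1 ∈ interior (NumR.ampleCone k X : Set (NumR.N1R k X)) := by
  haveI := noeth k (X := X)
  haveI : X.IsSeparated := ⟨by
    rw [← Limits.terminal.comp_from (X ↘ Spec (CommRingCat.of k))]
    infer_instance⟩
  set a := NumR.clR k X A hA.1
  obtain ⟨n, e, he⟩ := exists_spanning (k := k) (X := X)
  choose L hL hLe using fun i => exists_clR (k := k) (X := X) (e i)
  choose M hM hMe using fun i => exists_clR (k := k) (X := X) (-(e i))
  choose p hp hp' using fun i => AmpleX.eventually_ample_tensor hA (hL i)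
  choose q hq hq' using fun i => AmpleX.eventually_ample_tensor hA (hM i)
  set m : ℕ := Finset.univ.sup p + Finset.univ.sup q + 1 with hm
  have hm0 : (0 : ℝ) < m := by rw [hm]; push_cast; positivity
  have hmem : ∀ (N : X.Modules) (hN : PicF.IsInvertible N), CohB1.IsAmple N → NumR.clR k X N hN ∈ NumR.ampleCone k X :=
    fun N hN h => ConvexCone.subset_hull ⟨N, hN, h, rfl⟩
  have hC1 : ∀ i, (m : ℝ) • a + NumR.toN1R k X (e i) ∈ NumR.ampleCone k X := fun i => by
    have h1 := (hp' i m (by have := Finset.le_sup (f := p) (Finset.mem_univ i); omega)).1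
    rw [hLe, ← clR_pow_tensor hA.1 (hL i) m h1.1]
    exact hmem _ _ h1
  have hC2 : ∀ i, (m : ℝ) • a - NumR.toN1R k X (e i) ∈ NumR.ampleCone k X := fun i => by
    have h1 := (hq' i m (by have := Finset.le_sup (f := q) (Finset.mem_univ i); omega)).1
    rw [sub_eq_add_neg, ← map_neg, hMe, ← clR_pow_tensor hA.1 (hM i) m h1.1]
    exact hmem _ _ h1
  let Φ := Fintype.linearCombination ℝ fun i => NumR.toN1R k X (e i)
  have hΦ : IsOpenMap Φ := IsModuleTopology.isOpenMap_of_surjective he
  let U : Set (Fin n → ℝ) := {t | (m : ℝ) * ∑ i, |t i| < 1}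
  have hU : IsOpen U := isOpen_lt (continuous_const.mul (continuous_finsetSum _ fun i _ => (continuous_apply i).abs))
    continuous_const
  refine mem_interior.2 ⟨(fun z => a + z) '' (Φ '' U), ?_, (Homeomorph.addLeft a).isOpenMap _ (hΦ U hU), Φ 0,
    ⟨0, by simp [U], rfl⟩, by simp⟩
  rintro _ ⟨_, ⟨t, ht, rfl⟩, rfl⟩
  have key : a + Φ t = (1 - (m : ℝ) * ∑ i, |t i|) • a +
      ∑ i, |t i| • ((m : ℝ) • a + (if 0 ≤ t i then NumR.toN1R k X (e i) else - NumR.toN1R k X (e i))) := by
    simp only [smul_add, Finset.sum_add_distrib, smul_smul, ← Finset.sum_smul, sub_smul, one_smul]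
    rw [← Finset.sum_mul, mul_comm _ (m : ℝ)]
    have : ∑ i, |t i| • (if 0 ≤ t i then NumR.toN1R k X (e i) else - NumR.toN1R k X (e i)) = Φ t := by
      rw [Fintype.linearCombination_apply]
      refine Finset.sum_congr rfl fun i _ => ?_
      split_ifs with h
      · rw [abs_of_nonneg h]
      · rw [abs_of_neg (not_le.1 h), smul_neg, neg_smul, neg_neg]
    rw [this]
    abel
  show a + Φ t ∈ NumR.ampleCone k X
  rw [key]
  refine add_sum_mem _ ((NumR.ampleCone k X).smul_mem (sub_pos.2 ht) (hmem A hA.1 hA)) _ _ _ (fun i => abs_nonneg _) fun i => ?_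
  split_ifs
  · exact hC1 i
  · rw [← sub_eq_add_neg]; exact hC2 i

theorem isOpen_ampleCone : IsOpen (NumR.ampleCone k X : Set (NumR.N1R k X)) := by
  set C := NumR.ampleCone k X
  let I : ConvexCone ℝ (NumR.N1R k X) :=
    { carrier := interior (C : Set (NumR.N1R k X))
      smul_mem' := fun c hc x hx => by
        refine mem_interior.2 ⟨(fun z => c • z) '' interior (C : Set (NumR.N1R k X)), ?_,
          (Homeomorph.smulOfNeZero c hc.ne').isOpenMap _ isOpen_interior, x, hx, rfl⟩
        rintro _ ⟨z, hz, rfl⟩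
        exact C.smul_mem hc (interior_subset hz)
      add_mem' := fun x hx y hy => by
        refine mem_interior.2 ⟨(fun z => z + y) '' interior (C : Set (NumR.N1R k X)), ?_,
          (Homeomorph.addRight y).isOpenMap _ isOpen_interior, x, hx, rfl⟩
        rintro _ ⟨z, hz, rfl⟩
        exact C.add_mem (interior_subset hz) (interior_subset hy) }
  have h : C ≤ I := ConvexCone.hull_min (C := I) (by rintro _ ⟨N, hN, h, rfl⟩; exact mem_interior_ampleCone h)
  exact interior_eq_iff_isOpen.1 (Set.Subset.antisymm interior_subset h)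

variable [AlgebraicGeometry.IsIntegral X]

theorem dot_ample_pos (hdim : topologicalKrullDim X = 2) {A H : X.Modules} (hA : CohB1.IsAmple A)
    (hH : CohB1.IsAmple H) : 0 < dot k A H := by
  have hd := hdim.le
  have hAA := dot_self_pos_of_isAmple k hdim hA
  have h0 : dot k A H ≠ 0 := fun h => by
    have := dot_self_nonpos_of_dot_ample k hdim hA.1 hH h
    omega
  refine lt_of_le_of_ne ?_ h0.symm
  obtain ⟨N, hN⟩ := exists_sections_of_pos k hdim hA.1 hA hAA hAA
  obtain ⟨s, hs⟩ := exists_section_ne_zero (hN (N + 1) (Nat.le_succ N))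
  have h1 := dot_section_nonneg k hdim (H23.PicMul.isInvertible_tensorPow hA.1 (N + 1)) hH s hs
  rw [dot_tensorPow_left k hd hA.1 hH.1] at h1
  exact (mul_nonneg_iff_of_pos_left (by positivity)).1 h1

theorem ampleCone_subset_posCone (hdim : topologicalKrullDim X = 2) {B : NumR.N1R k X →ₗ[ℝ] NumR.N1R k X →ₗ[ℝ] ℝ}
    (hB : NumR.IsIntForm₂ k X B) {H : X.Modules} (hH : CohB1.IsAmple H) :
    (NumR.ampleCone k X : Set (NumR.N1R k X)) ⊆ NumR.posCone k X B H hH.1 := by
  let P : ConvexCone ℝ (NumR.N1R k X) :=
    { carrier := NumR.posCone k X B H hH.1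
      smul_mem' := fun c hc x hx => by
        refine ⟨?_, ?_⟩ <;> simp only [map_smul, LinearMap.smul_apply, smul_eq_mul]
        · exact mul_pos hc (mul_pos hc hx.1)
        · exact mul_pos hc hx.2
      add_mem' := fun x hx y hy => by
        have hxy := form_pos_of_pos hdim hB hH hx hy.1.le hy.2
        refine ⟨?_, ?_⟩
        · simp only [map_add, LinearMap.add_apply, form_comm hdim hB y x]
          linarith [hx.1, hy.1]
        · simp only [map_add, LinearMap.add_apply]
          linarith [hx.2, hy.2] }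
  refine ConvexCone.hull_min (C := P) ?_
  rintro _ ⟨N, hN, h, rfl⟩
  refine ⟨?_, ?_⟩
  · rw [hB]; exact Int.cast_pos.2 (dot_self_pos_of_isAmple k hdim h)
  · rw [hB]; exact Int.cast_pos.2 (dot_ample_pos hdim h hH)

end Cone

end Groth.Agent.SurfInt
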