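import Groth.Agent.SurfInt.AmpleCone
import Mathlib.LinearAlgebra.FiniteDimensional.Basic

/-! Ampleness of real divisors is numerical. -/

noncomputable section

set_option linter.style.haveILetI false
set_option linter.unusedSectionVars false
set_option backward.isDefEq.respectTransparency false
set_option backward.isDefEq.respectTransparency.types false

universe u

open CategoryTheory CategoryTheory.Limits AlgebraicGeometry TopologicalSpace Opposite

namespace Groth.Agent.SurfInt

open Groth.Agent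

variable {k : Type u} [Field k] {X : Scheme.{u}} [X.Over (Spec (CommRingCat.of k))]
  [IsProper (X ↘ Spec (CommRingCat.of k))] [IsIntegral X] [PicGrp.Law X]
  {B : NumR.N1R k X →ₗ[ℝ] NumR.N1R k X →ₗ[ℝ] ℝ} (hdim : topologicalKrullDim X = 2) (hB : NumR.IsIntForm₂ k X B)

theorem clR_eq_divClR {L : X.Modules} (hL : PicF.IsInvertible L) {E : NumR.CDiv X}
    (h : Additive.ofMul (PicGrp.cls L hL) = NumR.divCl X E) :
    NumR.divClR k X (NumR.CDiv.toR X E) = NumR.clR k X L hL := by
  rw [NumR.divClR_toR, ← h]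
  rfl

include hB

theorem exists_int_pair (E F : NumR.CDiv X) :
    ∃ z : ℤ, B (NumR.divClR k X (NumR.CDiv.toR X E)) (NumR.divClR k X (NumR.CDiv.toR X F)) = (z : ℝ) := by
  rw [NumR.divClR_toR, NumR.divClR_toR]
  obtain ⟨L, M, hL, hM, -, -, h⟩ := exists_form hB (NumR.toN1 k X (NumR.divCl X E)) (NumR.toN1 k X (NumR.divCl X F))
  exact ⟨_, h⟩

include hdim

theorem form_comm_int (E F : NumR.CDiv X) :
    B (NumR.divClR k X (NumR.CDiv.toR X E)) (NumR.divClR k X (NumR.CDiv.toR X F)) =
      B (NumR.divClR k X (NumR.CDiv.toR X F)) (NumR.divClR k X (NumR.CDiv.toR X E)) := by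
  rw [NumR.divClR_toR, NumR.divClR_toR]
  obtain ⟨L, M, hL, hM, hx, hy, h⟩ := exists_form hB (NumR.toN1 k X (NumR.divCl X E)) (NumR.toN1 k X (NumR.divCl X F))
  rw [hx, hy, hB, hB]
  exact congrArg (fun z : ℤ => (z : ℝ)) (dot_comm k hdim.le hL hM)

variable (hreg : ∀ x : X, IsRegularLocalRing (X.presheaf.stalk x))

include hreg

/-- An ample integral divisor plus a numerically trivial one is ample. -/
theorem exists_ample_add {H : X.Modules} (hH : CohB1.IsAmple H) {E F : NumR.CDiv X}
    (hE : ∃ (L : X.Modules) (hL : PicF.IsInvertible L), CohB1.IsAmple L ∧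
      Additive.ofMul (PicGrp.cls L hL) = NumR.divCl X E)
    (hF : ∀ G, B (NumR.divClR k X (NumR.CDiv.toR X F)) (NumR.divClR k X (NumR.CDiv.toR X G)) = 0) :
    ∃ (L : X.Modules) (hL : PicF.IsInvertible L), CohB1.IsAmple L ∧
      Additive.ofMul (PicGrp.cls L hL) = NumR.divCl X (E + F) := by
  obtain ⟨L, hL, hamp, hLE⟩ := hE
  obtain ⟨P, hP, hc⟩ := PicGrp.exists_eq_cls (NumR.divCl X (E + F)).toMul
  have hPE : Additive.ofMul (PicGrp.cls P hP) = NumR.divCl X (E + F) := by rw [← hc]; rfl
  refine ⟨P, hP, ?_, hPE⟩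
  have e : NumR.clR k X P hP = NumR.clR k X L hL + NumR.divClR k X (NumR.CDiv.toR X F) := by
    rw [← clR_eq_divClR hP hPE, map_add, map_add, clR_eq_divClR hL hLE]
  refine isAmple_of_nakai k hdim hP hH ((Int.cast_pos (R := ℝ)).1 ?_) fun C hCi hC => (Int.cast_pos (R := ℝ)).1 ?_
  · have h1 := hF E
    rw [clR_eq_divClR hL hLE] at h1
    have h2 : B (NumR.clR k X L hL) (NumR.divClR k X (NumR.CDiv.toR X F)) = 0 := by
      rw [← clR_eq_divClR hL hLE, form_comm_int hdim hB, clR_eq_divClR hL hLE, h1]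
    show (0 : ℝ) < (dot k P P : ℝ)
    rw [← show B (NumR.clR k X P hP) (NumR.clR k X P hP) = (dot k P P : ℝ) from hB P P hP hP, e]
    simp only [map_add, LinearMap.add_apply, h1, h2, hF F]
    rw [hB]
    simpa using (Int.cast_pos (R := ℝ)).2 (dot_self_pos_of_isAmple k hdim hamp)
  · haveI := hCi
    have hI := isInvertible_curve k hdim hreg C hC
    have h1 := hF (Finsupp.single (⟨C, hCi, hC, hI⟩ : NumR.Curve X) 1)
    rw [show NumR.divClR k X (NumR.CDiv.toR X (Finsupp.single (⟨C, hCi, hC, hI⟩ : NumR.Curve X) 1)) =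
      NumR.curveCl k X C hI by
        simp [NumR.CDiv.toR, NumR.divClR, Finsupp.linearCombination_single]] at h1
    rw [← form_clR_curveCl hdim hB hP C hI, e, map_add, LinearMap.add_apply, h1, add_zero,
      form_clR_curveCl hdim hB hL C hI]
    exact Int.cast_pos.2 (degOn_ample_pos k C hC hamp)

/-- An ample real divisor plus a real multiple of a numerically trivial integral one is ample. -/
theorem isAmpleRDiv_add {H : X.Modules} (hH : CohB1.IsAmple H) {D : NumR.CDivR X} (hD : NumR.IsAmpleRDiv X D)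
    {F : NumR.CDiv X}
    (hF : ∀ G, B (NumR.divClR k X (NumR.CDiv.toR X F)) (NumR.divClR k X (NumR.CDiv.toR X G)) = 0) (r : ℝ) :
    NumR.IsAmpleRDiv X (D + r • NumR.CDiv.toR X F) := by
  obtain ⟨n, E, t, hn, ht, hE, rfl⟩ := hD
  let i₀ : Fin n := ⟨0, hn⟩
  obtain ⟨N, hN⟩ := exists_nat_gt (|r| / t i₀)
  have hN0 : (0 : ℝ) < N := lt_of_le_of_lt (div_nonneg (abs_nonneg r) (ht i₀).le) hN
  rw [div_lt_iff₀ (ht i₀)] at hN
  rcases eq_or_ne r 0 with rfl | hr
  · exact ⟨n, E, t, hn, ht, hE, by simp⟩
  let σ : ℤ := if 0 < r then N else -N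
  let b : ℝ := |r| / N
  have hb : 0 < b := div_pos (abs_pos.2 hr) hN0
  have hbσ : b * (σ : ℝ) = r := by
    simp only [b, σ]
    split_ifs with h
    · rw [abs_of_pos h]; push_cast; field_simp
    · rw [abs_of_nonpos (not_lt.1 h)]; push_cast; field_simp
  refine ⟨n + 1, Fin.cons (E i₀ + σ • F) E, Fin.cons b (Function.update t i₀ (t i₀ - b)), Nat.succ_pos n,
    fun i => ?pos, fun i => ?amp, ?eq⟩
  case pos =>
    refine Fin.cases ?_ (fun i => ?_) i
    · rw [Fin.cons_zero]; exact hb
    rw [Fin.cons_succ]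
    rcases eq_or_ne i i₀ with rfl | hi
    · rw [Function.update_self, sub_pos, div_lt_iff₀ hN0]
      linarith
    · rw [Function.update_of_ne hi]; exact ht i
  case amp =>
    refine Fin.cases ?_ (fun i => ?_) i
    · rw [Fin.cons_zero]
      refine exists_ample_add hdim hB hreg hH (hE i₀) fun G => ?_
      rw [map_zsmul, map_zsmul, map_zsmul, LinearMap.smul_apply, hF G, smul_zero]
    · rw [Fin.cons_succ]; exact hE i
  case eq =>
    rw [Fin.sum_univ_succ]
    simp only [Fin.cons_zero, Fin.cons_succ, map_add, map_zsmul, smul_add]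
    rw [← Int.cast_smul_eq_zsmul ℝ σ, smul_smul, hbσ]
    have : ∀ i, Function.update t i₀ (t i₀ - b) i • NumR.CDiv.toR X (E i) =
        t i • NumR.CDiv.toR X (E i) - (if i = i₀ then b • NumR.CDiv.toR X (E i) else 0) := fun i => by
      rcases eq_or_ne i i₀ with rfl | hi
      · rw [Function.update_self, if_pos rfl, sub_smul]
      · rw [Function.update_of_ne hi, if_neg hi, sub_zero]
    simp only [this, Finset.sum_sub_distrib, Finset.sum_ite_eq', Finset.mem_univ, if_true]
    abel

omit hdim hreg in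
/-- A numerically trivial real divisor is a real combination of numerically trivial integral divisors. -/
theorem exists_trivial_comb {F : NumR.CDivR X} (hF : NumR.IsNumTrivialRDiv k X B F) :
    ∃ (m : ℕ) (r : Fin m → ℝ) (E : Fin m → NumR.CDiv X), F = ∑ l, r l • NumR.CDiv.toR X (E l) ∧
      ∀ l G, B (NumR.divClR k X (NumR.CDiv.toR X (E l))) (NumR.divClR k X (NumR.CDiv.toR X G)) = 0 := by
  classical
  let S := F.support
  let V : Submodule ℚ ℝ := Submodule.span ℚ (Set.range fun C : S => F C.1)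
  haveI : Module.Finite ℚ V := Module.Finite.span_of_finite ℚ (Set.finite_range _)
  let β := Module.finBasis ℚ V
  let v : S → V := fun C => ⟨F C.1, Submodule.subset_span ⟨C, rfl⟩⟩
  let q : Fin (Module.finrank ℚ V) → S → ℚ := fun l C => β.repr (v C) l
  let N : Fin (Module.finrank ℚ V) → ℕ := fun l => ∏ C : S, (q l C).den
  let z : Fin (Module.finrank ℚ V) → S → ℤ := fun l C =>
    (q l C).num * ((∏ D ∈ Finset.univ.erase C, (q l D).den : ℕ) : ℤ)
  have hz : ∀ l C, ((z l C : ℤ) : ℝ) = (N l : ℝ) * (q l C : ℝ) := fun l C => by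
    have h : ((q l C).den : ℝ) * ((∏ D ∈ Finset.univ.erase C, (q l D).den : ℕ) : ℝ) = (N l : ℝ) := by
      show _ = ((∏ D : S, (q l D).den : ℕ) : ℝ)
      rw [← Finset.mul_prod_erase Finset.univ (fun D => (q l D).den) (Finset.mem_univ C)]
      push_cast
      rfl
    have hd : ((q l C).den : ℝ) ≠ 0 := Nat.cast_ne_zero.2 (q l C).den_pos.ne'
    rw [← h, Rat.cast_def]
    simp only [z]
    push_cast
    field_simp
  have hN : ∀ l, (0 : ℝ) < N l := fun l => Nat.cast_pos.2 (Finset.prod_pos fun C _ => (q l C).den_pos)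
  have hrep : ∀ C : S, F C.1 = ∑ l, (q l C : ℝ) * (β l : ℝ) := fun C => by
    have h := congrArg (Subtype.val) (β.sum_repr (v C))
    rw [AddSubmonoidClass.coe_finset_sum] at h
    exact h.symm.trans (Finset.sum_congr rfl fun l _ => by
      show ((q l C • β l : V) : ℝ) = _
      rw [Submodule.coe_smul, Rat.smul_def])
  let E : Fin (Module.finrank ℚ V) → NumR.CDiv X := fun l => ∑ C : S, Finsupp.single C.1 (z l C)
  have htoR : ∀ l, NumR.CDiv.toR X (E l) = ∑ C : S, Finsupp.single C.1 (z l C : ℝ) := fun l => by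
    simp only [E, map_sum]
    exact Finset.sum_congr rfl fun C _ => by simp [NumR.CDiv.toR]
  refine ⟨_, fun l => (N l : ℝ)⁻¹ * (β l : ℝ), E, ?_, fun l G => ?_⟩
  · conv_lhs => rw [← F.sum_single, Finsupp.sum, ← Finset.sum_coe_sort]
    simp only [htoR, Finset.smul_sum, Finsupp.smul_single, smul_eq_mul]
    rw [Finset.sum_comm]
    refine Finset.sum_congr rfl fun C _ => ?_
    rw [← Finsupp.single_finsetSum, hrep C]
    refine congrArg _ (Finset.sum_congr rfl fun l _ => ?_)
    rw [hz]
    have := (hN l).ne'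
    field_simp
  · choose w hw using fun C : S => exists_int_pair hB (Finsupp.single C.1 1) G
    have hpair : ∀ c : S → ℝ, B (NumR.divClR k X (∑ C : S, Finsupp.single C.1 (c C)))
        (NumR.divClR k X (NumR.CDiv.toR X G)) = ∑ C : S, c C * (w C : ℝ) := fun c => by
      simp only [map_sum, LinearMap.sum_apply]
      refine Finset.sum_congr rfl fun C _ => ?_
      rw [← hw C, show NumR.CDiv.toR X (Finsupp.single C.1 1) = Finsupp.single C.1 (1 : ℝ) by
          simp [NumR.CDiv.toR],
        show Finsupp.single C.1 (c C) = c C • Finsupp.single C.1 (1 : ℝ) by simp, map_smul, map_smul,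
        LinearMap.smul_apply, smul_eq_mul]
    have h0 : ∑ l, (∑ C : S, q l C * (w C : ℚ)) • β l = 0 := by
      refine Subtype.ext ?_
      rw [AddSubmonoidClass.coe_finset_sum, ZeroMemClass.coe_zero]
      have h1 := hF G
      rw [← F.sum_single, Finsupp.sum, ← Finset.sum_coe_sort, hpair fun C => F C.1] at h1
      refine Eq.trans ?_ h1
      simp only [Submodule.coe_smul, Rat.smul_def, Rat.cast_sum, Rat.cast_mul, Rat.cast_intCast, Finset.sum_mul,
        hrep]
      rw [Finset.sum_comm]
      exact Finset.sum_congr rfl fun C _ => Finset.sum_congr rfl fun l _ => by ring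
    rw [htoR, hpair]
    have h2 : ∑ C : S, q l C * (w C : ℚ) = 0 :=
      Fintype.linearIndependent_iff.1 β.linearIndependent _ h0 l
    calc ∑ C : S, (z l C : ℝ) * (w C : ℝ) = (N l : ℝ) * ((∑ C : S, q l C * (w C : ℚ) : ℚ) : ℝ) := by
          rw [Rat.cast_sum, Finset.mul_sum]
          exact Finset.sum_congr rfl fun C _ => by rw [hz]; push_cast; ring
      _ = 0 := by rw [h2, Rat.cast_zero, mul_zero]

/-- Ampleness of real divisors depends only on the numerical class. -/
theorem isAmpleRDiv_congr {H : X.Modules} (hH : CohB1.IsAmple H) {D D' : NumR.CDivR X}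
    (hD : NumR.IsAmpleRDiv X D) (h : NumR.IsNumTrivialRDiv k X B (D' - D)) : NumR.IsAmpleRDiv X D' := by
  classical
  obtain ⟨m, r, E, hsum, hE⟩ := exists_trivial_comb hB h
  have key : ∀ s : Finset (Fin m), NumR.IsAmpleRDiv X (D + ∑ l ∈ s, r l • NumR.CDiv.toR X (E l)) := fun s => by
    induction s using Finset.induction_on with
    | empty => simpa using hD
    | insert a s ha ih =>
      rw [Finset.sum_insert ha, add_comm (r a • _), ← add_assoc]
      exact isAmpleRDiv_add hdim hB hreg hH ih (hE a) (r a)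
  have := key Finset.univ
  rwa [← hsum, add_sub_cancel] at this

end Groth.Agent.SurfInt
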