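import Groth.Agent.SurfInt.AmpleCone
import Groth.Agent.SurfInt.NegDef

/-! Walls of curves and negative definite configurations. -/

noncomputable section

set_option linter.style.haveILetI false
set_option linter.unusedSectionVars false
set_option backward.isDefEq.respectTransparency false
set_option backward.isDefEq.respectTransparency.types false

universe u

open CategoryTheory CategoryTheory.Limits AlgebraicGeometry TopologicalSpace Opposite

namespace Groth.Agent.SurfInt

open Groth.Agent

variable {k : Type u} [Field k] {X : Scheme.{u}} [X.Over (Spec (CommRingCat.of k))]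
  [IsProper (X ↘ Spec (CommRingCat.of k))] [IsIntegral X] [PicGrp.Law X] [Module.Finite ℝ (NumR.N1R k X)]
  (hdim : topologicalKrullDim X = 2)
  {B : NumR.N1R k X →ₗ[ℝ] NumR.N1R k X →ₗ[ℝ] ℝ} (hB : NumR.IsIntForm₂ k X B)
  (hreg : ∀ x : X, IsRegularLocalRing (X.presheaf.stalk x))
  {H : X.Modules} (hH : CohB1.IsAmple H) {r : ℕ} (C : Fin r → X.IdealSheafData) (hC : Function.Injective C)
  (hCi : ∀ i, IsIntegral (C i).subscheme) (hCd : ∀ i, topologicalKrullDim ((C i).support : Set X) = 1)
  (hCinv : ∀ i, PicF.IsInvertible (ClSub.idealMod (C i)))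

include hdim hB hreg hH hC hCi hCd

theorem form_curves (c d : Fin r → ℝ) :
    B (∑ i, c i • NumR.curveCl k X (C i) (hCinv i)) (∑ j, d j • NumR.curveCl k X (C j) (hCinv j)) =
      ∑ i, ∑ j, c i * d j * (dot k (ClSub.idealMod (C i)) (ClSub.idealMod (C j)) : ℝ) := by
  simp only [map_sum, map_smul, LinearMap.sum_apply, LinearMap.smul_apply, smul_eq_mul, Finset.mul_sum]
  rw [Finset.sum_comm]
  refine Finset.sum_congr rfl fun i _ => Finset.sum_congr rfl fun j _ => ?_
  show d j * (c i * B (-NumR.clR k X _ (hCinv i)) (-NumR.clR k X _ (hCinv j))) = _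
  rw [map_neg, map_neg, LinearMap.neg_apply, neg_neg, hB]
  show d j * (c i * (dot k (ClSub.idealMod (C i)) (ClSub.idealMod (C j)) : ℝ)) = _
  ring

/-- Curves on whose walls a positive nef class lies span a negative definite lattice. -/
theorem negDef_of_wall {x : NumR.N1R k X} (hx : 0 < B x x) (hxC : ∀ i, x ∈ NumR.wall k X B (C i) (hCinv i))
    (a : Fin r → ℤ) (ha : a ≠ 0) :
    ∑ i, ∑ j, a i * a j * dot k (ClSub.idealMod (C i)) (ClSub.idealMod (C j)) < 0 := by
  let u : (Fin r → ℤ) → NumR.N1R k X := fun b => ∑ i, (b i : ℝ) • NumR.curveCl k X (C i) (hCinv i)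
  have horth : ∀ b, B x (u b) = 0 := fun b => by
    simp only [u, map_sum, map_smul, smul_eq_mul]
    exact Finset.sum_eq_zero fun i _ => by rw [show B x (NumR.curveCl k X (C i) (hCinv i)) = 0 from hxC i, mul_zero]
  have hsq : ∀ b c, B (u b) (u c) = ((mform (fun i j => dot k (ClSub.idealMod (C i)) (ClSub.idealMod (C j))) b c : ℤ) : ℝ) :=
    fun b c => by
      rw [form_curves hdim hB hreg hH C hC hCi hCd hCinv]
      simp only [mform]
      push_cast
      rfl
  by_contra hneg
  push Not at hneg
  have h0 : u a = 0 := eq_zero_of_orthogonal_pos hdim hB hH hreg hx (by rw [hsq]; exact Int.cast_nonneg hneg) (horth a)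
  have hdec : u (pp a) = u (np a) := by
    have h : u (pp a) - u (np a) = u a := by
      simp only [u, ← Finset.sum_sub_distrib, ← sub_smul]
      exact Finset.sum_congr rfl fun i _ => by
        rw [← Int.cast_sub, show pp a i - np a i = a i from congrFun (pp_sub_np a) i]
    rwa [h0, sub_eq_zero] at h
  have hP : u (pp a) = 0 := by
    refine eq_zero_of_orthogonal_pos hdim hB hH hreg hx ?_ (horth _)
    have e : B (u (pp a)) (u (pp a)) = B (u (pp a)) (u (np a)) := by rw [← hdec]
    rw [e, hsq]
    exact Int.cast_nonneg (mform_nonneg_of_disjoint _ (dot_curves_nonneg k hdim hreg C hCi hCd hC) (pp_nonneg a)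
      (np_nonneg a) (pp_mul_np a))
  have hz : ∀ b : Fin r → ℤ, (∀ i, 0 ≤ b i) → u b = 0 → b = 0 := fun b hb h => by
    by_contra hb0
    have h1 : B (u b) (NumR.clR k X H hH.1) = -((∑ i, b i * dot k (ClSub.idealMod (C i)) H : ℤ) : ℝ) := by
      simp only [u, map_sum, map_smul, LinearMap.sum_apply, LinearMap.smul_apply, smul_eq_mul, Int.cast_sum,
        Int.cast_mul, ← Finset.sum_neg_distrib]
      refine Finset.sum_congr rfl fun i _ => ?_
      show (b i : ℝ) * B (-NumR.clR k X _ (hCinv i)) _ = _
      rw [map_neg, LinearMap.neg_apply, hB, mul_neg]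
    rw [h, map_zero, LinearMap.zero_apply] at h1
    have h2 : (∑ i, b i * dot k (ClSub.idealMod (C i)) H : ℤ) = 0 := by
      exact_mod_cast (neg_eq_zero.1 h1.symm)
    exact absurd h2 (sum_mul_dot_neg k hdim hreg C hCi hCd hH hb hb0).ne
  refine ha ?_
  rw [← pp_sub_np a, hz _ (pp_nonneg a) hP, hz _ (np_nonneg a) (hdec ▸ hP), sub_zero]

/-- A negative definite configuration of curves is orthogonal to a nef class of positive square. -/
theorem exists_nef_of_negDef
    (hneg : ∀ a : Fin r → ℤ, a ≠ 0 →
      ∑ i, ∑ j, a i * a j * dot k (ClSub.idealMod (C i)) (ClSub.idealMod (C j)) < 0) :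
    ∃ x ∈ closure (NumR.ampleCone k X : Set (NumR.N1R k X)),
      x ∈ NumR.posCone k X B H hH.1 ∧ ∀ i, x ∈ NumR.wall k X B (C i) (hCinv i) := by
  classical
  set h := NumR.clR k X H hH.1
  have hh : h ∈ NumR.ampleCone k X := ConvexCone.subset_hull ⟨H, hH.1, hH, rfl⟩
  obtain ⟨hhh, hhC⟩ := (mem_ampleCone_iff hdim hB hreg hH h).1 hh
  let u : Fin r → NumR.N1R k X := fun i => NumR.curveCl k X (C i) (hCinv i)
  let g : Fin r → Fin r → ℤ := fun i j => dot k (ClSub.idealMod (C i)) (ClSub.idealMod (C j))
  let G : Matrix (Fin r) (Fin r) ℝ := .of fun i j => (g i j : ℝ)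
  have hG : IsUnit G.det := by
    refine isUnit_iff_ne_zero.2 fun h0 => ?_
    have h1 : (Matrix.of g).det = 0 := by
      have e : G.det = ((Matrix.of g).det : ℝ) := by
        rw [show G = (Int.castRingHom ℝ).mapMatrix (Matrix.of g) from rfl, ← RingHom.map_det]
        rfl
      rw [e] at h0
      exact Int.cast_eq_zero.1 h0
    obtain ⟨a, ha, hGa⟩ := Matrix.exists_mulVec_eq_zero_iff.2 h1
    refine (hneg a ha).ne (Finset.sum_eq_zero fun i _ => ?_)
    have hi : ∑ j, g i j * a j = 0 := congrFun hGa i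
    calc ∑ j, a i * a j * g i j = a i * ∑ j, g i j * a j := by
          rw [Finset.mul_sum]; exact Finset.sum_congr rfl fun j _ => by ring
      _ = 0 := by rw [hi, mul_zero]
  let β : Fin r → ℝ := fun i => B h (u i)
  have hβ : ∀ i, 0 < β i := fun i => hhC (C i) (hCi i) (hCd i) (hCinv i)
  let c : Fin r → ℝ := G⁻¹.mulVec (-β)
  have hGc : ∀ i, ∑ j, (g i j : ℝ) * c j = -β i := fun i => by
    have h1 : G.mulVec c = -β := by rw [Matrix.mulVec_mulVec, Matrix.mul_nonsing_inv _ hG, Matrix.one_mulVec]
    exact congrFun h1 i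
  have hle : ∀ d : Fin r → ℝ, B (∑ i, d i • u i) (∑ i, d i • u i) ≤ 0 := by
    refine nonpos_of_int _ ((continuous_quad B).comp
      (continuous_finsetSum _ fun i _ => (continuous_apply i).smul (continuous_const (y := u i)))) (fun t d => ?_) fun a => ?_
    · simp only [Pi.smul_apply, smul_eq_mul, mul_smul, ← Finset.smul_sum, map_smul, LinearMap.smul_apply]
      ring
    · rw [form_curves hdim hB hreg hH C hC hCi hCd hCinv]
      by_cases ha : a = 0
      · subst ha; simp
      · exact_mod_cast (hneg a ha).le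
  have hc : ∀ i, 0 ≤ c i := by
    let m : Fin r → ℝ := fun i => max (-c i) 0
    let p : Fin r → ℝ := fun i => max (c i) 0
    have hm : ∀ i, 0 ≤ m i := fun i => le_max_right _ _
    have hp : ∀ i, 0 ≤ p i := fun i => le_max_right _ _
    have hcm : ∀ i, c i = p i - m i := fun i => by
      rcases le_total (c i) 0 with h0 | h0
      · simp only [p, m, max_eq_right h0, max_eq_left (neg_nonneg.2 h0)]; ring
      · simp only [p, m, max_eq_left h0, max_eq_right (neg_nonpos.2 h0)]; ring
    have e : ∑ i, ∑ j, m i * c j * (g i j : ℝ) = - ∑ i, m i * β i := by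
      rw [← Finset.sum_neg_distrib]
      refine Finset.sum_congr rfl fun i _ => ?_
      rw [← mul_neg, ← hGc i, Finset.mul_sum]
      exact Finset.sum_congr rfl fun j _ => by ring
    have h1 : (0 : ℝ) ≤ ∑ i, ∑ j, m i * p j * (g i j : ℝ) := by
      refine Finset.sum_nonneg fun i _ => Finset.sum_nonneg fun j _ => ?_
      rcases eq_or_ne i j with rfl | hij
      · have : m i * p i = 0 := by
          rcases le_total (c i) 0 with h0 | h0
          · rw [show p i = 0 from max_eq_right h0, mul_zero]
          · rw [show m i = 0 from max_eq_right (neg_nonpos.2 h0), zero_mul]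
        rw [this, zero_mul]
      · exact mul_nonneg (mul_nonneg (hm i) (hp j)) (Int.cast_nonneg (dot_curves_nonneg k hdim hreg C hCi hCd hC i j hij))
    have h2 := hle m
    rw [form_curves hdim hB hreg hH C hC hCi hCd hCinv] at h2
    have h3 : ∑ i, ∑ j, m i * c j * (g i j : ℝ) =
        (∑ i, ∑ j, m i * p j * (g i j : ℝ)) - ∑ i, ∑ j, m i * m j * (g i j : ℝ) := by
      rw [← Finset.sum_sub_distrib]
      refine Finset.sum_congr rfl fun i _ => ?_
      rw [← Finset.sum_sub_distrib]
      exact Finset.sum_congr rfl fun j _ => by rw [hcm j]; ring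
    have h4 : ∑ i, m i * β i ≤ 0 := by
      have : (0 : ℝ) ≤ ∑ i, ∑ j, m i * c j * (g i j : ℝ) := by
        rw [h3]; linarith
      linarith
    intro i
    by_contra hi
    push Not at hi
    have hpos : 0 < m i * β i := mul_pos (lt_of_lt_of_le (neg_pos.2 hi) (le_max_left _ _)) (hβ i)
    exact absurd h4 (not_le.2 (Finset.sum_pos' (fun j _ => mul_nonneg (hm j) (hβ j).le) ⟨i, Finset.mem_univ i, hpos⟩))
  set D := ∑ i, c i • u i with hD
  have hDu : ∀ i, B D (u i) = -β i := fun i => by
    rw [form_comm hdim hB]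
    simp only [hD, map_sum, map_smul, smul_eq_mul]
    rw [← hGc i]
    refine Finset.sum_congr rfl fun j _ => ?_
    rw [mul_comm]
    congr 1
    show B (-NumR.clR k X _ (hCinv i)) (-NumR.clR k X _ (hCinv j)) = _
    rw [map_neg, map_neg, LinearMap.neg_apply, neg_neg, hB]
  have hwall : ∀ i, B (h + D) (u i) = 0 := fun i => by
    rw [map_add, LinearMap.add_apply, hDu]
    ring
  have hxD : B (h + D) D = 0 := by
    simp only [hD, map_sum, map_smul, smul_eq_mul]
    exact Finset.sum_eq_zero fun i _ => by rw [← hD, hwall i, mul_zero]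
  have hDh : 0 ≤ B D h := by
    simp only [hD, map_sum, map_smul, LinearMap.sum_apply, LinearMap.smul_apply, smul_eq_mul]
    exact Finset.sum_nonneg fun i _ => mul_nonneg (hc i) (by rw [form_comm hdim hB]; exact (hβ i).le)
  have hsq : 0 < B (h + D) (h + D) := by
    rw [map_add (B (h + D)), hxD, add_zero, map_add, LinearMap.add_apply]
    linarith
  have hnef : h + D ∈ NumR.nefCone₂ k X B := fun E hEi hE hI => by
    haveI := hEi
    by_cases hEC : ∃ i, C i = E
    · obtain ⟨i, rfl⟩ := hEC
      exact (hwall i).ge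
    · push Not at hEC
      rw [map_add, LinearMap.add_apply]
      refine add_nonneg (hhC E hEi hE hI).le ?_
      simp only [hD, map_sum, map_smul, LinearMap.sum_apply, LinearMap.smul_apply, smul_eq_mul]
      refine Finset.sum_nonneg fun i _ => mul_nonneg (hc i) ?_
      haveI := hCi i
      show 0 ≤ B (-NumR.clR k X _ (hCinv i)) (-NumR.clR k X _ hI)
      rw [map_neg, map_neg, LinearMap.neg_apply, neg_neg, hB]
      exact Int.cast_nonneg (dot_ideal_nonneg k hdim.le (C i) (hCd i) (hCinv i) hI
        (genC_notMem k (hCd i) hE (hEC i)))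
  refine ⟨h + D, ?_, ⟨hsq, ?_⟩, hwall⟩
  · rw [closure_ampleCone hdim hB hreg hH]
    exact ⟨hsq.le, hnef⟩
  · rw [map_add, LinearMap.add_apply]
    linarith

end Groth.Agent.SurfInt
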