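import Groth.Agent.SurfInt.Nakai
import Groth.Agent.SurfInt.Strict
import Groth.Agent.ModPairLib.Quot
import Groth.Agent.BlowUpLib.Glue
import Groth.Agent.ArSurfX.IdealFrame
import Mathlib.Data.DFinsupp.WellFounded

/-! Effective divisors as products of curves. -/

noncomputable section

set_option linter.style.haveILetI false
set_option linter.unusedSectionVars false
set_option backward.isDefEq.respectTransparency false
set_option backward.isDefEq.respectTransparency.types false

universe u

open CategoryTheory CategoryTheory.Limits AlgebraicGeometry TopologicalSpace Opposite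

namespace Groth.Agent.SurfInt

open Groth.Agent

variable {X : Scheme.{u}}

theorem wellFoundedGT_ideals [IsNoetherian X] : WellFoundedGT X.IdealSheafData := by
  obtain ⟨s, hs, hU⟩ := isCompact_iff_finite_and_eq_biUnion_affineOpens.mp
    (show IsCompact ((⊤ : X.Opens) : Set X) from isCompact_univ)
  have hcov : (⨆ U : s, (U.1.1 : X.Opens)) = ⊤ := eq_top_iff.2 fun x _ => by
    have hx : x ∈ (⊤ : X.Opens) := trivial
    rw [hU] at hx
    simp only [Opens.mem_iSup] at hx
    obtain ⟨V, hV, hxV⟩ := hx
    exact Opens.mem_iSup.2 ⟨⟨V, hV⟩, hxV⟩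
  haveI := hs.to_subtype
  haveI : ∀ U : s, WellFoundedLT (Ideal Γ(X, U.1.1))ᵒᵈ := fun U => by
    haveI := IsLocallyNoetherian.component_noetherian U.1
    exact inferInstance
  haveI hlt : WellFoundedLT (∀ U : s, (Ideal Γ(X, U.1.1))ᵒᵈ) := inferInstance
  haveI : WellFoundedGT (∀ U : s, Ideal Γ(X, U.1.1)) := ⟨hlt.wf⟩
  let e : X.IdealSheafData → (∀ U : s, Ideal Γ(X, U.1.1)) := fun I U => I.ideal U.1
  exact (OrderEmbedding.ofMapLEIff e fun I J => ⟨fun h => Scheme.IdealSheafData.le_of_iSup_eq_top (fun U : s => U.1)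
    hcov fun U => Pi.le_def.1 h U, fun h => Pi.le_def.2 fun U => h U.1⟩).wellFoundedGT

theorem isEffCartier_prod {ι : Type*} (s : Finset ι) (F : ι → X.IdealSheafData)
    (h : ∀ i ∈ s, BlowUp.IsEffCartierIdeal (F i)) : BlowUp.IsEffCartierIdeal (∏ i ∈ s, F i) :=
  Finset.prod_induction F BlowUp.IsEffCartierIdeal (fun _ _ => ModPairLib.isEffCartier_mul)
    (BlowUpLib.isEffCartier_top X) h

theorem isEffCartier_pow {F : X.IdealSheafData} (h : BlowUp.IsEffCartierIdeal F) :
    ∀ n : ℕ, BlowUp.IsEffCartierIdeal (F ^ n)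
  | 0 => (pow_zero F).symm ▸ BlowUpLib.isEffCartier_top X
  | n + 1 => (pow_succ F n).symm ▸ ModPairLib.isEffCartier_mul (isEffCartier_pow h n) h

/-- Effective divisors split off the curves of a finite family. -/
theorem exists_decomp [IsNoetherian X] {ι : Type*} [Fintype ι] (C : ι → X.IdealSheafData)
    (hC : ∀ i, BlowUp.IsEffCartierIdeal (C i)) (hne : ∀ i, C i ≠ ⊤) (F : X.IdealSheafData)
    (hF : BlowUp.IsEffCartierIdeal F) :
    ∃ (e : ι → ℕ) (E : X.IdealSheafData), BlowUp.IsEffCartierIdeal E ∧ F = (∏ i, C i ^ e i) * E ∧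
      ∀ i, ¬ E ≤ C i := by
  classical
  haveI := wellFoundedGT_ideals (X := X)
  induction F using WellFoundedGT.induction with
  | ind F ih =>
    by_cases h : ∃ j, F ≤ C j
    · obtain ⟨j, hj⟩ := h
      set F' := ModPairLib.colon F (C j) (ModPairLib.isLocPrincipal_of_isEffCartier (hC j))
      have hmul : F' * C j = F := ModPairLib.colon_mul (hC j) hj
      have hF' : BlowUp.IsEffCartierIdeal F' := ModPairLib.isEffCartier_of_mul (hC j) (hmul.symm ▸ hF)
      have hle : F ≤ F' := by
        intro U
        have e := congrArg (fun K : X.IdealSheafData => K.ideal U) hmul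
        simp only [Scheme.IdealSheafData.ideal_mul, Pi.mul_apply] at e
        exact e ▸ Ideal.mul_le_left
      have hlt : F < F' := lt_of_le_of_ne hle fun e => by
        refine hne j (ModPairLib.eq_of_mul_eq_mul hF' ?_)
        rw [mul_comm, hmul, e]
        exact (one_mul F').symm
      obtain ⟨e, E, hE, hFE, hEC⟩ := ih F' hlt hF'
      refine ⟨Function.update e j (e j + 1), E, hE, ?_, hEC⟩
      rw [← hmul, hFE, ← Finset.mul_prod_erase _ _ (Finset.mem_univ j),
        ← Finset.mul_prod_erase _ (fun i => C i ^ Function.update e j (e j + 1) i) (Finset.mem_univ j)]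
      simp only [Function.update_self]
      rw [Finset.prod_congr rfl (g := fun i => C i ^ Function.update e j (e j + 1) i)
        (f := fun i => C i ^ e i) fun i hi => by rw [Function.update_of_ne (Finset.ne_of_mem_erase hi)],
        pow_succ]
      ring
    · push Not at h
      exact ⟨0, F, hF, by rw [Finset.prod_eq_one (fun i _ => show C i ^ (0 : ι → ℕ) i = 1 from pow_zero (C i)), one_mul], h⟩

variable (k : Type u) [Field k] [X.Over (Spec (CommRingCat.of k))]
  [IsProper (X ↘ Spec (CommRingCat.of k))]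

theorem dot_idealMod_mul (hd : topologicalKrullDim X ≤ 2) {A : X.Modules} (hA : PicF.IsInvertible A)
    {F G : X.IdealSheafData} (hF : BlowUp.IsEffCartierIdeal F) (hG : BlowUp.IsEffCartierIdeal G) :
    dot k A (ClSub.idealMod (F * G)) = dot k A (ClSub.idealMod F) + dot k A (ClSub.idealMod G) := by
  have hFi := (S8914.result F).2 hF
  have hGi := (S8914.result G).2 hG
  rw [← dot_tensor_right k hd hFi hGi hA]
  exact dot_congr k hd hA ((S8914.result _).2 (ModPairLib.isEffCartier_mul hF hG)) (Iso.refl A)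
    (ArSurfX.nonempty_idealMod_mul hF hG).some.symm

theorem dot_idealMod_pow (hd : topologicalKrullDim X ≤ 2) {A : X.Modules} (hA : PicF.IsInvertible A)
    {F : X.IdealSheafData} (hF : BlowUp.IsEffCartierIdeal F) (n : ℕ) :
    dot k A (ClSub.idealMod (F ^ n)) = n * dot k A (ClSub.idealMod F) := by
  induction n with
  | zero =>
    rw [pow_zero, Nat.cast_zero, zero_mul]
    obtain ⟨e⟩ := ArSurfX.nonempty_idealMod_one (X := X)
    have h1 : PicF.IsInvertible (ClSub.idealMod (1 : X.IdealSheafData)) :=
      (S8914.result _).2 (BlowUpLib.isEffCartier_top X)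
    rw [dot_congr k hd hA h1 (Iso.refl A) e.symm, dot_one_right k hd hA]
  | succ n ih =>
    rw [pow_succ, dot_idealMod_mul k hd hA (isEffCartier_pow hF n) hF, ih]
    push_cast; ring

theorem dot_idealMod_prod (hd : topologicalKrullDim X ≤ 2) {A : X.Modules} (hA : PicF.IsInvertible A)
    {ι : Type*} (s : Finset ι) (C : ι → X.IdealSheafData) (hC : ∀ i, BlowUp.IsEffCartierIdeal (C i)) (e : ι → ℕ) :
    dot k A (ClSub.idealMod (∏ i ∈ s, C i ^ e i)) = ∑ i ∈ s, (e i : ℤ) * dot k A (ClSub.idealMod (C i)) := by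
  classical
  induction s using Finset.induction_on with
  | empty =>
    rw [Finset.prod_empty, Finset.sum_empty, ← pow_zero (⊤ : X.IdealSheafData),
      dot_idealMod_pow k hd hA (BlowUpLib.isEffCartier_top X), Nat.cast_zero, zero_mul]
  | insert a t ha ih =>
    rw [Finset.prod_insert ha, Finset.sum_insert ha, dot_idealMod_mul k hd hA (isEffCartier_pow (hC a) _)
      (isEffCartier_prod _ _ fun i _ => isEffCartier_pow (hC i) _), ih, dot_idealMod_pow k hd hA (hC a)]

end Groth.Agent.SurfInt
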