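import Groth.Agent.SurfInt.AffPts
import Groth.Agent.AmpleX.Extend
import Groth.Agent.AmpleX.Sect
import Groth.Agent.AmpleX.Locus

/-! Extending functions of an affine open to sections of powers of an invertible module. -/

noncomputable section

set_option linter.style.haveILetI false
set_option linter.unusedSectionVars false
set_option backward.isDefEq.respectTransparency false
set_option backward.isDefEq.respectTransparency.types false

universe u

open CategoryTheory CategoryTheory.Limits AlgebraicGeometry TopologicalSpace Opposite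

namespace Groth.Agent.SurfInt

open Groth.Agent

variable {X : Scheme.{u}} {P : X.Modules}

/-- The support of a zero scheme is the complement of the generating locus. -/
theorem support_zeroScheme (hP : PicF.IsInvertible P) (s : Γ(P, ⊤)) :
    ((PicF2.zeroScheme P (InvX.ofSect s)).support : Set X) = ((AmpleX.locus s : X.Opens) : Set X)ᶜ := by
  ext x
  obtain ⟨W, hxW, f, hf⟩ := InvX.exists_frame hP x
  obtain ⟨_, ⟨V, hV, rfl⟩, hxV, hVW⟩ := X.isBasis_affineOpens.exists_subset_of_mem_open hxW W.isOpen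
  obtain ⟨c, hc⟩ := (hf V hVW).2 (ZeroSchX.sv (InvX.ofSect s) V)
  have h1 : AModX.res P (le_top : V ≤ ⊤) s = c • AModX.res P hVW f := by
    refine Eq.trans ?_ hc.symm
    conv_lhs => rw [← InvX.one_ofSect s]
    exact ZeroSchX.res_sv (InvX.ofSect s) (le_top : V ≤ ⊤)
  have h2 := congrArg (fun O : X.Opens => x ∈ O) (AmpleX.locus_inf s le_top (hf.res hVW) h1)
  simp only [Opens.mem_inf, eq_iff_iff] at h2
  have h3 : x ∈ AmpleX.locus s ↔ x ∈ X.basicOpen c := ⟨fun h => h2.1 ⟨h, hxV⟩, fun h => (h2.2 h).1⟩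
  rw [Set.mem_compl_iff, SetLike.mem_coe, SetLike.mem_coe, h3,
    Scheme.IdealSheafData.mem_support_iff_of_mem (U := ⟨V, hV⟩) hxV, ZeroSchX.ideal_zeroScheme hP,
    ZeroSchX.zeroIdealOn_eq_span _ (hf.res hVW) hc.symm, Scheme.zeroLocus_span, Scheme.mem_zeroLocus_iff]
  exact ⟨fun h => h c rfl, fun h f hf => by rw [Set.mem_singleton_iff.1 hf]; exact h⟩

theorem ideal_zeroScheme_of_frame (hP : PicF.IsInvertible P) (s : Γ(P, ⊤)) {V : X.affineOpens}
    {f : Γ(P, V.1)} (hf : InvX.IsFrame f) {c : Γ(X, V.1)} (h : AModX.res P (le_top : V.1 ≤ ⊤) s = c • f) :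
    (PicF2.zeroScheme P (InvX.ofSect s)).ideal V = Ideal.span {c} := by
  rw [ZeroSchX.ideal_zeroScheme hP]
  refine ZeroSchX.zeroIdealOn_eq_span _ hf (Eq.trans (ZeroSchX.res_sv (InvX.ofSect s) (le_top : V.1 ≤ ⊤)).symm ?_)
  show AModX.res P _ (InvX.one (InvX.ofSect s)) = _
  rw [InvX.one_ofSect, h]

/-- The twisting section `s ⊗ s ^ n`. -/
def twistSect (s : Γ(P, ⊤)) (n : ℕ) : Γ(CohB1.tensorMod P (CohB1.tensorPow P n), ⊤) :=
  InvX.tmul s (AmpleX.powElt s n)

theorem res_twistSect (s : Γ(P, ⊤)) (n : ℕ) {V : X.Opens} {f : Γ(P, V)} {c : Γ(X, V)}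
    (h : AModX.res P (le_top : V ≤ ⊤) s = c • f) :
    AModX.res _ (le_top : V ≤ ⊤) (twistSect s n) = c ^ (n + 1) • InvX.tmul f (AmpleX.powElt f n) := by
  rw [twistSect, InvX.res_tmul, AmpleX.res_powElt, h, AmpleX.powElt_smul, InvX.tmul_smul_left,
    InvX.tmul_smul_right, smul_smul, ← pow_succ']

theorem isFrame_res_twistSect {U : X.Opens} (s : Γ(P, ⊤)) (hU : U ≤ AmpleX.locus s) (n : ℕ) :
    InvX.IsFrame (AModX.res _ (le_top : U ≤ ⊤) (twistSect s n)) := by
  have hf := AmpleX.isFrame_res_of_le s hU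
  rw [twistSect, InvX.res_tmul, AmpleX.res_powElt]
  exact InvX.isFrame_tmul hf (AmpleX.isFrame_powElt hf n)

/-- Functions on the generating locus of `s` times high powers of `s` extend. -/
theorem exists_extend_function [CompactSpace X] [X.IsSeparated] (hP : PicF.IsInvertible P) {s : Γ(P, ⊤)}
    {U : X.Opens} (hU : AmpleX.locus s = U) (g : Γ(X, U)) :
    ∃ n₀ : ℕ, ∀ n, n₀ ≤ n → ∃ T : Γ(CohB1.tensorMod P (CohB1.tensorPow P n), ⊤),
      AModX.res _ (le_top : U ≤ ⊤) T = g • AModX.res _ (le_top : U ≤ ⊤) (twistSect s n) := by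
  have e : CohB1.genLocus P (InvX.ofSect s) = U := by rw [AmpleX.genLocus_eq_locus, InvX.one_ofSect, hU]
  obtain ⟨n₀, h⟩ := AmpleX.exists_extend (ZeroSchX.isQCoh_inv hP) hP (InvX.ofSect s)
    (AModX.res P e.le (g • AModX.res P (le_top : U ≤ ⊤) s))
  refine ⟨n₀, fun n hn => ?_⟩
  obtain ⟨T, hT⟩ := h n hn
  refine ⟨T, ?_⟩
  have h1 := congrArg (AModX.res _ e.ge) hT
  rw [AModX.res_res, InvX.res_tmul, AModX.res_res, AModX.res_self, InvX.one_ofSect, AmpleX.res_powElt,
    AModX.res_res] at h1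
  rw [h1, twistSect, InvX.res_tmul, AmpleX.res_powElt, InvX.tmul_smul_left]

section
variable [IsIntegral X]

/-- A point of an affine open which is not generic is a zero of a non-zero function. -/
theorem exists_vanish {U : X.Opens} (hU : IsAffineOpen U) {p : X} (hp : p ∈ U) (hne : p ≠ genericPoint X) :
    ∃ g : Γ(X, U), g ≠ 0 ∧ p ∉ X.basicOpen g := by
  haveI : Nonempty U := ⟨⟨p, hp⟩⟩
  let q := hU.primeIdealOf ⟨p, hp⟩
  have hq : q.asIdeal ≠ ⊥ := fun h => by
    apply hne
    have hg : genericPoint X ∈ U := ((genericPoint_spec X).mem_open_set_iff U.2).2 ⟨p, trivial, hp⟩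
    have h1 : q ⤳ hU.primeIdealOf ⟨_, hg⟩ := (PrimeSpectrum.le_iff_specializes _ _).1 (by
      show q.asIdeal ≤ _
      rw [h]; exact bot_le)
    have h2 : hU.fromSpec q ⤳ hU.fromSpec (hU.primeIdealOf ⟨_, hg⟩) := h1.map hU.fromSpec.continuous
    rw [hU.fromSpec_primeIdealOf, hU.fromSpec_primeIdealOf] at h2
    exact (h2.antisymm (genericPoint_specializes p)).eq
  obtain ⟨g, hg, hg0⟩ := Submodule.exists_mem_ne_zero_of_ne_bot hq
  refine ⟨g, hg0, fun h => ?_⟩
  replace h : hU.fromSpec q ∈ X.basicOpen g := (hU.fromSpec_primeIdealOf ⟨p, hp⟩).symm ▸ h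
  have : q ∈ hU.fromSpec ⁻¹ᵁ X.basicOpen g := h
  rw [hU.fromSpec_preimage_basicOpen] at this
  exact this hg

end

/-- In a domain containing a field, the powers of a non-zero non-unit are independent. -/
theorem eq_zero_of_sum_pow_eq_zero {k R : Type*} [Field k] [CommRing R] [IsDomain R] (φ : k →+* R) {g : R}
    (hg0 : g ≠ 0) (hgu : ¬ IsUnit g) :
    ∀ (v : ℕ) (a : Fin v → k), ∑ i, φ (a i) * g ^ (i : ℕ) = 0 → a = 0 := by
  intro v
  induction v with
  | zero => exact fun a _ => Subsingleton.elim _ _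
  | succ v ih =>
    intro a ha
    simp only [Fin.sum_univ_succ, Fin.val_zero, pow_zero, mul_one, Fin.val_succ, pow_succ, ← mul_assoc,
      ← Finset.sum_mul] at ha
    have h0 : a 0 = 0 := by
      by_contra h
      apply hgu
      have hu : IsUnit (φ (a 0)) := (isUnit_iff_ne_zero.2 h).map φ
      rw [add_eq_zero_iff_eq_neg.1 ha, ← neg_mul] at hu
      exact isUnit_of_mul_isUnit_right hu
    rw [h0, map_zero, zero_add, mul_eq_zero, or_iff_left hg0] at ha
    have := ih (fun i => a i.succ) ha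
    funext i
    induction i using Fin.cases with
    | zero => exact h0
    | succ i => exact congrFun this i

variable (k : Type u) [Field k] [X.Over (Spec (CommRingCat.of k))]
  [IsProper (X ↘ Spec (CommRingCat.of k))]

/-- A module with a section whose locus is affine and has a non-unit function has many sections. -/
theorem exists_growth_affine [IsIntegral X] {L : X.Modules} (hL : PicF.IsInvertible L) {s : Γ(L, ⊤)}
    {U : X.Opens} (hU : AmpleX.locus s = U) {g : Γ(X, U)} (hg0 : g ≠ 0) (hgu : ¬ IsUnit g) (v : ℕ) :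
    ∃ c, 0 < c ∧ v < Module.finrank k (Coh.HH X (CohB1.tensorPow L c) 0) := by
  haveI := noeth k (X := X)
  haveI : X.IsSeparated := ⟨by
    rw [← Limits.terminal.comp_from (X ↘ Spec (CommRingCat.of k))]
    infer_instance⟩
  haveI : Nonempty U := by
    by_contra h
    rw [not_nonempty_iff] at h
    obtain rfl : U = ⊥ := Opens.ext (Set.eq_empty_iff_forall_notMem.2 fun x hx => h.false ⟨x, hx⟩)
    exact hg0 (Subsingleton.elim _ _)
  choose n₀ hn₀ using fun i : Fin (v + 1) => exists_extend_function hL hU (g ^ (i : ℕ))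
  set n := Finset.univ.sup n₀
  let N := CohB1.tensorMod L (CohB1.tensorPow L n)
  choose T hT using fun i => hn₀ i n (Finset.le_sup (Finset.mem_univ i))
  obtain ⟨φ⟩ : Nonempty (N ≅ CohB1.tensorPow L (n + 1)) := H23.PicMul.cl_eq_iff.1 (by
    open scoped Groth.Agent.H23.PicMul in
    rw [H23.PicMul.cl_tensor, H23.PicMul.cl_tensorPow, H23.PicMul.cl_tensorPow, pow_succ'])
  refine ⟨n + 1, n.succ_pos, ?_⟩
  haveI := CurveCohLib.finite_HH (k := k)
    (M := CohB1.tensorPow L (n + 1)) (CurveDeg.isCoh_of_isInvertible (H23.PicMul.isInvertible_tensorPow hL _)) 0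
  rw [← (CurveCohLib.hhEquiv (k := k) φ 0).finrank_eq]
  haveI : Module.Finite k (Coh.HH X N 0) := Module.Finite.equiv (CurveCohLib.hhEquiv (k := k) φ 0).symm
  let t : Fin (v + 1) → Coh.HH X N 0 := fun i =>
    (Sheaf.H.equiv₀ (Coh.toAb N) isTerminalTop).symm (T i)
  have hli : LinearIndependent k t := by
    rw [Fintype.linearIndependent_iff]
    intro a ha
    let κ : k →+* Γ(X, U) := (AModX.resR (le_top : U ≤ ⊤)).comp
      ((Coh.resTop X (op ⊤)).comp (Coh.toGlobal (X ↘ Spec (CommRingCat.of k))))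
    refine congrFun (eq_zero_of_sum_pow_eq_zero κ hg0 hgu _ a ?_)
    let S : Coh.HH X N 0 →+ Γ(N, U) :=
      ((AModX.res N (le_top : U ≤ ⊤)) : Γ(N, ⊤) →+ Γ(N, U)).comp (AddMonoidHom.mk' (secOf N) (secOf_add N))
    have h1 := congrArg S ha
    rw [map_sum, map_zero] at h1
    have h2 : ∀ i, S (a i • t i) = (κ (a i) * g ^ (i : ℕ)) • AModX.res _ (le_top : U ≤ ⊤) (twistSect s n) := by
      intro i
      show AModX.res N _ (secOf N (a i • t i)) = _
      rw [secOf_smul, AModX.res_smul, mul_smul]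
      refine congrArg (κ (a i) • ·) ?_
      show AModX.res N _ (secOf N ((Sheaf.H.equiv₀ (Coh.toAb N) isTerminalTop).symm (T i))) = _
      rw [show secOf N ((Sheaf.H.equiv₀ (Coh.toAb N) isTerminalTop).symm (T i)) = T i from
        (Sheaf.H.equiv₀ (Coh.toAb N) isTerminalTop).apply_symm_apply _]
      exact hT i
    rw [Finset.sum_congr rfl fun i _ => h2 i, ← Finset.sum_smul] at h1
    exact (isFrame_res_twistSect s hU.ge n).coord_unique le_rfl (by rw [AModX.res_self, h1, zero_smul])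
  have := hli.fintype_card_le_finrank
  rw [Fintype.card_fin] at this
  omega

end Groth.Agent.SurfInt
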