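import Groth.Agent.SurfInt.Decomp
import Groth.Agent.ModPairLib.Dense

/-! An effective divisor with disconnected support is a product. -/

noncomputable section

set_option linter.style.haveILetI false
set_option linter.unusedSectionVars false
set_option backward.isDefEq.respectTransparency false
set_option backward.isDefEq.respectTransparency.types false

universe u

open CategoryTheory CategoryTheory.Limits AlgebraicGeometry TopologicalSpace Opposite

namespace Groth.Agent.SurfInt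

open Groth.Agent

variable {X : Scheme.{u}}

/-- The part of a closed subscheme over one of two disjoint closed pieces of its support. -/
theorem exists_part (D : X.IdealSheafData) {A B : Set X} (hA : IsClosed A) (hB : IsClosed B)
    (hAB : (D.support : Set X) = A ∪ B) (hdis : Disjoint A B) :
    ∃ F : X.IdealSheafData, D ≤ F ∧ (F.support : Set X) = A ∧
      (∀ V : X.affineOpens, (∀ y ∈ V.1, y ∉ B) → F.ideal V = D.ideal V) ∧
      ∀ V : X.affineOpens, (∀ y ∈ V.1, y ∉ A) → F.ideal V = ⊤ := by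
  let O : D.subscheme.Opens := D.subschemeι ⁻¹ᵁ ⟨Bᶜ, hB.isOpen_compl⟩
  let i : O.toScheme ⟶ X := O.ι ≫ D.subschemeι
  have hOA : ∀ y : D.subscheme, y ∈ O ↔ D.subschemeι y ∈ A := fun y => by
    have h : D.subschemeι y ∈ A ∪ B := hAB ▸ D.range_subschemeι.le ⟨y, rfl⟩
    exact ⟨fun hy => h.resolve_right hy, fun hy hy' => hdis.notMem_of_mem_left hy hy'⟩
  haveI : IsClosedImmersion O.ι := IsClosedImmersion.of_isPreimmersion _ (by
    rw [Scheme.Opens.range_ι, show (O : Set D.subscheme) = D.subschemeι ⁻¹' A from Set.ext hOA]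
    exact hA.preimage D.subschemeι.continuous)
  have hr : Set.range i = A := by
    ext y
    constructor
    · rintro ⟨z, rfl⟩
      exact (hOA (O.ι z)).1 z.2
    · intro hy
      obtain ⟨z, rfl⟩ := D.range_subschemeι.ge (hAB ▸ Or.inl hy : y ∈ (D.support : Set X))
      exact ⟨⟨z, (hOA z).2 hy⟩, rfl⟩
  refine ⟨i.ker, ?_, ?_, fun V hV => ?_, fun V hV => ?_⟩
  · exact D.ker_subschemeι.ge.trans (Scheme.Hom.le_ker_comp _ _)
  · rw [Scheme.Hom.support_ker, hr, hA.closure_eq]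
  · have hle : D.subschemeι ⁻¹ᵁ V.1 ≤ O.ι.opensRange := by
      rw [Scheme.Opens.opensRange_ι]
      exact fun y hy => hV _ hy
    haveI := O.ι.isIso_app _ hle
    conv_rhs => rw [← D.ker_subschemeι]
    rw [Scheme.Hom.ker_apply, Scheme.Hom.ker_apply, Scheme.Hom.comp_app]
    exact RingHom.ker_comp_of_injective _ ((ConcreteCategory.isIso_iff_bijective (O.ι.app (D.subschemeι ⁻¹ᵁ V.1))).1 inferInstance).1
  · have hbot : i ⁻¹ᵁ V.1 = ⊥ := Opens.ext (Set.eq_empty_iff_forall_notMem.2 fun z hz =>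
      hV _ hz (hr.le ⟨z, rfl⟩))
    haveI : Subsingleton Γ(O.toScheme, i ⁻¹ᵁ V.1) := by rw [hbot]; infer_instance
    rw [Scheme.Hom.ker_apply]
    exact eq_top_iff.2 fun a _ => Subsingleton.elim _ _

/-- A disjoint decomposition of the support of an effective divisor. -/
theorem exists_split {D : X.IdealSheafData} (hD : BlowUp.IsEffCartierIdeal D) {A B : Set X} (hA : IsClosed A)
    (hB : IsClosed B) (hAB : (D.support : Set X) = A ∪ B) (hdis : Disjoint A B) :
    ∃ F G : X.IdealSheafData, BlowUp.IsEffCartierIdeal F ∧ BlowUp.IsEffCartierIdeal G ∧ D = F * G ∧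
      (F.support : Set X) = A ∧ (G.support : Set X) = B := by
  have key : ∀ (A B : Set X), IsClosed A → IsClosed B → (D.support : Set X) = A ∪ B → Disjoint A B →
      ∃ F : X.IdealSheafData, BlowUp.IsEffCartierIdeal F ∧ (F.support : Set X) = A ∧
      (∀ V : X.affineOpens, (∀ y ∈ V.1, y ∉ B) → F.ideal V = D.ideal V) ∧
      ∀ V : X.affineOpens, (∀ y ∈ V.1, y ∉ A) → F.ideal V = ⊤ := fun A B hA hB hAB hdis => by
    obtain ⟨F, hle, hs, h1, h2⟩ := exists_part D hA hB hAB hdis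
    refine ⟨F, ModPairLib.isEffCartier_of_le hD hle (fun x => ?_), hs, h1, h2⟩
    by_cases hxB : x ∈ B
    · obtain ⟨V, hV, hxV, hle'⟩ := exists_isAffineOpen_mem_and_subset (X := X) (U := ⟨Aᶜ, hA.isOpen_compl⟩)
        (hdis.notMem_of_mem_right hxB : x ∈ Aᶜ)
      exact ⟨⟨V, hV⟩, hxV, 1, (h2 _ fun y hy => hle' hy).trans Ideal.span_singleton_one.symm⟩
    · obtain ⟨U, hxU, a, -, ha⟩ := hD x
      obtain ⟨r, hr, hxr⟩ := U.2.exists_basicOpen_le (V := U.1 ⊓ ⟨Bᶜ, hB.isOpen_compl⟩) ⟨x, hxU, hxB⟩ hxU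
      refine ⟨⟨X.basicOpen r, U.2.basicOpen r⟩, hxr, (X.presheaf.map (homOfLE (X.basicOpen_le r)).op).hom a, ?_⟩
      rw [h1 _ fun y hy => (hr hy).2, ← D.map_ideal (U := ⟨X.basicOpen r, U.2.basicOpen r⟩) (X.basicOpen_le r), ha,
        Ideal.map_span, Set.image_singleton]
      rfl
  obtain ⟨F, hF, hFs, hF1, hF2⟩ := key A B hA hB hAB hdis
  obtain ⟨G, hG, hGs, hG1, hG2⟩ := key B A hB hA (hAB.trans (Set.union_comm A B)) hdis.symm
  have hx : ∀ x : X, ∃ V : X.affineOpens, x ∈ V.1 ∧ ((∀ y ∈ V.1, y ∉ A) ∨ ∀ y ∈ V.1, y ∉ B) := fun x => by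
    by_cases hxA : x ∈ A
    · obtain ⟨V, hV, hxV, hle⟩ := exists_isAffineOpen_mem_and_subset (X := X) (U := ⟨Bᶜ, hB.isOpen_compl⟩)
        (hdis.notMem_of_mem_left hxA : x ∈ Bᶜ)
      exact ⟨⟨V, hV⟩, hxV, Or.inr fun y hy => hle hy⟩
    · obtain ⟨V, hV, hxV, hle⟩ := exists_isAffineOpen_mem_and_subset (X := X) (U := ⟨Aᶜ, hA.isOpen_compl⟩)
        (hxA : x ∈ Aᶜ)
      exact ⟨⟨V, hV⟩, hxV, Or.inl fun y hy => hle hy⟩
  choose V hxV hV using hx
  refine ⟨F, G, hF, hG, Scheme.IdealSheafData.ext_of_iSup_eq_top V (eq_top_iff.2 fun x _ =>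
    Opens.mem_iSup.2 ⟨x, hxV x⟩) (fun x => ?_), hFs, hGs⟩
  rw [Scheme.IdealSheafData.ideal_mul, Pi.mul_apply]
  rcases hV x with h | h
  · rw [hF2 _ h, hG1 _ h, Ideal.top_mul]
  · rw [hG2 _ h, hF1 _ h, Ideal.mul_top]

end Groth.Agent.SurfInt
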