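import Groth.Agent.SurfInt.Decomp
import Mathlib.RingTheory.Ideal.KrullsHeightTheorem

/-! Points and functions of an affine open subscheme of a surface. -/

noncomputable section

set_option linter.style.haveILetI false
set_option linter.unusedSectionVars false
set_option backward.isDefEq.respectTransparency false
set_option backward.isDefEq.respectTransparency.types false

universe u

open CategoryTheory CategoryTheory.Limits AlgebraicGeometry TopologicalSpace Opposite

namespace Groth.Agent.SurfInt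

open Groth.Agent

/-- An element of the fraction field all whose powers have bounded denominator is integral, so lies in a
Noetherian integrally closed subring. -/
theorem mem_range_of_pow_bounded {R K : Type*} [CommRing R] [IsDomain R] [IsNoetherianRing R]
    [IsIntegrallyClosed R] [Field K] [Algebra R K] [IsFractionRing R K] {c h : K} (hc : c ≠ 0)
    (hb : ∀ N : ℕ, c * h ^ N ∈ Set.range (algebraMap R K)) : h ∈ Set.range (algebraMap R K) := by
  let S : Subalgebra R K := Algebra.adjoin R {h}
  let M : Submodule R K := Submodule.span R {c⁻¹}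
  have hle : Subalgebra.toSubmodule S ≤ M := by
    rw [Algebra.adjoin_eq_span, Submodule.span_le]
    intro y hy
    obtain ⟨N, rfl⟩ := Submonoid.mem_closure_singleton.1 hy
    obtain ⟨r, hr⟩ := hb N
    refine Submodule.mem_span_singleton.2 ⟨r, ?_⟩
    rw [Algebra.smul_def, hr]
    field_simp
  have hfg : (Subalgebra.toSubmodule S).FG := by
    haveI : IsNoetherian R M := isNoetherian_of_fg_of_noetherian M (Submodule.fg_span_singleton _)
    have h1 : ((Subalgebra.toSubmodule S).comap M.subtype).FG := IsNoetherian.noetherian _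
    have h2 := h1.map M.subtype
    rwa [Submodule.map_comap_subtype, inf_eq_right.2 hle] at h2
  obtain ⟨r, hr⟩ := IsIntegrallyClosed.isIntegral_iff.1
    (IsIntegral.of_mem_of_fg S hfg h (Algebra.subset_adjoin rfl))
  exact ⟨r, hr⟩

variable {X : Scheme.{u}} [IsIntegral X]

/-- A point at which all functions of an affine open are regular belongs to it. -/
theorem mem_of_regular [X.IsSeparated] {U : X.Opens} (hU : IsAffineOpen U) (hη : genericPoint X ∈ U) (ξ : X)
    (h : ∀ g : Γ(X, U), X.presheaf.germ U (genericPoint X) hη g ∈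
      Set.range (X.presheaf.stalkSpecializes (genericPoint_specializes ξ))) : ξ ∈ U := by
  let sp := (X.presheaf.stalkSpecializes (genericPoint_specializes ξ)).hom
  have hinj : Function.Injective sp := IsFractionRing.injective (X.presheaf.stalk ξ) X.functionField
  choose φ hφ using h
  let ψ : Γ(X, U) →+* X.presheaf.stalk ξ :=
    { toFun := φ
      map_one' := hinj (by show sp (φ 1) = sp 1; rw [map_one]; exact (hφ 1).trans (map_one _))
      map_mul' := fun a b => hinj (by
        show sp (φ (a * b)) = sp (φ a * φ b)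
        rw [map_mul]
        exact (hφ _).trans ((map_mul _ _ _).trans (congrArg₂ (· * ·) (hφ a).symm (hφ b).symm)))
      map_zero' := hinj (by show sp (φ 0) = sp 0; rw [map_zero]; exact (hφ 0).trans (map_zero _))
      map_add' := fun a b => hinj (by
        show sp (φ (a + b)) = sp (φ a + φ b)
        rw [map_add]
        exact (hφ _).trans ((map_add _ _ _).trans (congrArg₂ (· + ·) (hφ a).symm (hφ b).symm))) }
  have hcomp : CommRingCat.ofHom ψ ≫ X.presheaf.stalkSpecializes (genericPoint_specializes ξ) =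
      X.presheaf.germ U (genericPoint X) hη := CommRingCat.hom_ext (RingHom.ext fun g => hφ g)
  haveI : IsDomain (X.presheaf.stalk ξ) := inferInstance
  haveI : IsDominant (Spec.map (X.presheaf.stalkSpecializes (genericPoint_specializes ξ))) := by
    refine ⟨PrimeSpectrum.denseRange_comap_iff_ker_le_nilRadical _ |>.2 ?_⟩
    rw [(RingHom.injective_iff_ker_eq_bot sp).1 hinj]
    exact bot_le
  have key : X.fromSpecStalk ξ = Spec.map (CommRingCat.ofHom ψ) ≫ hU.fromSpec := by
    refine ext_of_isDominant (Spec.map (X.presheaf.stalkSpecializes (genericPoint_specializes ξ))) ?_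
    rw [Scheme.SpecMap_stalkSpecializes_fromSpecStalk, ← Category.assoc, ← Spec.map_comp, hcomp,
      ← hU.fromSpecStalk_eq_fromSpecStalk hη]
    rfl
  have h2 := congrArg (fun f => (f : Spec (X.presheaf.stalk ξ) ⟶ X) (IsLocalRing.closedPoint (X.presheaf.stalk ξ))) key
  simp only [Scheme.fromSpecStalk_closedPoint] at h2
  rw [h2]
  exact hU.range_fromSpec.le ⟨_, rfl⟩

/-- A closed point on a finite family of divisors is in the closure of a point off all of them. -/
theorem exists_generization_notMem [IsLocallyNoetherian X] {r : ℕ} (ξ : Fin r → X)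
    (hξ : ∀ j, ξ j ≠ genericPoint X) {x : X} (hx : ∃ j, ξ j ⤳ x) (hne : ∀ j, ξ j ⤳ x → ξ j ≠ x) :
    ∃ p, p ⤳ x ∧ p ≠ genericPoint X ∧ ∀ j, ¬ ξ j ⤳ p := by
  classical
  obtain ⟨_, ⟨W, hW, rfl⟩, hxW, -⟩ := X.isBasis_affineOpens.exists_subset_of_mem_open (Set.mem_univ x) isOpen_univ
  haveI := IsLocallyNoetherian.component_noetherian ⟨W, hW⟩
  haveI : Nonempty W := ⟨⟨x, hxW⟩⟩
  replace hW : IsAffineOpen W := hW
  let A := Γ(X, W)
  let P : PrimeSpectrum A := hW.primeIdealOf ⟨x, hxW⟩
  have hPx : hW.fromSpec P = x := hW.fromSpec_primeIdealOf _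
  have hWmem : ∀ z, z ⤳ x → z ∈ W := fun z hz => hz.mem_open W.2 hxW
  let pr : ∀ z, z ⤳ x → PrimeSpectrum A := fun z hz => hW.primeIdealOf ⟨z, hWmem z hz⟩
  have hfs : ∀ z hz, hW.fromSpec (pr z hz) = z := fun z hz => hW.fromSpec_primeIdealOf _
  have hle : ∀ (p q : PrimeSpectrum A), hW.fromSpec p ⤳ hW.fromSpec q ↔ p.asIdeal ≤ q.asIdeal := fun p q =>
    (hW.fromSpec.isOpenEmbedding.isInducing.specializes_iff).trans (PrimeSpectrum.le_iff_specializes p q).symm
  let Q : Fin r → Ideal A := fun j => if h : ξ j ⤳ x then (pr _ h).asIdeal else ⊥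
  obtain ⟨j₀, hj₀⟩ := hx
  have hnot : ¬ ((P.asIdeal : Set A) ⊆ ⋃ j ∈ ((Finset.univ : Finset (Fin r)) : Set (Fin r)), (Q j : Set A)) := by
    rw [Ideal.subset_union_prime j₀ j₀ (fun j _ _ _ => by
      simp only [Q]; split_ifs with h
      · exact (pr _ h).isPrime
      · exact Ideal.isPrime_bot)]
    rintro ⟨j, -, hj⟩
    simp only [Q] at hj
    split_ifs at hj with h
    · have h1 : x ⤳ ξ j := by
        have := (hle P (pr _ h)).2 hj
        rwa [hPx, hfs _ h] at this
      exact hne j h (h.antisymm h1).eq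
    · have h1 : P.asIdeal = ⊥ := le_bot_iff.1 hj
      have h2 : (pr _ hj₀).asIdeal = ⊥ := le_bot_iff.1 (h1 ▸ (hle _ P).1 (by
        rw [hPx, hfs _ hj₀]; exact hj₀))
      refine hne j₀ hj₀ ?_
      rw [← hfs _ hj₀, ← hPx]
      exact congrArg _ (PrimeSpectrum.ext (h2.trans h1.symm))
  obtain ⟨a, haP, haQ⟩ := Set.not_subset.1 hnot
  simp only [Set.mem_iUnion, not_exists] at haQ
  obtain ⟨q, hq, hqP⟩ := Ideal.exists_minimalPrimes_le ((Ideal.span_singleton_le_iff_mem _).2 haP)
  haveI := hq.1.1
  have haq : a ∈ q := hq.1.2 (Ideal.mem_span_singleton_self a)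
  let qq : PrimeSpectrum A := ⟨q, hq.1.1⟩
  have ha0 : a ≠ 0 := fun h => haQ j₀ (Finset.mem_coe.2 (Finset.mem_univ _)) (h ▸ zero_mem _)
  refine ⟨hW.fromSpec qq, ?_, ?_, fun j hj => ?_⟩
  · have := (hle qq P).2 hqP
    rwa [hPx] at this
  · intro h
    let zz : PrimeSpectrum A := ⟨⊥, Ideal.isPrime_bot⟩
    have h1 : hW.fromSpec qq ⤳ hW.fromSpec zz := by rw [h]; exact genericPoint_specializes _
    exact ha0 ((Submodule.mem_bot A).1 (((hle qq zz).1 h1) haq))
  · have hjx : ξ j ⤳ x := hj.trans (by
      have := (hle qq P).2 hqP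
      rwa [hPx] at this)
    rw [← hfs _ hjx, hle] at hj
    have hQj : Q j = (pr _ hjx).asIdeal := dif_pos hjx
    have hne0 : (pr _ hjx).asIdeal ≠ ⊥ := fun h0 => by
      apply hξ j
      let zz : PrimeSpectrum A := ⟨⊥, Ideal.isPrime_bot⟩
      have e : pr _ hjx = zz := PrimeSpectrum.ext h0
      have h1 : hW.fromSpec zz ⤳ genericPoint X := by
        obtain ⟨g, hg⟩ := hW.range_fromSpec.ge (((genericPoint_spec X).mem_open_set_iff W.2).2 ⟨x, trivial, hxW⟩)
        rw [← hg, hle]
        exact bot_le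
      rw [← hfs _ hjx, e]
      exact (h1.antisymm (genericPoint_specializes _)).eq
    have hlt : (pr _ hjx).asIdeal < q := lt_of_le_of_ne hj fun e =>
      haQ j (Finset.mem_coe.2 (Finset.mem_univ _)) (hQj ▸ e ▸ haq)
    have h1 : q.height ≤ 1 := Ideal.height_le_one_of_isPrincipal_of_mem_minimalPrimes _ q hq
    haveI := (pr _ hjx).isPrime
    haveI : q.FiniteHeight := ⟨Or.inr (ne_top_of_le_ne_top ENat.one_ne_top h1)⟩
    have h3 : q.height ≤ (pr _ hjx).asIdeal.height := le_trans h1 (ENat.one_le_iff_ne_zero.2 fun h0 =>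
      hne0 (Ideal.height_eq_zero_iff_eq_bot.1 h0))
    haveI : (pr _ hjx).asIdeal.FiniteHeight := Ideal.finiteHeight_of_le hlt.le hq.1.1.ne_top
    exact absurd (Ideal.height_strict_mono_of_isPrime hlt) (not_lt.2 h3)

end Groth.Agent.SurfInt
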