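import Mathlib.Algebra.MvPolynomial.Degrees
import Mathlib.Algebra.MvPolynomial.Eval
import Mathlib.Algebra.BigOperators.Ring.Finset
import Mathlib.Algebra.BigOperators.Group.Finset.Powerset
import Mathlib.Algebra.BigOperators.Fin
import Mathlib.Data.Fin.Tuple.Basic
import Mathlib.Data.Finset.Sort
import Mathlib.Tactic.Ring
import Mathlib.Tactic.Abel

/-! Alternating sums of an integer function on a commutative monoid over the products of subfamilies. -/

noncomputable section

namespace Groth.Agent.SurfInt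

variable {G : Type*} [CommMonoid G] {ι κ : Type*}

/-- `Σ_{I ⊆ s} (-1)^|I| g (∏_{i ∈ I} m i)`. -/
def dd (g : G → ℤ) (s : Finset ι) (m : ι → G) : ℤ :=
  ∑ I ∈ s.powerset, (-1 : ℤ) ^ I.card * g (∏ i ∈ I, m i)

/-- The alternating sum over all subfamilies of `m : Fin r → G`. -/
def dn {r : ℕ} (g : G → ℤ) (m : Fin r → G) : ℤ := dd g Finset.univ m

theorem dd_cons (g : G → ℤ) {s : Finset ι} {a : ι} (ha : a ∉ s) (m : ι → G) :
    dd g (s.cons a ha) m = dd g s m - dd (fun x => g (m a * x)) s m := by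
  classical
  rw [dd, dd, dd, Finset.cons_eq_insert, Finset.sum_powerset_insert ha, sub_eq_add_neg, ← Finset.sum_neg_distrib]
  congr 1
  refine Finset.sum_congr rfl fun t ht => ?_
  have hat : a ∉ t := fun h => ha (Finset.mem_powerset.1 ht h)
  rw [Finset.card_insert_of_notMem hat, Finset.prod_insert hat, pow_succ]
  ring

theorem dd_map (g : G → ℤ) (s : Finset κ) (e : κ ↪ ι) (m : ι → G) :
    dd g (s.map e) m = dd g s (fun i => m (e i)) := by
  classical
  rw [dd, dd]
  refine (Finset.sum_nbij (fun t => t.map e) ?_ ?_ ?_ ?_).symm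
  · exact fun t ht => Finset.mem_powerset.2 (Finset.map_subset_map.2 (Finset.mem_powerset.1 ht))
  · exact fun t _ t' _ h => Finset.map_injective e h
  · intro t ht
    obtain ⟨t', ht', rfl⟩ := Finset.subset_map_iff.1 (Finset.mem_powerset.1 ht)
    exact ⟨t', Finset.mem_powerset.2 ht', rfl⟩
  · intro t _
    rw [Finset.card_map, Finset.prod_map]

theorem dn_zero (g : G → ℤ) (m : Fin 0 → G) : dn g m = g 1 := by
  simp [dn, dd]

theorem dn_succ {r : ℕ} (g : G → ℤ) (m : Fin (r + 1) → G) :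
    dn g m = dn g (fun i => m i.succ) - dn (fun x => g (m 0 * x)) (fun i => m i.succ) := by
  rw [dn, Fin.univ_succ, dd_cons, dd_map, dd_map]
  rfl

theorem dn_cons {r : ℕ} (g : G → ℤ) (a : G) (m : Fin r → G) :
    dn g (Fin.cons a m) = dn g m - dn (fun x => g (a * x)) m := by
  rw [dn_succ]
  simp only [Fin.cons_zero, Fin.cons_succ]

theorem dn_two (g : G → ℤ) (a b : G) : dn g ![a, b] = g 1 - g b - g a + g (a * b) := by
  have hv : (![a, b] : Fin 2 → G) = Fin.cons a (Fin.cons b ![]) := rfl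
  rw [hv]
  simp only [dn_cons, dn_zero, mul_one]
  ring

theorem dn_one (g : G → ℤ) (a : G) : dn g ![a] = g 1 - g a := by
  have hv : (![a] : Fin 1 → G) = Fin.cons a ![] := rfl
  rw [hv]
  simp only [dn_cons, dn_zero, mul_one]

theorem dn_cons_one {r : ℕ} (g : G → ℤ) (m : Fin r → G) : dn g (Fin.cons 1 m) = 0 := by
  simp [dn_cons]

/-- The defect of additivity in the first argument is the sum with one more argument. -/
theorem dn_cons_mul {r : ℕ} (g : G → ℤ) (a b : G) (m : Fin r → G) :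
    dn g (Fin.cons (a * b) m) =
      dn g (Fin.cons a m) + dn g (Fin.cons b m) - dn g (Fin.cons a (Fin.cons b m)) := by
  simp only [dn_cons]
  have h : (fun x => g (a * b * x)) = fun x => g (a * (b * x)) := funext fun x => by rw [mul_assoc]
  rw [h]
  ring

theorem dn_perm {r : ℕ} (g : G → ℤ) (m : Fin r → G) (e : Equiv.Perm (Fin r)) :
    dn g (fun i => m (e i)) = dn g m := by
  have h := dd_map g Finset.univ e.toEmbedding m
  rw [Finset.map_univ_equiv] at h
  exact h.symm

theorem dn_congr {r : ℕ} {g g' : G → ℤ} (m : Fin r → G)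
    (h : ∀ I : Finset (Fin r), g (∏ i ∈ I, m i) = g' (∏ i ∈ I, m i)) : dn g m = dn g' m :=
  by rw [dn, dn, dd, dd]; exact Finset.sum_congr rfl fun I _ => congrArg (fun z => (-1 : ℤ) ^ I.card * z) (h I)

theorem dn_add {r : ℕ} (g g' : G → ℤ) (m : Fin r → G) : dn (g + g') m = dn g m + dn g' m := by
  rw [dn, dd, dn, dd, dn, dd, ← Finset.sum_add_distrib]
  refine Finset.sum_congr rfl fun I _ => ?_
  rw [Pi.add_apply]
  ring

theorem neg_one_pow_mul_prod_eq {r : ℕ} (α : Fin r →₀ ℕ) :
    ∑ I : Finset (Fin r), (-1 : ℚ) ^ I.card * ∏ i, ((if i ∈ I then 1 else 0 : ℚ)) ^ α i =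
      ∏ i, ((-1 : ℚ) + 0 ^ α i) := by
  rw [Finset.prod_add, Finset.powerset_univ]
  refine Finset.sum_congr rfl fun I _ => ?_
  rw [Finset.prod_const]
  congr 1
  rw [← Finset.prod_sdiff (Finset.subset_univ I)]
  have h1 : ∀ i ∈ I, ((if i ∈ I then (1 : ℚ) else 0)) ^ α i = 1 := fun i hi => by rw [if_pos hi, one_pow]
  rw [Finset.prod_congr rfl h1, Finset.prod_const_one, mul_one]
  exact Finset.prod_congr rfl fun i hi => by rw [if_neg (Finset.mem_sdiff.1 hi).2]

/-- The alternating sum of a polynomial of small degree over the vertices of the cube vanishes. -/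
theorem sum_cube_eq_zero {r : ℕ} {P : MvPolynomial (Fin r) ℚ} (hP : P.totalDegree < r) :
    ∑ I : Finset (Fin r), (-1 : ℚ) ^ I.card * MvPolynomial.eval (fun i => if i ∈ I then 1 else 0) P = 0 := by
  simp only [MvPolynomial.eval_eq', Finset.mul_sum]
  rw [Finset.sum_comm]
  refine Finset.sum_eq_zero fun α hα => ?_
  obtain ⟨i, hi⟩ : ∃ i, α i = 0 := by
    by_contra hne
    simp only [not_exists] at hne
    have h1 : α.sum (fun _ e => e) ≤ P.totalDegree := MvPolynomial.le_totalDegree hα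
    rw [Finsupp.sum_fintype _ _ (fun _ => rfl)] at h1
    have h2 : (r : ℕ) ≤ ∑ i, α i := by
      calc r = ∑ _i : Fin r, 1 := by simp
        _ ≤ ∑ i, α i := Finset.sum_le_sum fun i _ => Nat.one_le_iff_ne_zero.2 (hne i)
    omega
  have hz : ∏ j, ((-1 : ℚ) + 0 ^ α j) = 0 :=
    Finset.prod_eq_zero (Finset.mem_univ i) (by rw [hi, pow_zero]; norm_num)
  have key := neg_one_pow_mul_prod_eq α
  rw [hz] at key
  calc _ = P.coeff α * ∑ I : Finset (Fin r), (-1 : ℚ) ^ I.card * ∏ j, ((if j ∈ I then 1 else 0 : ℚ)) ^ α j := by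
        rw [Finset.mul_sum]; exact Finset.sum_congr rfl fun I _ => by ring
    _ = 0 := by rw [key, mul_zero]

/-- Polynomiality of small degree forces the alternating sum to vanish. -/
theorem dn_eq_zero_of_mpoly {r : ℕ} (g : G → ℤ) (m : Fin r → G) {P : MvPolynomial (Fin r) ℚ}
    (hP : P.totalDegree < r)
    (h : ∀ n : Fin r → ℕ, (g (∏ i, m i ^ n i) : ℚ) = MvPolynomial.eval (fun i => (n i : ℚ)) P) :
    dn g m = 0 := by
  apply Int.cast_injective (α := ℚ)
  rw [dn, dd, Finset.powerset_univ, Int.cast_sum, Int.cast_zero, ← sum_cube_eq_zero hP]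
  refine Finset.sum_congr rfl fun I _ => ?_
  have h1 := h fun i => if i ∈ I then 1 else 0
  have e1 : ∏ i, m i ^ (if i ∈ I then 1 else 0 : ℕ) = ∏ i ∈ I, m i := by
    simp only [pow_ite, pow_one, pow_zero]
    rw [Finset.prod_ite_mem, Finset.univ_inter]
  rw [e1] at h1
  push_cast
  rw [h1]
  simp only [Nat.cast_ite, Nat.cast_one, Nat.cast_zero]

end Groth.Agent.SurfInt
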