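import Groth.Agent.SurfInt.AsympLib

/-! Asymptotic cohomology of invertible modules with a Zariski decomposition on a surface. -/

noncomputable section

set_option linter.style.haveILetI false
set_option linter.unusedSectionVars false
set_option backward.isDefEq.respectTransparency false
set_option backward.isDefEq.respectTransparency.types false

universe u

open CategoryTheory CategoryTheory.Limits AlgebraicGeometry TopologicalSpace Opposite
open scoped Groth.Agent.H23.PicMul

namespace Groth.Agent.SurfInt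

open Groth.Agent
open Groth.Agent.PnCoh.Finite (mapLin deltaLin)

/-- A negative definite matrix with non-negative off-diagonal entries maps some positive vector to a
negative one. -/
theorem exists_neg_comb {r : ℕ} (M : Matrix (Fin r) (Fin r) ℤ)
    (hoff : ∀ i l, i ≠ l → 0 ≤ M i l)
    (hneg : ∀ v : Fin r → ℤ, v ≠ 0 → ∑ i, ∑ j, v i * v j * M i j < 0) :
    ∃ w : Fin r → ℕ, (∀ i, 0 < w i) ∧ ∀ i, ∑ l, (w l : ℤ) * M i l < 0 := by
  classical
  have hdet : M.det ≠ 0 := fun h => by
    obtain ⟨v, hv, hv'⟩ := Matrix.exists_mulVec_eq_zero_iff.2 h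
    have := hneg v hv
    have h0 : ∑ i, ∑ j, v i * v j * M i j = 0 :=
      Finset.sum_eq_zero fun i _ => by
        have h3 : ∑ j, M i j * v j = 0 := congrFun hv' i
        rw [← mul_zero (v i), ← h3, Finset.mul_sum]
        exact Finset.sum_congr rfl fun j _ => by ring
    omega
  obtain ⟨m, hm, b, hb⟩ : ∃ m : ℕ, 0 < m ∧ ∃ b : Fin r → ℤ, ∀ i, ∑ l, M i l * b l = -(m : ℤ) := by
    refine ⟨M.det.natAbs, Int.natAbs_pos.2 hdet, (-M.det.sign) • M.cramer (fun _ => 1), fun i => ?_⟩
    have h3 : ∑ l, M i l * M.cramer (fun _ => 1) l = M.det * 1 := congrFun (Matrix.mulVec_cramer M fun _ => 1) i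
    calc ∑ l, M i l * ((-M.det.sign) • M.cramer (fun _ => 1)) l
        = -M.det.sign * ∑ l, M i l * M.cramer (fun _ => 1) l := by
          rw [Finset.mul_sum]; exact Finset.sum_congr rfl fun l _ => by simp only [Pi.smul_apply, smul_eq_mul]; ring
      _ = -(M.det.sign * M.det) := by rw [h3]; ring
      _ = _ := by rw [Int.sign_mul_self_eq_natAbs]
  have hbnn : ∀ i, 0 ≤ b i := by
    by_contra hcon
    push Not at hcon
    obtain ⟨i₀, hi₀⟩ := hcon
    have hn0 : np b ≠ 0 := fun h => by
      have := congrFun h i₀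
      simp only [np, Pi.zero_apply] at this
      omega
    have h1 := hneg (np b) hn0
    have h2 : ∑ i, ∑ l, np b i * (pp b l - np b l) * M i l ≤ 0 := Finset.sum_nonpos fun i _ => by
      have h3 : ∑ l, np b i * (pp b l - np b l) * M i l = np b i * -(m : ℤ) := by
        rw [← hb i, Finset.mul_sum]
        exact Finset.sum_congr rfl fun l _ => by
          rw [show pp b l - np b l = b l from congrFun (pp_sub_np b) l]; ring
      rw [h3]
      exact mul_nonpos_of_nonneg_of_nonpos (np_nonneg b i) (by omega)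
    have h4 : 0 ≤ ∑ i, ∑ l, np b i * pp b l * M i l := Finset.sum_nonneg fun i _ => Finset.sum_nonneg fun l _ => by
      by_cases hil : i = l
      · subst hil
        rw [mul_comm (np b i), pp_mul_np, zero_mul]
      · exact mul_nonneg (mul_nonneg (np_nonneg b i) (pp_nonneg b l)) (hoff i l hil)
    simp only [mul_sub, sub_mul, Finset.sum_sub_distrib] at h2
    omega
  refine ⟨fun i => (b i).toNat, fun i => ?_, fun i => ?_⟩
  · by_contra h
    have hbi : b i = 0 := by have := hbnn i; simp only at h; omega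
    have h1 : 0 ≤ ∑ l, M i l * b l := Finset.sum_nonneg fun l _ => by
      by_cases hil : i = l
      · subst hil; rw [hbi, mul_zero]
      · exact mul_nonneg (hoff i l hil) (hbnn l)
    rw [hb] at h1
    omega
  · have h1 : ∑ l, ((b l).toNat : ℤ) * M i l = ∑ l, M i l * b l := Finset.sum_congr rfl fun l _ => by
      rw [Int.toNat_of_nonneg (hbnn l), mul_comm]
    rw [h1, hb]
    omega

variable (k : Type u) [Field k] {X : Scheme.{u}} [X.Over (Spec (CommRingCat.of k))]
  [IsProper (X ↘ Spec (CommRingCat.of k))] [IsIntegral X] (hdim : topologicalKrullDim X = 2)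
  (hreg : ∀ x : X, IsRegularLocalRing (X.presheaf.stalk x))

section Step

variable (C : X.IdealSheafData) [IsIntegral C.subscheme] (hC : topologicalKrullDim (C.support : Set X) = 1)

include hC in
theorem h0_step {M : X.Modules} (hM : PicF.IsInvertible M) (h : degOn k (ClSub.quotMod C) M < 0) :
    hCl k 0 (PicF.cl M) ≤ hCl k 0 (PicF.cl M * PicF.cl (ClSub.idealMod C)) := by
  haveI := noeth k (X := X)
  obtain ⟨B, hB⟩ := exists_h_curve_le k C hC
  have h0 := (hB M hM).1 h
  obtain ⟨S, hS, e1, e2, e3⟩ : ∃ S : ShortComplex X.Modules, S.ShortExact ∧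
      S.X₁ = CohB1.tensorMod M (ClSub.idealMod C) ∧ PicF.cl S.X₂ = PicF.cl M ∧
      S.X₃ = CohB1.tensorMod M (ClSub.quotMod C) :=
    ⟨_, CurveTensor.shortExact_tensor (E := M) (H23.PullPush.isFinLocFree_of_isInvertible hM) _ _ _
      (shortExact_ideal C), rfl, by rw [← mul_one (PicF.cl M)]; rfl, rfl⟩
  have h2c : Coh.IsCoh S.X₂ := isCoh_congr (H23.PicMul.cl_eq_iff.1 e2.symm).some (CurveDeg.isCoh_of_isInvertible hM)
  have hIc : Coh.IsCoh S.X₁ := by rw [e1]; exact isCoh_inv_tensor hM (isCoh_idealMod k C)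
  haveI := CurveCohLib.finite_HH (k := k) h2c 0
  haveI := CurveCohLib.finite_HH (k := k) hIc 0
  have h3c : Coh.IsCoh S.X₃ := by rw [e3]; exact isCoh_inv_tensor hM (isCoh_quotMod k C)
  haveI := CurveCohLib.finite_HH (k := k) h3c 0
  have hz : Module.finrank k (Coh.HH X S.X₃ 0) = 0 := by rw [e3]; exact h0
  haveI : Subsingleton (Coh.HH X S.X₃ 0) := Module.finrank_zero_iff.1 hz
  have hsurj : LinearMap.range (mapLin k S.f 0) = ⊤ := by
    rw [← CurveCohLib.ker_mapLin_g (A := k) hS 0, LinearMap.ker_eq_top]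
    exact LinearMap.ext fun x => Subsingleton.elim _ _
  have := LinearMap.finrank_range_le (mapLin k S.f 0)
  rw [hsurj, finrank_top] at this
  rw [← H23.PicMul.cl_tensor, ← e1, ← e2, hCl_cl, hCl_cl]
  exact this

include hC in
theorem h2_step : ∃ B : ℕ, ∀ M : X.Modules, PicF.IsInvertible M →
    hCl k 2 (PicF.cl M * PicF.cl (ClSub.idealMod C)) ≤
      hCl k 2 (PicF.cl M) + (B + (degOn k (ClSub.quotMod C) M).natAbs) := by
  haveI := noeth k (X := X)
  obtain ⟨B, hB⟩ := exists_h_curve_le k C hC
  refine ⟨B, fun M hM => ?_⟩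
  have h1 := (hB M hM).2
  obtain ⟨S, hS, e1, e2, e3⟩ : ∃ S : ShortComplex X.Modules, S.ShortExact ∧
      S.X₁ = CohB1.tensorMod M (ClSub.idealMod C) ∧ PicF.cl S.X₂ = PicF.cl M ∧
      S.X₃ = CohB1.tensorMod M (ClSub.quotMod C) :=
    ⟨_, CurveTensor.shortExact_tensor (E := M) (H23.PullPush.isFinLocFree_of_isInvertible hM) _ _ _
      (shortExact_ideal C), rfl, by rw [← mul_one (PicF.cl M)]; rfl, rfl⟩
  have h2c : Coh.IsCoh S.X₂ := isCoh_congr (H23.PicMul.cl_eq_iff.1 e2.symm).some (CurveDeg.isCoh_of_isInvertible hM)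
  have hIc : Coh.IsCoh S.X₁ := by rw [e1]; exact isCoh_inv_tensor hM (isCoh_idealMod k C)
  have h3c : Coh.IsCoh S.X₃ := by rw [e3]; exact isCoh_inv_tensor hM (isCoh_quotMod k C)
  haveI := CurveCohLib.finite_HH (k := k) h2c 2
  haveI := CurveCohLib.finite_HH (k := k) hIc 2
  haveI := CurveCohLib.finite_HH (k := k) h3c 1
  rw [← H23.PicMul.cl_tensor, ← e1, ← e2, hCl_cl, hCl_cl]
  have h4 := LinearMap.finrank_range_add_finrank_ker (mapLin k S.f 2)
  rw [CurveCohLib.ker_mapLin_f_succ (A := k) hS 1] at h4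
  have h5 := Submodule.finrank_le (LinearMap.range (mapLin k S.f 2))
  have h6 := LinearMap.finrank_range_le (deltaLin k hS 1)
  rw [show Module.finrank k (Coh.HH X S.X₃ 1) =
    Module.finrank k (Coh.HH X (CohB1.tensorMod M (ClSub.quotMod C)) 1) by rw [e3]] at h6
  exact h4.symm.le.trans (Nat.add_le_add h5 (h6.trans h1))

end Step

include hdim

theorem dot_nef_ample_nonneg {P H : X.Modules} (hP : PicF.IsInvertible P) (hH : CohB1.IsAmple H)
    (h : ∀ C : X.IdealSheafData, IsIntegral C.subscheme → topologicalKrullDim (C.support : Set X) = 1 →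
      0 ≤ degOn k (ClSub.quotMod C) P) : 0 ≤ dot k P H := by
  have hd := hdim.le
  have hh := dot_self_pos_of_isAmple k hdim hH
  obtain ⟨n, hn⟩ := exists_sections_of_pos k hdim hH.1 hH hh hh
  obtain ⟨s, hs⟩ := exists_section_ne_zero (hn (n + 1) (Nat.le_succ n))
  have hHn := H23.PicMul.isInvertible_tensorPow hH.1 (n + 1)
  have h1 : 0 ≤ dot k (CohB1.tensorPow H (n + 1)) P := by
    rw [dot_section_eq k hd hHn hP s hs]
    exact degOn_nonneg_of_curves k hP h (isCoh_quotMod k _)
      (dim_support_quotMod (dim_support_effCartier k hdim (isInverseOf_zeroScheme hHn s hs).1))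
  rw [dot_tensorPow_left k hd hH.1 hP, dot_comm k hd hH.1 hP] at h1
  exact nonneg_of_mul_nonneg_right h1 (by exact_mod_cast n.succ_pos)

/-- Twisting by a large power of an ample module makes sections equal the Euler characteristic. -/
theorem exists_h0_eq_euler {A G : X.Modules} (hA : CohB1.IsAmple A) (hG : PicF.IsInvertible G) :
    ∃ p₀ : ℕ, ∀ p, p₀ ≤ p →
      2 * (Module.finrank k (Coh.HH X (CohB1.tensorMod G (CohB1.tensorPow A p)) 0) : ℤ) =
        (p : ℤ) ^ 2 * dot k A A + (p : ℤ) * (2 * (Curv2.euler k X A - Curv2.euler k X (Coh.structureModule X)) -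
          dot k A A + 2 * dot k G A) + 2 * Curv2.euler k X G := by
  haveI := noeth k (X := X)
  haveI : X.IsSeparated := ⟨by
    rw [← Limits.terminal.comp_from (X ↘ Spec (CommRingCat.of k))]
    infer_instance⟩
  obtain ⟨d₀, hvan⟩ := AmpleVan.exists_vanishing (A := k) hA (CurveDeg.isCoh_of_isInvertible hG)
  refine ⟨d₀, fun p hp => ?_⟩
  have hAp := H23.PicMul.isInvertible_tensorPow hA.1 p
  have he := euler_tensor_eq k hdim.le hG hAp
  haveI := hvan p hp 0
  haveI := hvan p hp 1
  rw [Euler.euler_eq_sum k (CohB1.tensorMod G (CohB1.tensorPow A p)) 3 fun i hi =>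
    Snapper.subsingleton_HH_of_dim_le (d := 2) hdim.le (ZeroSchX.isQCoh_inv (H23.PicMul.isInvertible_tensor hG hAp))
      (Nat.lt_of_succ_le hi)] at he
  simp only [Finset.sum_range_succ, Finset.sum_range_zero] at he
  rw [Module.finrank_zero_of_subsingleton (M := Coh.HH X (CohB1.tensorMod G (CohB1.tensorPow A p)) (1 + 1)),
    Module.finrank_zero_of_subsingleton (M := Coh.HH X (CohB1.tensorMod G (CohB1.tensorPow A p)) (0 + 1))] at he
  norm_num at he
  have h2 := two_mul_euler_tensorPow k hdim.le hA.1 p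
  rw [dot_comm k hdim.le hG hAp, dot_tensorPow_left k hdim.le hA.1 hG, dot_comm k hdim.le hA.1 hG] at he
  linarith

include hreg

/-- Second cohomology is at most linear in the degree on a fixed curve. -/
theorem exists_h2_le {H : X.Modules} (hH : CohB1.IsAmple H) :
    ∃ (C : X.IdealSheafData) (j B : ℕ), IsIntegral C.subscheme ∧ topologicalKrullDim (C.support : Set X) = 1 ∧
      ∀ F : X.Modules, PicF.IsInvertible F → 0 ≤ dot k F H →
        Module.finrank k (Coh.HH X F 2) ≤ B + j * (degOn k (ClSub.quotMod C) F).natAbs := by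
  have hd := hdim.le
  have hh := dot_self_pos_of_isAmple k hdim hH
  obtain ⟨n, hn⟩ := exists_sections_of_pos k hdim hH.1 hH hh hh
  obtain ⟨s, hs⟩ := exists_section_ne_zero (hn (n + 1) (Nat.le_succ n))
  have hHn := H23.PicMul.isInvertible_tensorPow hH.1 (n + 1)
  have hne : PicF2.zeroScheme _ s ≠ ⊤ := fun htop => by
    obtain ⟨e⟩ := nonempty_iso_of_zeroScheme_eq_top hHn s hs htop
    have h1 := dot_congr k hd hHn hH.1 e (Iso.refl H)
    rw [dot_one_left k hd hH.1, dot_tensorPow_left k hd hH.1 hH.1] at h1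
    exact (mul_pos (by exact_mod_cast n.succ_pos : (0 : ℤ) < (n + 1 : ℕ)) hh).ne' h1
  obtain ⟨C, hCi, hC, -⟩ := exists_curve_le k hdim (isInverseOf_zeroScheme hHn s hs).1 hne
  haveI := hCi
  have hI := isInvertible_curve k hdim hreg C hC
  obtain ⟨O, hO, eO⟩ := H23.PicInv.exists_inverse hI
  obtain ⟨n₀, hn₀⟩ := exists_bound_h2 k hdim hH
  obtain ⟨B, hB⟩ := h2_step k C hC
  set c := degOn k (ClSub.quotMod C) O
  refine ⟨C, n₀.natAbs + 1, (n₀.natAbs + 1) * (B + (n₀.natAbs + 1) * c.natAbs), hCi, hC, fun F hF hFH => ?_⟩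
  set j := n₀.natAbs + 1 with hj
  set d := degOn k (ClSub.quotMod C) F
  have hinv : ∀ i, PicF.IsInvertible (CohB1.tensorMod F (CohB1.tensorPow O i)) := fun i =>
    H23.PicMul.isInvertible_tensor hF (H23.PicMul.isInvertible_tensorPow hO i)
  have hOI : PicF.cl O * PicF.cl (ClSub.idealMod C) = 1 := by
    rw [mul_comm]
    exact H23.PicMul.cl_eq_iff.2 eO
  have hstep : ∀ i, i ≤ j → hCl k 2 (PicF.cl F) ≤
      hCl k 2 (PicF.cl F * PicF.cl O ^ i) + i * (B + (d.natAbs + j * c.natAbs)) := by
    intro i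
    induction i with
    | zero => intro _; rw [pow_zero, mul_one, Nat.zero_mul, add_zero]
    | succ i ih =>
      intro hi
      refine (ih (by omega)).trans ?_
      have h := hB _ (hinv (i + 1))
      rw [H23.PicMul.cl_tensor, H23.PicMul.cl_tensorPow, mul_assoc, pow_succ, mul_assoc (PicF.cl O ^ i), hOI,
        mul_one, ← pow_succ, degOn_tensor k (isCoh_quotMod k C) (dim_support_quot_curve hC) hF
          (H23.PicMul.isInvertible_tensorPow hO (i + 1)),
        degOn_tensorPow k (isCoh_quotMod k C) (dim_support_quot_curve hC) hO] at h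
      have h1 : (d + ((i + 1 : ℕ) : ℤ) * c).natAbs ≤ d.natAbs + j * c.natAbs := by
        refine (Int.natAbs_add_le _ _).trans (Nat.add_le_add_left ?_ _)
        rw [Int.natAbs_mul, Int.natAbs_natCast]
        exact Nat.mul_le_mul_right _ hi
      have h2 : (i + 1) * (B + (d.natAbs + j * c.natAbs)) =
          i * (B + (d.natAbs + j * c.natAbs)) + (B + (d.natAbs + j * c.natAbs)) := Nat.succ_mul _ _
      change _ ≤ _ + (B + (d + ((i + 1 : ℕ) : ℤ) * c).natAbs) at h
      omega
  have h := hstep j le_rfl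
  rw [← H23.PicMul.cl_tensorPow, ← H23.PicMul.cl_tensor, hCl_cl, hCl_cl] at h
  haveI := hn₀ _ (hinv j) (by
    rw [dot_tensor_left k hd hF (H23.PicMul.isInvertible_tensorPow hO j) hH.1, dot_tensorPow_left k hd hO hH.1,
      dot_inv_left k hd hI hO hH.1 eO, dot_ideal_left k hd C hI hH.1, neg_neg]
    have h1 := degOn_ample_pos k C hC hH
    have h2 : (j : ℤ) * 1 ≤ j * degOn k (ClSub.quotMod C) H := mul_le_mul_of_nonneg_left h1 (Int.natCast_nonneg j)
    have h3 := Int.le_natAbs (a := n₀)
    omega)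
  rw [Module.finrank_zero_of_subsingleton (M := Coh.HH X (CohB1.tensorMod F (CohB1.tensorPow O j)) 2)] at h
  refine h.trans (le_of_eq ?_)
  ring

/-- Subtracting negative definite fixed components. -/
theorem h0_peel {r : ℕ} (N : Fin r → X.IdealSheafData) (hN : Function.Injective N)
    (hNi : ∀ i, IsIntegral (N i).subscheme) (hNd : ∀ i, topologicalKrullDim ((N i).support : Set X) = 1)
    (O : Fin r → X.Modules) (hO : ∀ i, PicF.IsInvertible (O i))
    (hOi : ∀ i, ClSub.IsInverseOf (ClSub.idealMod (N i)) (O i))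
    (w : Fin r → ℕ) (hw : ∀ i, 0 < w i)
    (hwneg : ∀ i, ∑ l, (w l : ℤ) * dot k (ClSub.idealMod (N i)) (ClSub.idealMod (N l)) < 0)
    (D : ℕ) {M : X.Modules} (hM : PicF.IsInvertible M)
    (hdeg : ∀ i, degOn k (ClSub.quotMod (N i)) M ≤ (D : ℤ)) (e : Fin r → ℕ) :
    hCl k 0 (PicF.cl M * PicF.cl (FGA.multiTwist O e)) ≤
      hCl k 0 (PicF.cl M * PicF.cl (FGA.multiTwist O fun l => w l * D)) := by
  classical
  have hd := hdim.le
  haveI := hNi
  have hI := fun i => isInvertible_curve k hdim hreg (N i) (hNd i)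
  set G : Fin r → Fin r → ℤ := fun i l => dot k (ClSub.idealMod (N i)) (ClSub.idealMod (N l)) with hG
  have hdegO : ∀ i l, degOn k (ClSub.quotMod (N i)) (O l) = G i l := fun i l => by
    rw [degOn_inv k (isCoh_quotMod k _) (dim_support_quot_curve (hNd i)) (hI l) (hO l) (hOi l), hG]
    exact (dot_ideal_left k hd _ (hI i) (hI l)).symm
  have hmt : ∀ (i) (e : Fin r → ℕ), PicF.IsInvertible (FGA.multiTwist O e) ∧
      degOn k (ClSub.quotMod (N i)) (FGA.multiTwist O e) = ∑ l, (e l : ℤ) * G i l := fun i e => by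
    obtain ⟨h1, h2⟩ := additive_multiTwist (fun A => degOn k (ClSub.quotMod (N i)) A) (degOn_one k _)
      (fun A A' hA hA' => degOn_tensor k (isCoh_quotMod k _) (dim_support_quot_curve (hNd i)) hA hA') O hO e
    exact ⟨h1, h2.trans (Finset.sum_congr rfl fun l _ => by rw [hdegO])⟩
  have heff : ∀ e : Fin r → ℕ, Nontrivial (Coh.HH X (FGA.multiTwist O e) 0) := fun e =>
    nontrivial_h0_multiTwist O hO (fun i => by
      obtain ⟨σ, hσ, -⟩ := AVAmple.exists_divisor_section_ne_zero (N i)
        (isEffCartier_curve k hdim hreg (N i) (hNd i)) (hO i) (isInverseOf_comm (hOi i))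
      obtain ⟨t, ht⟩ := secOf_surjective (O i) σ
      exact nontrivial_of_ne t 0 fun h0 => hσ (by
        rw [← ht, h0]
        exact map_zero (Sheaf.H.equiv₀ (Coh.toAb (O i)) isTerminalTop))) e
  suffices ∀ (n : ℕ) (e : Fin r → ℕ), ∑ i, e i = n → hCl k 0 (PicF.cl M * PicF.cl (FGA.multiTwist O e)) ≤
      hCl k 0 (PicF.cl M * PicF.cl (FGA.multiTwist O fun l => w l * D)) from this _ e rfl
  intro n
  induction n using Nat.strong_induction_on with
  | _ n ih =>
    intro e hen
    by_cases hcase : ∃ j, 0 < e j ∧ degOn k (ClSub.quotMod (N j)) M + ∑ l, (e l : ℤ) * G j l < 0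
    · obtain ⟨j, hj, hneg⟩ := hcase
      obtain ⟨hinv, hdege⟩ := hmt j e
      have h := h0_step k (N j) (hNd j) (H23.PicMul.isInvertible_tensor hM hinv) (by
        rw [degOn_tensor k (isCoh_quotMod k _) (dim_support_quot_curve (hNd j)) hM hinv, hdege]
        exact hneg)
      rw [H23.PicMul.cl_tensor] at h
      set e' := Function.update e j (e j - 1) with he'
      have hee : e = e' + Pi.single j 1 := funext fun l => by
        by_cases hl : l = j
        · subst hl; simp [he']; omega
        · simp [he', hl]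
      have hone : PicF.cl (FGA.multiTwist O (Pi.single j 1 : Fin r → ℕ)) = PicF.cl (O j) := by
        rw [cl_multiTwist, Finset.prod_eq_single j]
        · simp
        · intro l _ hl; simp [hl]
        · simp
      have hcancel : PicF.cl (FGA.multiTwist O e) * PicF.cl (ClSub.idealMod (N j)) =
          PicF.cl (FGA.multiTwist O e') := by
        rw [hee, cl_multiTwist_mul, hone, mul_assoc, mul_comm (PicF.cl (O j)),
          show PicF.cl (ClSub.idealMod (N j)) * PicF.cl (O j) = 1 from H23.PicMul.cl_eq_iff.2 (hOi j), mul_one]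
      rw [mul_assoc, hcancel] at h
      refine h.trans (ih (∑ i, e' i) ?_ e' rfl)
      rw [← hen, hee]
      simp [Finset.sum_add_distrib]
    · push Not at hcase
      have hbound : ∀ l, e l ≤ w l * D := by
        intro l
        rcases Nat.eq_zero_or_pos (e l) with h0 | hl
        · rw [h0]; exact Nat.zero_le _
        obtain ⟨j, -, hmax⟩ := Finset.exists_max_image Finset.univ (fun i => (e i : ℚ) / w i) ⟨l, Finset.mem_univ l⟩
        have hmax' : ∀ i, (e i : ℤ) * w j ≤ e j * w i := fun i => by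
          have := hmax i (Finset.mem_univ i)
          rw [div_le_div_iff₀ (by exact_mod_cast hw i) (by exact_mod_cast hw j)] at this
          exact_mod_cast this
        have hej : 0 < e j := by
          have h1 := hmax' l
          have h2 : (0 : ℤ) < e l * w j := mul_pos (by exact_mod_cast hl) (by exact_mod_cast hw j)
          by_contra h3
          rw [show e j = 0 by omega, Nat.cast_zero, zero_mul] at h1
          omega
        have hkey : (w j : ℤ) * ∑ i, (e i : ℤ) * G j i ≤ (e j : ℤ) * ∑ i, (w i : ℤ) * G j i := by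
          rw [Finset.mul_sum, Finset.mul_sum]
          refine Finset.sum_le_sum fun i _ => ?_
          by_cases hij : j = i
          · subst hij; exact le_of_eq (by ring)
          · rw [← mul_assoc, ← mul_assoc, mul_comm (w j : ℤ)]
            exact mul_le_mul_of_nonneg_right (hmax' i) (dot_ideal_nonneg k hd (N j) (hNd j) (hI j) (hI i)
              (genC_notMem k (hNd j) (hNd i) fun h => hij (hN h)))
        have h1 := hcase j hej
        have h2 : (e j : ℤ) * ∑ i, (w i : ℤ) * G j i ≤ -(e j : ℤ) :=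
          (mul_le_mul_of_nonneg_left (Int.le_sub_one_of_lt (hwneg j)) (Int.natCast_nonneg _)).trans_eq (by ring)
        have h3 : 0 ≤ (w j : ℤ) * (degOn k (ClSub.quotMod (N j)) M + ∑ i, (e i : ℤ) * G j i) :=
          mul_nonneg (Int.natCast_nonneg _) h1
        have h4 : (w j : ℤ) * degOn k (ClSub.quotMod (N j)) M ≤ w j * D :=
          mul_le_mul_of_nonneg_left (hdeg j) (Int.natCast_nonneg _)
        have h5 : (e j : ℤ) ≤ w j * D := by linarith
        have h6 : (e l : ℤ) * w j ≤ (w l * D : ℕ) * w j := by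
          refine (hmax' l).trans ?_
          have := mul_le_mul_of_nonneg_right h5 (Int.natCast_nonneg (w l))
          push_cast
          linarith
        exact_mod_cast le_of_mul_le_mul_right h6 (by exact_mod_cast hw j)
      obtain ⟨hinv, -⟩ : PicF.IsInvertible (FGA.multiTwist O e) ∧ True := ⟨(additive_multiTwist (fun _ => 0) rfl
        (fun _ _ _ _ => rfl) O hO e).1, trivial⟩
      have hinv' := (additive_multiTwist (fun _ => 0) rfl (fun _ _ _ _ => rfl) O hO (fun l => w l * D - e l)).1
      have h := h0_le_tensor k (H23.PicMul.isInvertible_tensor hM hinv) hinv' (heff _)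
      rw [← hCl_cl, ← hCl_cl] at h
      simp only [H23.PicMul.cl_tensor] at h
      rw [mul_assoc, ← cl_multiTwist_mul] at h
      refine h.trans_eq ?_
      congr 4
      funext l
      show e l + (w l * D - e l) = w l * D
      have := hbound l
      omega

end Groth.Agent.SurfInt
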