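import Groth.Agent.SurfInt.Nakai
import Groth.Agent.CurveEmbed.P1
import Groth.Agent.AmpleX.Locus
import Groth.Agent.S7810

/-! A section of `H^n(aC)` not vanishing on a negative rational curve `C`. -/

noncomputable section

set_option linter.style.haveILetI false
set_option linter.unusedSectionVars false
set_option backward.isDefEq.respectTransparency false
set_option backward.isDefEq.respectTransparency.types false

universe u

open CategoryTheory CategoryTheory.Limits AlgebraicGeometry TopologicalSpace Opposite CategoryTheory.Abelian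

namespace Groth.Agent.SurfInt

open Groth.Agent
open scoped Groth.Agent.H23.PicMul
open Groth.Agent.PnCoh.Finite (mapLin)

variable (k : Type u) [Field k] {X : Scheme.{u}} [X.Over (Spec (CommRingCat.of k))]
  [IsProper (X ↘ Spec (CommRingCat.of k))]

omit [X.Over (Spec (CommRingCat.of k))] [IsProper (X ↘ Spec (CommRingCat.of k))] in
/-- Vanishing of `H^{n+1}` of the kernel lifts classes of degree `n`. -/
theorem exists_map_eq_of_subsingleton {S : ShortComplex X.Modules} (hS : S.ShortExact) (n : ℕ)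
    (h₁ : Subsingleton (Coh.HH X S.X₁ (n + 1))) (y : Coh.HH X S.X₃ n) :
    ∃ x, Sheaf.H.map ((QCoh.toAbFunctor X).map S.g) n x = y := by
  let hS' := QCoh.toAb_shortExact hS
  obtain ⟨x, hx⟩ := Ext.covariant_sequence_exact₃ _ hS' y rfl (h₁.elim _ _)
  exact ⟨x, hx⟩

omit [IsProper (X ↘ Spec (CommRingCat.of k))] in
theorem secOf_mapLin {M N : X.Modules} (φ : M ⟶ N) (t : Coh.HH X M 0) :
    φ.app ⊤ (secOf M t) = secOf N (mapLin k φ 0 t) :=
  Sheaf.H.equiv₀_naturality isTerminalTop ((QCoh.toAbFunctor X).map φ) t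

omit [X.Over (Spec (CommRingCat.of k))] [IsProper (X ↘ Spec (CommRingCat.of k))] in
theorem secOf_surjective (M : X.Modules) : Function.Surjective (secOf M) :=
  (Sheaf.H.equiv₀ (Coh.toAb M) isTerminalTop).surjective

/-- The constants of an embedded projective line. -/
theorem projLine_curve {C : Scheme.{u}} [C.Over (Spec (CommRingCat.of k))] (e : C ≅ CohB1.ProjSpace 1 k)
    (he : e.hom ≫ CohB1.ProjSpace.toSpec 1 k = C ↘ Spec (CommRingCat.of k)) :
    Module.finrank k (Coh.HH C (Coh.structureModule C) 0) = 1 ∧ Curv2.genus k C = 0 := by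
  haveI : IsProper (CohB1.ProjSpace.toSpec 1 k) := PnCoh.Chow.isProper_toSpec 1 k
  letI : (CohB1.ProjSpace 1 k).Over (Spec (CommRingCat.of k)) := ⟨CohB1.ProjSpace.toSpec 1 k⟩
  haveI : IsProper (C ↘ Spec (CommRingCat.of k)) := by rw [← he]; infer_instance
  haveI : CompactSpace ↥(CohB1.ProjSpace 1 k) :=
    QuasiCompact.compactSpace_of_compactSpace (CohB1.ProjSpace.toSpec 1 k)
  haveI : (CohB1.ProjSpace 1 k).IsSeparated := ⟨by
    rw [← Limits.terminal.comp_from (CohB1.ProjSpace.toSpec 1 k)]; infer_instance⟩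
  haveI := noeth k (X := C)
  have hpb : IsPullback e.hom (C ↘ Spec (CommRingCat.of k))
      ((CohB1.ProjSpace 1 k) ↘ Spec (CommRingCat.of k))
      (Spec.map (CommRingCat.ofHom (algebraMap k k))) := by
    haveI : IsIso (Spec.map (CommRingCat.ofHom (algebraMap k k))) := by
      rw [show CommRingCat.ofHom (algebraMap k k) = 𝟙 (CommRingCat.of k) from rfl]
      infer_instance
    refine IsPullback.of_horiz_isIso ⟨?_⟩
    rw [show CommRingCat.ofHom (algebraMap k k) = 𝟙 (CommRingCat.of k) from rfl, Spec.map_id, Category.comp_id]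
    exact he
  obtain ⟨h0, hg⟩ := S7810.projLine_facts k
  exact ⟨(CurveBC.finrank_hh_unit k k e.hom hpb 0).trans h0, (CurveBC.finrank_hh_unit k k e.hom hpb 1).trans hg⟩

variable [IsIntegral X]

/-- Non-negative degree on a rational curve kills `H¹` on it. -/
theorem h1_twist_curve (I : X.IdealSheafData) [IsIntegral I.subscheme] (hI : topologicalKrullDim (I.support : Set X) = 1)
    (e : I.subscheme ≅ CohB1.ProjSpace 1 k)
    (he : e.hom ≫ CohB1.ProjSpace.toSpec 1 k = I.subschemeι ≫ (X ↘ Spec (CommRingCat.of k)))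
    {M : X.Modules} (hM : PicF.IsInvertible M) (hdeg : 0 ≤ degOn k (ClSub.quotMod I) M) :
    Subsingleton (Coh.HH X (CohB1.tensorMod M (ClSub.quotMod I)) 1) := by
  letI := overComp k I.subschemeι
  haveI := isProper_comp k I.subschemeι rfl
  haveI := noeth k (X := I.subscheme)
  have hd : topologicalKrullDim I.subscheme = 1 := (dim_subscheme I).trans hI
  obtain ⟨h0, hg⟩ := projLine_curve k e (he.trans rfl)
  have hO := CurveCohLib.Nonspecial.euler_structure k hd h0
  have hMi := PicClLib.isInvertible_pullback I.subschemeι hM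
  have hMc := CurveDeg.isCoh_of_isInvertible hMi
  rw [show degOn k (ClSub.quotMod I) M = _ from degOn_push k I.subschemeι rfl hM, Curv2.deg] at hdeg
  have h := CurveCohLib.Nonspecial.h1_of_euler k hd hMc
    (fun φ hφ => CurveCohLib.Nonspecial.section_of_sub k hMc hMi (𝟙 _) φ hφ) (by simp at hdeg; omega)
  haveI := KFlatLib.isIso_projMod_of_isClosedImmersion I.subschemeι (Coh.structureModule I.subscheme) M
  obtain ⟨ec⟩ := H23.PicMul.comm M (ClSub.quotMod I)
  refine QCoh.subsingleton_HH_of_iso (ec ≪≫ asIso (KFlatLib.projMod I.subschemeι (Coh.structureModule I.subscheme) M) ≪≫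
    (Scheme.Modules.pushforward I.subschemeι).mapIso (CurveTensor.structureTensorIso _)).symm 1 ?_
  obtain ⟨e'⟩ := QCoh.HH_push_linear I.subschemeι (Coh.toGlobal (X ↘ Spec (CommRingCat.of k)))
    (Coh.toGlobal (I.subscheme ↘ Spec (CommRingCat.of k))) (fun a => rfl) hMc.1 1
  haveI := h
  exact e'.toEquiv.symm.subsingleton

/-- Degree zero on a rational curve means trivial there. -/
theorem nonempty_twist_curve_trivial (I : X.IdealSheafData) [IsIntegral I.subscheme]
    (hI : topologicalKrullDim (I.support : Set X) = 1) (e : I.subscheme ≅ CohB1.ProjSpace 1 k)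
    (he : e.hom ≫ CohB1.ProjSpace.toSpec 1 k = I.subschemeι ≫ (X ↘ Spec (CommRingCat.of k)))
    {M : X.Modules} (hM : PicF.IsInvertible M) (hdeg : degOn k (ClSub.quotMod I) M = 0) :
    Nonempty (CohB1.tensorMod M (ClSub.quotMod I) ≅
      (Scheme.Modules.pushforward I.subschemeι).obj (Coh.structureModule I.subscheme)) := by
  letI := overComp k I.subschemeι
  haveI := isProper_comp k I.subschemeι rfl
  haveI := noeth k (X := I.subscheme)
  have hd : topologicalKrullDim I.subscheme = 1 := (dim_subscheme I).trans hI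
  obtain ⟨h0, hg⟩ := projLine_curve k e (he.trans rfl)
  have hO := CurveCohLib.Nonspecial.euler_structure k hd h0
  have hMi := PicClLib.isInvertible_pullback I.subschemeι hM
  have hMc := CurveDeg.isCoh_of_isInvertible hMi
  rw [show degOn k (ClSub.quotMod I) M = _ from degOn_push k I.subschemeι rfl hM] at hdeg
  obtain ⟨s, hs⟩ : ∃ s : Coh.structureModule I.subscheme ⟶ (Scheme.Modules.pullback I.subschemeι).obj M, s ≠ 0 := by
    refine exists_section_ne_zero ?_
    by_contra hn
    rw [not_nontrivial_iff_subsingleton] at hn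
    have hh := CurveRR.euler_eq_h0_sub_h1 k hd.le hMc.1
    rw [Module.finrank_zero_of_subsingleton (M := Coh.HH I.subscheme _ 0)] at hh
    rw [Curv2.deg] at hdeg
    simp at hdeg
    omega
  haveI : IsIso s := (CurveDeg.deg_le_and_isIso k hd.le isInvertible_structure hMi s hs).2 (by
    rw [hdeg, Curv2.deg]; simp)
  haveI := KFlatLib.isIso_projMod_of_isClosedImmersion I.subschemeι (Coh.structureModule I.subscheme) M
  obtain ⟨ec⟩ := H23.PicMul.comm M (ClSub.quotMod I)
  exact ⟨ec ≪≫ asIso (KFlatLib.projMod I.subschemeι (Coh.structureModule I.subscheme) M) ≪≫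
    (Scheme.Modules.pushforward I.subschemeι).mapIso (CurveTensor.structureTensorIso _ ≪≫ (asIso s).symm)⟩

include k in
/-- A section whose restriction to a proper integral subscheme is a non-zero constant does not vanish on it. -/
theorem support_subset_locus (I : X.IdealSheafData) [IsIntegral I.subscheme] {L : X.Modules}
    (hL : PicF.IsInvertible L)
    (φ : L ⟶ (Scheme.Modules.pushforward I.subschemeι).obj (Coh.structureModule I.subscheme)) (σ : Γ(L, ⊤))
    (hσ : φ.app ⊤ σ ≠ 0) : (I.support : Set X) ⊆ (AmpleX.locus σ : X.Opens) := by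
  letI := overComp k I.subschemeι
  haveI := isProper_comp k I.subschemeι rfl
  let c : Γ(I.subscheme, I.subschemeι ⁻¹ᵁ ⊤) := φ.app ⊤ σ
  have hc : IsUnit c := by
    have hF : IsField Γ(I.subscheme, I.subschemeι ⁻¹ᵁ ⊤) :=
      isField_of_universallyClosed k (I.subscheme ↘ Spec (CommRingCat.of k))
    obtain ⟨b, hb⟩ := hF.mul_inv_cancel (show c ≠ 0 from hσ)
    exact IsUnit.of_mul_eq_one b hb
  intro x hx
  obtain ⟨y, rfl⟩ : x ∈ Set.range I.subschemeι := I.range_subschemeι.symm ▸ hx
  obtain ⟨V, hxV, f, hf⟩ := InvX.exists_frame hL (I.subschemeι y)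
  obtain ⟨a, ha⟩ := hf.exists_coord le_rfl (AModX.res L (le_top : V ≤ ⊤) σ)
  rw [AModX.res_self] at ha
  have h1 : (show Γ(I.subscheme, I.subschemeι ⁻¹ᵁ V) from φ.app V (AModX.res L (le_top : V ≤ ⊤) σ)) =
      I.subschemeι.app V a * (show Γ(I.subscheme, I.subschemeι ⁻¹ᵁ V) from φ.app V f) := by
    rw [ha]
    exact Scheme.Modules.Hom.app_smul φ a f
  have h2 : (show Γ(I.subscheme, I.subschemeι ⁻¹ᵁ V) from φ.app V (AModX.res L (le_top : V ≤ ⊤) σ)) =
      I.subscheme.presheaf.map (homOfLE (I.subschemeι.preimage_mono (le_top : V ≤ ⊤))).op c :=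
    AModX.app_res φ (le_top : V ≤ ⊤) σ
  have h3 : IsUnit (I.subschemeι.app V a) := by
    refine isUnit_of_mul_isUnit_left (y := (show Γ(I.subscheme, I.subschemeι ⁻¹ᵁ V) from φ.app V f)) ?_
    rw [← h1, h2]
    exact hc.map (I.subscheme.presheaf.map (homOfLE (I.subschemeι.preimage_mono (le_top : V ≤ ⊤))).op).hom
  have h4 : I.subschemeι y ∈ X.basicOpen a := by
    show y ∈ I.subschemeι ⁻¹ᵁ X.basicOpen a
    rw [Scheme.preimage_basicOpen, I.subscheme.basicOpen_of_isUnit h3]
    exact hxV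
  have h5 := congrArg (fun O : X.Opens => I.subschemeι y ∈ O) (AmpleX.locus_inf σ le_top hf ha)
  simp only [Opens.mem_inf, eq_iff_iff] at h5
  exact (h5.2 h4).1

/-- A section of `M ⊗ O(aC)` which does not vanish on a rational curve `C` of self-intersection `-ν`. -/
theorem exists_section_on_curve (I : X.IdealSheafData) [IsIntegral I.subscheme]
    (hI : topologicalKrullDim (I.support : Set X) = 1) (e : I.subscheme ≅ CohB1.ProjSpace 1 k)
    (he : e.hom ≫ CohB1.ProjSpace.toSpec 1 k = I.subschemeι ≫ (X ↘ Spec (CommRingCat.of k)))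
    {P : X.Modules} (hP : PicF.IsInvertible P) (hPI : ClSub.IsInverseOf P (ClSub.idealMod I))
    {ν : ℕ} (hν : degOn k (ClSub.quotMod I) P = -(ν : ℤ)) {M : X.Modules} (hM : PicF.IsInvertible M) {a : ℕ}
    (hMa : degOn k (ClSub.quotMod I) M = (a : ℤ) * ν) (ha : 0 < a)
    (hM1 : Subsingleton (Coh.HH X M 1)) {L : X.Modules} (hL : PicF.cl L = PicF.cl M * PicF.cl P ^ a)
    (hLi : PicF.IsInvertible L) :
    ∃ σ : Γ(L, ⊤), (I.support : Set X) ⊆ (AmpleX.locus σ : X.Opens) := by
  haveI := noeth k (X := X)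
  have hq := isCoh_quotMod k I
  have hqd := dim_support_quot_curve hI
  have hPI' : PicF.cl P * PicF.cl (ClSub.idealMod I) = 1 := H23.PicMul.cl_eq_iff.2 hPI
  let Mj : ℕ → X.Modules := fun j => CohB1.tensorMod M (CohB1.tensorPow P j)
  have hMj : ∀ j, PicF.IsInvertible (Mj j) := fun j =>
    H23.PicMul.isInvertible_tensor hM (H23.PicMul.isInvertible_tensorPow hP j)
  have hS : ∀ {N : X.Modules}, PicF.IsInvertible N →
      (ShortComplex.mk ((DCoh.tensorBi.obj N).map (ClSub.idealModι I)) ((DCoh.tensorBi.obj N).map (ClSub.toSubscheme I))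
        (by rw [← Functor.map_comp, show ClSub.idealModι I ≫ ClSub.toSubscheme I = 0 from kernel.condition _, Functor.map_zero])).ShortExact :=
    fun hN => CurveTensor.shortExact_tensor (H23.PullPush.isFinLocFree_of_isInvertible hN) _ _ _ (shortExact_ideal I)
  have hstep : ∀ j, Nonempty (CohB1.tensorMod (Mj (j + 1)) (ClSub.idealMod I) ≅ Mj j) := fun j =>
    H23.PicMul.cl_eq_iff.1 (by
      rw [H23.PicMul.cl_tensor, H23.PicMul.cl_tensor, H23.PicMul.cl_tensor, H23.PicMul.cl_tensorPow,
        H23.PicMul.cl_tensorPow, pow_succ, mul_assoc, mul_assoc, hPI', mul_one])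
  have h1 : ∀ j, j ≤ a → Subsingleton (Coh.HH X (Mj j) 1) := by
    intro j
    induction j with
    | zero =>
      intro _
      obtain ⟨e₀⟩ : Nonempty (Mj 0 ≅ M) := H23.PicMul.cl_eq_iff.1 (by
        rw [H23.PicMul.cl_tensor, H23.PicMul.cl_tensorPow, pow_zero, mul_one])
      exact QCoh.subsingleton_HH_of_iso e₀.symm 1 hM1
    | succ j ih =>
      intro hj
      have hS' := hS (hMj (j + 1))
      obtain ⟨ej⟩ := hstep j
      haveI : Subsingleton (Coh.HH X (CohB1.tensorMod (Mj (j + 1)) (ClSub.quotMod I)) 1) := by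
        refine h1_twist_curve k I hI e he (hMj (j + 1)) ?_
        rw [degOn_tensor k hq hqd hM (H23.PicMul.isInvertible_tensorPow hP _), degOn_tensorPow k hq hqd hP, hν, hMa]
        have : ((j + 1 : ℕ) : ℤ) * ν ≤ (a : ℤ) * ν := mul_le_mul_of_nonneg_right (by exact_mod_cast hj) (by positivity)
        linarith
      haveI : Subsingleton (Coh.HH X (CohB1.tensorMod (Mj (j + 1)) (ClSub.idealMod I)) 1) :=
        QCoh.subsingleton_HH_of_iso ej.symm 1 (ih (Nat.le_of_succ_le hj))
      obtain ⟨u⟩ := H23.PicMul.unit (Mj (j + 1))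
      refine QCoh.subsingleton_HH_of_iso u 1 (subsingleton_of_forall_eq 0 fun y => ?_)
      have hy : y ∈ LinearMap.ker (mapLin k ((DCoh.tensorBi.obj (Mj (j + 1))).map (ClSub.toSubscheme I)) 1) :=
        LinearMap.mem_ker.2 (Subsingleton.elim (α := Coh.HH X (CohB1.tensorMod (Mj (j + 1)) (ClSub.quotMod I)) 1) _ _)
      obtain ⟨x, rfl⟩ := (CurveCohLib.ker_mapLin_g (A := k) hS' 1).le hy
      rw [Subsingleton.elim (α := Coh.HH X (CohB1.tensorMod (Mj (j + 1)) (ClSub.idealMod I)) 1) x 0, map_zero]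
  have hSL := hS hLi
  have hL1 : Subsingleton (Coh.HH X (CohB1.tensorMod L (ClSub.idealMod I)) 1) := by
    obtain ⟨a', rfl⟩ := Nat.exists_eq_succ_of_ne_zero ha.ne'
    obtain ⟨e'⟩ : Nonempty (CohB1.tensorMod L (ClSub.idealMod I) ≅ Mj a') := H23.PicMul.cl_eq_iff.1 (by
      rw [H23.PicMul.cl_tensor, hL, H23.PicMul.cl_tensor, H23.PicMul.cl_tensorPow, mul_assoc, pow_succ, mul_assoc,
        hPI', mul_one])
    exact QCoh.subsingleton_HH_of_iso e'.symm 1 (h1 a' (Nat.le_succ a'))
  obtain ⟨ψ⟩ := nonempty_twist_curve_trivial k I hI e he hLi (by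
    obtain ⟨e'⟩ : Nonempty (L ≅ Mj a) := H23.PicMul.cl_eq_iff.1 (by
      rw [hL, H23.PicMul.cl_tensor, H23.PicMul.cl_tensorPow])
    rw [degOn_congr k e', degOn_tensor k hq hqd hM (H23.PicMul.isInvertible_tensorPow hP a),
      degOn_tensorPow k hq hqd hP, hν, hMa]
    ring)
  -- a class restricting to the constant one
  obtain ⟨one, hone⟩ := secOf_surjective ((Scheme.Modules.pushforward I.subschemeι).obj (Coh.structureModule I.subscheme))
    (show Γ(I.subscheme, I.subschemeι ⁻¹ᵁ ⊤) from 1)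
  obtain ⟨t, ht⟩ := exists_map_eq_of_subsingleton hSL 0 hL1
    ((CurveCohLib.hhEquiv (k := k) ψ 0).symm one)
  obtain ⟨u⟩ := H23.PicMul.unit L
  let φ : L ⟶ (Scheme.Modules.pushforward I.subschemeι).obj (Coh.structureModule I.subscheme) :=
    u.inv ≫ (DCoh.tensorBi.obj L).map (ClSub.toSubscheme I) ≫ ψ.hom
  let t' : Coh.HH X L 0 := mapLin k u.hom 0 t
  refine ⟨secOf L t', support_subset_locus k I hLi φ _ ?_⟩
  have h2 : mapLin k φ 0 t' = one := by
    show mapLin k φ 0 (mapLin k u.hom 0 t) = one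
    rw [mapLin_comp_apply k, show u.hom ≫ φ = (DCoh.tensorBi.obj L).map (ClSub.toSubscheme I) ≫ ψ.hom by
      simp only [φ, Iso.hom_inv_id_assoc], ← mapLin_comp_apply k]
    exact (congrArg (mapLin k ψ.hom 0) ht).trans ((CurveCohLib.hhEquiv (k := k) ψ 0).apply_symm_apply one)
  have h3 : φ.app ⊤ (secOf L t') = (show Γ(I.subscheme, I.subschemeι ⁻¹ᵁ ⊤) from 1) := by
    rw [secOf_mapLin k φ t', h2, hone]
  rw [h3]
  haveI : Nonempty (I.subschemeι ⁻¹ᵁ ⊤ : I.subscheme.Opens) := ⟨⟨genericPoint I.subscheme, trivial⟩⟩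
  intro h
  exact one_ne_zero (α := Γ(I.subscheme, I.subschemeι ⁻¹ᵁ ⊤)) h

end Groth.Agent.SurfInt
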