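import Groth.Agent.SurfInt.NumConnApps
import Groth.Agent.SurfInt.Decomp
import Groth.Agent.AmpleVan.ThickPush
import Groth.Agent.KFlatLib.Scheme.ProjClosed

/-! Residual sequences on a closed subscheme, twisted by an invertible module of that subscheme. -/

noncomputable section

set_option linter.style.haveILetI false
set_option linter.unusedSectionVars false
set_option backward.isDefEq.respectTransparency false
set_option backward.isDefEq.respectTransparency.types false

universe u

open CategoryTheory CategoryTheory.Limits AlgebraicGeometry TopologicalSpace Opposite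

namespace Groth.Agent.SurfInt

open Groth.Agent

variable (k : Type u) [Field k] {X : Scheme.{u}} [X.Over (Spec (CommRingCat.of k))]
  [IsProper (X ↘ Spec (CommRingCat.of k))] {D : Scheme.{u}} [D.Over (Spec (CommRingCat.of k))]
  (ι : D ⟶ X) [IsClosedImmersion ι] (hι : ι ≫ (X ↘ Spec (CommRingCat.of k)) = D ↘ Spec (CommRingCat.of k))

/-- The inclusion of a smaller closed subscheme. -/
def incl {Z : X.IdealSheafData} (h : ι.ker ≤ Z) : Z.subscheme ⟶ D :=
  IsClosedImmersion.lift ι Z.subschemeι (by rw [Scheme.IdealSheafData.ker_subschemeι]; exact h)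

theorem incl_fac {Z : X.IdealSheafData} (h : ι.ker ≤ Z) : incl ι h ≫ ι = Z.subschemeι :=
  IsClosedImmersion.lift_fac _ _ _

instance {Z : X.IdealSheafData} (h : ι.ker ≤ Z) : IsClosedImmersion (incl ι h) := by
  haveI : IsClosedImmersion (incl ι h ≫ ι) := by rw [incl_fac]; infer_instance
  exact IsClosedImmersion.of_comp (incl ι h) ι

/-- The structure module of a smaller closed subscheme, on `D`. -/
def strMod {Z : X.IdealSheafData} (h : ι.ker ≤ Z) : D.Modules :=
  (Scheme.Modules.pushforward (incl ι h)).obj (Coh.structureModule Z.subscheme)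

/-- Direct images through `D`. -/
def pushCompIso {Z : X.IdealSheafData} (h : ι.ker ≤ Z) (P : Z.subscheme.Modules) :
    (Scheme.Modules.pushforward ι).obj ((Scheme.Modules.pushforward (incl ι h)).obj P) ≅
      (Scheme.Modules.pushforward Z.subschemeι).obj P :=
  (Scheme.Modules.pushforwardComp (incl ι h) ι).app P ≪≫ eqToIso (by rw [incl_fac])

def strModIso {Z : X.IdealSheafData} (h : ι.ker ≤ Z) :
    (Scheme.Modules.pushforward ι).obj (strMod ι h) ≅ ClSub.quotMod Z :=
  pushCompIso ι h _

theorem isQCoh_strMod {Z : X.IdealSheafData} (h : ι.ker ≤ Z) : Coh.IsQCoh (strMod ι h) :=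
  QCoh.isQCoh_pushforward (incl ι h) (StMod.isQCoh_structureModule _)

theorem nonempty_iso_of_push {M M' : D.Modules} (hM : Coh.IsQCoh M) (hM' : Coh.IsQCoh M')
    (e : (Scheme.Modules.pushforward ι).obj M ≅ (Scheme.Modules.pushforward ι).obj M') : Nonempty (M ≅ M') := by
  obtain ⟨φ, hφ⟩ := AmpleVan.exists_push_map ι hM hM' e.hom
  haveI : IsIso ((Scheme.Modules.pushforward ι).map φ) := by rw [hφ]; infer_instance
  haveI := AmpleVan.isIso_of_push ι φ
  exact ⟨asIso φ⟩

theorem isZero_strMod_top (h : ι.ker ≤ ⊤) : IsZero (strMod ι h) := by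
  haveI := AmpleVan.faithful_push ι
  have hz : IsZero ((Scheme.Modules.pushforward ι).obj (strMod ι h)) := (CurveCohLib.isZero_of_subsingleton_stalks fun x =>
    ParShLib.subsingleton_stalk_quotMod (⊤ : X.IdealSheafData) (fun hx => by
      rw [Scheme.IdealSheafData.support_top] at hx; exact hx)).of_iso (strModIso ι h)
  rw [IsZero.iff_id_eq_zero]
  refine (Scheme.Modules.pushforward ι).map_injective ?_
  exact hz.eq_of_src _ _

theorem nonempty_strMod_ker : Nonempty (strMod ι (le_refl ι.ker) ≅ Coh.structureModule D) :=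
  nonempty_iso_of_push ι (isQCoh_strMod ι _) (StMod.isQCoh_structureModule D)
    (strModIso ι (le_refl ι.ker) ≪≫ (nonempty_quotMod_iso ι).some)

include k in
/-- The residual sequence on `D`. -/
theorem exists_seq {A C : X.IdealSheafData} (hA : BlowUp.IsEffCartierIdeal A) (hC : BlowUp.IsEffCartierIdeal C)
    (hAC : ι.ker ≤ A * C) (hA' : ι.ker ≤ A) (hC' : ι.ker ≤ C) :
    ∃ (f : (Scheme.Modules.pushforward (incl ι hC')).obj
          ((Scheme.Modules.pullback C.subschemeι).obj (ClSub.idealMod A)) ⟶ strMod ι hAC)
      (g : strMod ι hAC ⟶ strMod ι hA') (w : f ≫ g = 0), (ShortComplex.mk f g w).ShortExact := by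
  obtain ⟨i, q, w, hS, -⟩ := exists_residual hA hC
  haveI := noeth k (X := X)
  haveI : IsLocallyNoetherian C.subscheme := LocallyOfFiniteType.isLocallyNoetherian C.subschemeι
  set P := (Scheme.Modules.pullback C.subschemeι).obj (ClSub.idealMod A)
  have hP : Coh.IsQCoh P :=
    (AmpleVan.isCoh_invertible (PicClLib.isInvertible_pullback _ (ArSurfX.isInvertible_idealMod hA))).1
  have hP' : Coh.IsQCoh ((Scheme.Modules.pushforward (incl ι hC')).obj P) := QCoh.isQCoh_pushforward _ hP
  let e1 : (Scheme.Modules.pushforward ι).obj ((Scheme.Modules.pushforward (incl ι hC')).obj P) ≅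
      CohB1.tensorMod (ClSub.quotMod C) (ClSub.idealMod A) :=
    pushCompIso ι hC' P ≪≫ (pushIso C (N := ClSub.idealMod A)).symm
  obtain ⟨f, hf⟩ := AmpleVan.exists_push_map ι hP' (isQCoh_strMod ι hAC)
    (e1.hom ≫ i ≫ (strModIso ι hAC).inv)
  obtain ⟨g, hg⟩ := AmpleVan.exists_push_map ι (isQCoh_strMod ι hAC) (isQCoh_strMod ι hA')
    ((strModIso ι hAC).hom ≫ q ≫ (strModIso ι hA').inv)
  haveI := AmpleVan.faithful_push ι
  have w' : f ≫ g = 0 := (Scheme.Modules.pushforward ι).map_injective (by
    rw [Functor.map_comp, hf, hg, Functor.map_zero]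
    simp [reassoc_of% w])
  refine ⟨f, g, w', ?_⟩
  haveI : PreservesFiniteColimits (Scheme.Modules.pushforward ι) :=
    ⟨fun J _ _ => KFlatLib.preservesColimitsOfShape_push ι J⟩
  haveI : PreservesFiniteLimits (Scheme.Modules.pushforward ι) :=
    ⟨fun J _ _ => (Scheme.Modules.pullbackPushforwardAdjunction ι).rightAdjoint_preservesLimits.preservesLimitsOfShape⟩
  haveI : (Scheme.Modules.pushforward ι).Additive := Functor.additive_of_preserves_binary_products _
  have hS' : ((ShortComplex.mk f g w').map (Scheme.Modules.pushforward ι)).ShortExact := by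
    refine ShortComplex.shortExact_of_iso ?_ hS
    exact ShortComplex.isoMk e1.symm (strModIso ι hAC).symm (strModIso ι hA').symm
      (by simp [ShortComplex.map, hf]) (by simp [ShortComplex.map, hg])
  exact
    { exact := (ShortComplex.exact_map_iff_of_faithful _ (Scheme.Modules.pushforward ι)).1 hS'.exact
      mono_f := (Scheme.Modules.pushforward ι).mono_of_mono_map hS'.mono_f
      epi_g := (Scheme.Modules.pushforward ι).epi_of_epi_map hS'.epi_g }

include hι

theorem isProper_sub : IsProper (D ↘ Spec (CommRingCat.of k)) := isProper_comp k ι hι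

/-- The degree on `D` of `N` restricted to a smaller subscheme. -/
theorem degOn_pushIncl {C : X.IdealSheafData} (hC' : ι.ker ≤ C) (hCd : topologicalKrullDim C.subscheme ≤ 1)
    {P : C.subscheme.Modules} (hP : PicF.IsInvertible P) {N : D.Modules} (hN : PicF.IsInvertible N) :
    letI := overComp k C.subschemeι
    degOn k ((Scheme.Modules.pushforward (incl ι hC')).obj P) N =
      Curv2.deg k C.subscheme ((Scheme.Modules.pullback (incl ι hC')).obj N) 1 := by
  letI := overComp k C.subschemeι
  haveI := isProper_sub k ι hι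
  haveI := isProper_comp k C.subschemeι rfl
  haveI := noeth k (X := C.subscheme)
  haveI := noeth k (X := D)
  have hover : incl ι hC' ≫ (D ↘ Spec (CommRingCat.of k)) = C.subscheme ↘ Spec (CommRingCat.of k) := by
    rw [← hι, ← Category.assoc, incl_fac]
    rfl
  have hQ := PicClLib.isInvertible_pullback (incl ι hC') hN
  haveI := KFlatLib.isIso_projMod_of_isClosedImmersion (incl ι hC') P N
  have hd : topologicalKrullDim (CohB1.support (Coh.structureModule C.subscheme)) ≤ 1 :=
    (topologicalKrullDim_subspace_le C.subscheme _).trans hCd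
  have h := degOn_tensor k isCoh_structureModule hd hP hQ
  have hPQ : Coh.IsQCoh (CohB1.tensorMod P ((Scheme.Modules.pullback (incl ι hC')).obj N)) :=
    (AmpleVan.isCoh_invertible (InvX.isInvertible_tensorMod hP hQ)).1
  rw [degOn, euler_push k (incl ι hC') hover (AmpleVan.isCoh_invertible hP).1]
  have e1 : Curv2.euler k D (CohB1.tensorMod ((Scheme.Modules.pushforward (incl ι hC')).obj P) N) =
      Curv2.euler k C.subscheme (CohB1.tensorMod P ((Scheme.Modules.pullback (incl ι hC')).obj N)) :=
    (CurveCohLib.euler_congr (k := k) (asIso (KFlatLib.projMod (incl ι hC') P N))).trans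
      (euler_push k (incl ι hC') hover hPQ)
  rw [e1]
  unfold degOn at h
  rw [euler_comm k (Coh.structureModule C.subscheme) (CohB1.tensorMod P _), euler_tensor_structure,
    euler_comm k (Coh.structureModule C.subscheme) P, euler_tensor_structure,
    euler_comm k (Coh.structureModule C.subscheme) ((Scheme.Modules.pullback (incl ι hC')).obj N),
    euler_tensor_structure] at h
  rw [Curv2.deg]
  omega

/-- Degrees add along the residual sequence. -/
theorem degOn_strMod_mul {A C : X.IdealSheafData} (hA : BlowUp.IsEffCartierIdeal A)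
    (hC : BlowUp.IsEffCartierIdeal C) (hAC : ι.ker ≤ A * C) (hA' : ι.ker ≤ A) (hC' : ι.ker ≤ C)
    (hCd : topologicalKrullDim C.subscheme ≤ 1) {N : D.Modules} (hN : PicF.IsInvertible N) :
    letI := overComp k C.subschemeι
    degOn k (strMod ι hAC) N =
      Curv2.deg k C.subscheme ((Scheme.Modules.pullback (incl ι hC')).obj N) 1 + degOn k (strMod ι hA') N := by
  letI := overComp k C.subschemeι
  haveI := isProper_sub k ι hι
  haveI := noeth k (X := D)
  haveI := isProper_comp k C.subschemeι rfl
  haveI := noeth k (X := C.subscheme)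
  haveI := noeth k (X := X)
  haveI : IsLocallyNoetherian (A * C).subscheme := LocallyOfFiniteType.isLocallyNoetherian (A * C).subschemeι
  haveI : IsLocallyNoetherian A.subscheme := LocallyOfFiniteType.isLocallyNoetherian A.subschemeι
  obtain ⟨f, g, w, hS⟩ := exists_seq k ι hA hC hAC hA' hC'
  have iP := PicClLib.isInvertible_pullback C.subschemeι (ArSurfX.isInvertible_idealMod hA)
  rw [← degOn_pushIncl k ι hι hC' hCd iP hN]
  exact degOn_add k hS (QCoh.isCoh_pushforward_finite (incl ι hC') (AmpleVan.isCoh_invertible iP))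
    (QCoh.isCoh_pushforward_finite (incl ι hAC) (QCoh.isCoh_structureModule' (X := (A * C).subscheme)))
    (QCoh.isCoh_pushforward_finite (incl ι hA') (QCoh.isCoh_structureModule' (X := A.subscheme))) hN

/-- Sections vanish along the residual sequence. -/
theorem subsingleton_h0_strMod_mul [IsAlgClosed k] {A C : X.IdealSheafData} [IsIntegral C.subscheme]
    (hA : BlowUp.IsEffCartierIdeal A) (hC : BlowUp.IsEffCartierIdeal C) (hAC : ι.ker ≤ A * C)
    (hA' : ι.ker ≤ A) (hC' : ι.ker ≤ C) (hCd : topologicalKrullDim (C.support : Set X) = 1)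
    {N : D.Modules} (hN : PicF.IsInvertible N)
    (hdeg : letI := overComp k C.subschemeι
      degOn k (ClSub.quotMod C) (ClSub.idealMod A) +
        Curv2.deg k C.subscheme ((Scheme.Modules.pullback (incl ι hC')).obj N) 1 < 0)
    (h : Subsingleton (Coh.HH D (CohB1.tensorMod (strMod ι hA') N) 0)) :
    Subsingleton (Coh.HH D (CohB1.tensorMod (strMod ι hAC) N) 0) := by
  letI := overComp k C.subschemeι
  haveI := isProper_sub k ι hι
  haveI := noeth k (X := D)
  haveI := isProper_comp k C.subschemeι rfl
  haveI := noeth k (X := C.subscheme)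
  obtain ⟨f, g, w, hS⟩ := exists_seq k ι hA hC hAC hA' hC'
  haveI := AmpleVan.isEquivalence_tw hN
  haveI : (AmpleVan.tw N).Additive := Functor.additive_of_preserves_binary_products _
  refine QCoh.subsingleton_HH_X₂ (hS.map_of_exact (AmpleVan.tw N)) 0 ?_ h
  set P := (Scheme.Modules.pullback C.subschemeι).obj (ClSub.idealMod A)
  have iA := ArSurfX.isInvertible_idealMod hA
  have iP : PicF.IsInvertible P := PicClLib.isInvertible_pullback C.subschemeι iA
  have iQ := PicClLib.isInvertible_pullback (incl ι hC') hN
  have iPQ := InvX.isInvertible_tensorMod iP iQ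
  have hd1 : topologicalKrullDim C.subscheme = 1 := (dim_subscheme C).trans hCd
  haveI h0 : Subsingleton (Coh.HH C.subscheme (CohB1.tensorMod P ((Scheme.Modules.pullback (incl ι hC')).obj N)) 0) := by
    rw [← not_nontrivial_iff_subsingleton]
    intro hnt
    obtain ⟨s, hs⟩ := exists_section_ne_zero hnt
    obtain ⟨h1, -⟩ := CurveDeg.deg_le_and_isIso k hd1.le isInvertible_structure iPQ s hs
    have hsupp : topologicalKrullDim (CohB1.support (Coh.structureModule C.subscheme)) ≤ 1 :=
      (topologicalKrullDim_subspace_le C.subscheme _).trans hd1.le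
    have hadd := degOn_tensor k isCoh_structureModule hsupp iP iQ
    have hdg : ∀ M : C.subscheme.Modules, Curv2.deg k C.subscheme M 1 = degOn k (Coh.structureModule C.subscheme) M :=
      fun M => by
        rw [degOn, euler_comm k (Coh.structureModule C.subscheme) M, euler_tensor_structure, Curv2.deg]
        simp
    rw [CurveDeg.deg_structureModule, hdg, hadd, ← hdg, ← hdg] at h1
    have hP' : Curv2.deg k C.subscheme P 1 = degOn k (ClSub.quotMod C) (ClSub.idealMod A) :=
      (degOn_push k C.subschemeι rfl iA).symm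
    omega
  haveI := KFlatLib.isIso_projMod_of_isClosedImmersion (incl ι hC') P N
  obtain ⟨e⟩ := QCoh.HH_push_of_isAffineHom (incl ι hC') (AmpleVan.isCoh_invertible iPQ).1 0
  haveI hp : Subsingleton (Coh.HH D ((Scheme.Modules.pushforward (incl ι hC')).obj
      (CohB1.tensorMod P ((Scheme.Modules.pullback (incl ι hC')).obj N))) 0) := e.symm.toEquiv.subsingleton
  exact @Equiv.subsingleton _ _
    (CurveCohLib.hhEquiv (k := k) (asIso (KFlatLib.projMod (incl ι hC') P N)) 0).toEquiv hp

end Groth.Agent.SurfInt
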