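import Groth.Agent.SurfInt.AffCompl
import Groth.Agent.ArSurfX.PrincipalOn

/-! Exponents along curves of the section extending a function regular there. -/

noncomputable section

set_option linter.style.haveILetI false
set_option linter.unusedSectionVars false
set_option backward.isDefEq.respectTransparency false
set_option backward.isDefEq.respectTransparency.types false

universe u

open CategoryTheory CategoryTheory.Limits AlgebraicGeometry TopologicalSpace Opposite

namespace Groth.Agent.SurfInt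

open Groth.Agent

/-- Powers of the maximal ideal of a Noetherian local domain that is not a field are distinct. -/
theorem le_of_maximalIdeal_pow_le {R : Type*} [CommRing R] [IsLocalRing R] [IsNoetherianRing R] [IsDomain R]
    (hm : IsLocalRing.maximalIdeal R ≠ ⊥) {a b : ℕ}
    (h : IsLocalRing.maximalIdeal R ^ a ≤ IsLocalRing.maximalIdeal R ^ b) : b ≤ a := by
  by_contra hab
  refine pow_ne_zero a (show IsLocalRing.maximalIdeal R ≠ 0 from hm) ?_
  refine Submodule.eq_bot_of_le_smul_of_le_jacobson_bot (IsLocalRing.maximalIdeal R)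
    (IsLocalRing.maximalIdeal R ^ a) (IsNoetherian.noetherian _) ?_ (IsLocalRing.maximalIdeal_le_jacobson _)
  rw [smul_eq_mul, ← pow_succ']
  exact h.trans (Ideal.pow_le_pow_right (by omega))

variable {X : Scheme.{u}} [IsIntegral X]

/-- If the function is regular at a curve, the extending section vanishes there at least as deeply, more
deeply if the function vanishes there. -/
theorem exponent_le_of_regular {P : X.Modules} (hP : PicF.IsInvertible P) {s : Γ(P, ⊤)} {U : X.Opens}
    (hs : AmpleX.locus s = U) (hη : genericPoint X ∈ U) {r : ℕ} (C : Fin r → X.IdealSheafData)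
    [∀ i, IsIntegral (C i).subscheme] (d e : Fin r → ℕ) (E : X.IdealSheafData)
    (hD : PicF2.zeroScheme P (InvX.ofSect s) = ∏ i, C i ^ d i) (g : Γ(X, U)) {n : ℕ}
    {T : Γ(CohB1.tensorMod P (CohB1.tensorPow P n), ⊤)}
    (hT : AModX.res _ (le_top : U ≤ ⊤) T = g • AModX.res _ (le_top : U ≤ ⊤) (twistSect s n))
    (hZ : PicF2.zeroScheme _ (InvX.ofSect T) = (∏ i, C i ^ e i) * E) (j : Fin r)
    (hoff : ∀ i, i ≠ j → genC (C j) ∉ ((C i).support : Set X)) (hE : genC (C j) ∉ (E.support : Set X))
    [IsNoetherianRing (X.presheaf.stalk (genC (C j)))] (hne : genC (C j) ≠ genericPoint X)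
    (G : X.presheaf.stalk (genC (C j)))
    (hG : X.presheaf.stalkSpecializes (genericPoint_specializes (genC (C j))) G =
      X.presheaf.germ U (genericPoint X) hη g) :
    (n + 1) * d j ≤ e j ∧ (¬ IsUnit G → (n + 1) * d j < e j) := by
  classical
  obtain ⟨W₀, hξW₀, f₀, hf₀⟩ := InvX.exists_frame hP (genC (C j))
  obtain ⟨_, ⟨W, hW, rfl⟩, hξ, hWW⟩ := X.isBasis_affineOpens.exists_subset_of_mem_open hξW₀ W₀.isOpen
  replace hW : IsAffineOpen W := hW
  replace hξ : (genC (C j)) ∈ W := hξ
  haveI : Nonempty W := ⟨⟨(genC (C j)), hξ⟩⟩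
  have hηW : genericPoint X ∈ W := ((genericPoint_spec X).mem_open_set_iff W.2).2 ⟨(genC (C j)), trivial, hξ⟩
  let f := AModX.res P (show W ≤ W₀ from hWW) f₀
  have hf : InvX.IsFrame f := hf₀.res _
  obtain ⟨c, hc⟩ := hf.exists_coord le_rfl (AModX.res P (le_top : W ≤ ⊤) s)
  rw [AModX.res_self] at hc
  let F := InvX.tmul f (AmpleX.powElt f n)
  have hF : InvX.IsFrame F := InvX.isFrame_tmul hf (AmpleX.isFrame_powElt hf n)
  obtain ⟨a, ha⟩ := hF.exists_coord le_rfl (AModX.res _ (le_top : W ≤ ⊤) T)
  rw [AModX.res_self] at ha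
  have hZW : (PicF2.zeroScheme _ (InvX.ofSect T)).ideal ⟨W, hW⟩ = Ideal.span {a} :=
    ideal_zeroScheme_of_frame (InvX.isInvertible_tensorMod hP (H23.PicMul.isInvertible_tensorPow hP n)) T
      (V := ⟨W, hW⟩) hF ha
  have hDW : (PicF2.zeroScheme P (InvX.ofSect s)).ideal ⟨W, hW⟩ = Ideal.span {c} :=
    ideal_zeroScheme_of_frame hP s (V := ⟨W, hW⟩) hf hc
  let V := W ⊓ U
  have hηV : genericPoint X ∈ V := ⟨hηW, hη⟩
  have hag : AModX.resR (inf_le_left : V ≤ W) a =
      AModX.resR (inf_le_right : V ≤ U) g * AModX.resR (inf_le_left : V ≤ W) (c ^ (n + 1)) := by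
    refine hF.coord_unique inf_le_left ?_
    rw [← AModX.res_smul, ← ha, AModX.res_res, mul_smul, ← AModX.res_smul, ← res_twistSect s n hc,
      AModX.res_res, ← AModX.res_res (le_top : U ≤ ⊤) (inf_le_right : V ≤ U) T, hT, AModX.res_smul,
      AModX.res_res]
  have hag' := congrArg (X.presheaf.germ V (genericPoint X) hηV) hag
  rw [map_mul] at hag'
  simp only [AModX.resR] at hag'
  -- the ideals at `(genC (C j))`
  let φ : Γ(X, W) →+* X.presheaf.stalk (genC (C j)) := (X.presheaf.germ W (genC (C j)) hξ).hom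
  have hunitE : ∀ F : X.IdealSheafData, (genC (C j)) ∉ (F.support : Set X) → (F.ideal ⟨W, hW⟩).map φ = ⊤ := fun F h => by
    rw [SetLike.mem_coe, Scheme.IdealSheafData.mem_support_iff_of_mem (U := ⟨W, hW⟩) hξ,
      Scheme.mem_zeroLocus_iff] at h
    push Not at h
    obtain ⟨b, hb, hbξ⟩ := h
    exact Ideal.eq_top_of_isUnit_mem _ (Ideal.mem_map_of_mem φ hb) ((X.mem_basicOpen b (genC (C j)) hξ).1 hbξ)
  have hmax : ((C j).ideal ⟨W, hW⟩).map φ = IsLocalRing.maximalIdeal (X.presheaf.stalk (genC (C j))) := by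
    have hCp : C j = ArSurfX.primeDiv (genC (C j)) := by
      refine (AlgSpLib.CartierRegular.eq_vanishingIdeal_support (C j)).trans ?_
      exact congrArg _ (Closeds.ext (closure_genC (C j)).symm)
    refine (congrArg (fun I : X.IdealSheafData => (I.ideal ⟨W, hW⟩).map φ) hCp).trans ?_
    exact ArSurfX.stk_primeDiv_self (genC (C j)) ⟨W, hW⟩ hξ
  have hprod : ∀ m : Fin r → ℕ, ((∏ i, C i ^ m i).ideal ⟨W, hW⟩).map φ = ((C j).ideal ⟨W, hW⟩).map φ ^ m j := by
    intro m
    have h : ∀ t : Finset (Fin r), ((∏ i ∈ t, C i ^ m i).ideal ⟨W, hW⟩).map φ =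
        ∏ i ∈ t, ((C i).ideal ⟨W, hW⟩).map φ ^ m i := by
      intro t
      induction t using Finset.induction_on with
      | empty =>
        rw [Finset.prod_empty, Finset.prod_empty, Scheme.IdealSheafData.one_eq_top, Scheme.IdealSheafData.ideal_top,
          Pi.top_apply, Ideal.map_top, Ideal.one_eq_top]
      | insert i t hi ih =>
        rw [Finset.prod_insert hi, Finset.prod_insert hi, Scheme.IdealSheafData.ideal_mul, Pi.mul_apply,
          Ideal.map_mul, ih, Scheme.IdealSheafData.ideal_pow, Pi.pow_apply, Ideal.map_pow]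
    rw [h, Finset.prod_eq_single j (fun i _ hi => by rw [hunitE _ (hoff i hi), ← Ideal.one_eq_top, one_pow])
      (fun h => absurd (Finset.mem_univ j) h)]
  set 𝔪 := IsLocalRing.maximalIdeal (X.presheaf.stalk (genC (C j)))
  have hca : Ideal.span {φ c} = 𝔪 ^ d j := by
    rw [← Set.image_singleton, ← Ideal.map_span, ← hDW, hD, hprod, hmax]
  have haa : Ideal.span {φ a} = 𝔪 ^ e j := by
    rw [← Set.image_singleton, ← Ideal.map_span, ← hZW, hZ, Scheme.IdealSheafData.ideal_mul, Pi.mul_apply,
      Ideal.map_mul, hprod, hmax, hunitE E hE, Ideal.mul_top]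
  let sp := (X.presheaf.stalkSpecializes (genericPoint_specializes (genC (C j)))).hom
  have hinj : Function.Injective sp := IsFractionRing.injective (X.presheaf.stalk (genC (C j))) X.functionField
  have hsp : ∀ b : Γ(X, W), sp (φ b) = X.presheaf.germ W (genericPoint X) hηW b := fun b =>
    TopCat.Presheaf.germ_stalkSpecializes_apply X.presheaf hξ (genericPoint_specializes (genC (C j))) b
  have hres : ∀ (O : X.Opens) (h : V ≤ O) (hO : genericPoint X ∈ O) (b : Γ(X, O)),
      X.presheaf.germ V (genericPoint X) hηV (X.presheaf.map (homOfLE h).op b) =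
        X.presheaf.germ O (genericPoint X) hO b := fun O h hO b =>
    TopCat.Presheaf.germ_res_apply X.presheaf (homOfLE h) _ hηV b
  rw [hres W inf_le_left hηW, hres U inf_le_right hη, hres W inf_le_left hηW] at hag'
  have hloc : φ a = G * φ c ^ (n + 1) := hinj (by
    rw [map_mul, ← map_pow φ, hsp, hsp, show sp G = X.presheaf.germ U (genericPoint X) hη g from hG]
    exact hag')
  haveI : IsDomain (X.presheaf.stalk (genC (C j))) := inferInstance
  have hm : 𝔪 ≠ ⊥ := fun h0 => hne (by
    have hd0 : ringKrullDim (X.presheaf.stalk (genC (C j))) = 0 :=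
      ringKrullDim_eq_zero_of_isField (IsLocalRing.isField_iff_maximalIdeal_eq.2 h0)
    rw [ringKrullDim_stalk_eq_coheight] at hd0
    have h2 : Order.coheight (genC (C j)) = 0 := WithBot.coe_eq_zero.1 hd0
    exact le_antisymm (genericPoint_specializes (genC (C j))) ((Order.coheight_eq_zero.1 h2) (genericPoint_specializes (genC (C j)))) )
  have key : 𝔪 ^ e j = Ideal.span {G} * 𝔪 ^ (d j * (n + 1)) := by
    rw [← haa, hloc, ← Ideal.span_singleton_mul_span_singleton, ← Ideal.span_singleton_pow, hca, ← pow_mul]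
  refine ⟨?_, fun hu => ?_⟩
  · rw [mul_comm]
    exact le_of_maximalIdeal_pow_le hm (key.le.trans Ideal.mul_le_right)
  · rw [mul_comm, ← Nat.add_one_le_iff]
    refine le_of_maximalIdeal_pow_le hm (key.le.trans ?_)
    rw [pow_succ']
    exact Ideal.mul_mono_left ((Ideal.span_singleton_le_iff_mem _).2 hu)

end Groth.Agent.SurfInt
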