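import Groth.Agent.ModX56.Gamma
import Groth.Agent.PosLinX.Fibre

/-! Fibres of proper morphisms with `f_* O = O` are connected. -/

noncomputable section

set_option linter.style.haveILetI false
set_option linter.unusedSectionVars false
set_option backward.isDefEq.respectTransparency false
set_option backward.isDefEq.respectTransparency.types false

universe u

open CategoryTheory CategoryTheory.Limits AlgebraicGeometry TopologicalSpace Opposite

namespace Groth.Agent.SurfInt

open Groth.Agent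

theorem isConnected_fibre {X Y : Scheme.{u}} [IsLocallyNoetherian Y] (f : X ⟶ Y) [IsProper f]
    (hconn : IsIso (ClSub.unitToPush f)) (p : Y) : _root_.IsConnected (f ⁻¹' {p}) := by
  obtain ⟨_, ⟨U', hU, rfl⟩, hpU, -⟩ := Y.isBasis_affineOpens.exists_subset_of_mem_open (Set.mem_univ p) isOpen_univ
  let U : Y.Opens := U'
  replace hU : IsAffineOpen U := hU
  replace hpU : p ∈ U := hpU
  let A := Γ(Y, U)
  haveI : IsNoetherianRing A := IsLocallyNoetherian.component_noetherian ⟨U, hU⟩
  let q : (f ⁻¹ᵁ U).toScheme ⟶ Spec (CommRingCat.of A) := (f ∣_ U) ≫ hU.isoSpec.hom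
  haveI : IsProper q := inferInstanceAs (IsProper ((f ∣_ U) ≫ hU.isoSpec.hom))
  have hq : Function.Bijective q.appTop := by
    have h1 : Function.Bijective (f ∣_ U).appTop := by
      rw [morphismRestrict_appTop]
      haveI : IsIso (f.app (U.ι ''ᵁ ⊤)) :=
        (ConcreteCategory.isIso_iff_bijective _).2 (PosLinX.app_bijective f hconn _)
      exact ConcreteCategory.bijective_of_isIso _
    show Function.Bijective ((f ∣_ U) ≫ hU.isoSpec.hom).appTop
    rw [Scheme.Hom.comp_appTop]
    haveI : IsIso ((f ∣_ U).appTop) := (ConcreteCategory.isIso_iff_bijective _).2 h1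
    exact ConcreteCategory.bijective_of_isIso _
  let pr := hU.primeIdealOf ⟨p, hpU⟩
  let B := Localization.AtPrime pr.asIdeal
  let φ : A →+* B := algebraMap A B
  let ψ : B →+* IsLocalRing.ResidueField B := IsLocalRing.residue B
  haveI := ModX56.connectedSpace_pullback_of_flat_surjective q hq φ
    (RingHom.flat_algebraMap_iff.mpr inferInstance) ψ IsLocalRing.residue_surjective
  let t := Spec.map (CommRingCat.ofHom (ψ.comp φ))
  let g := pullback.fst q t ≫ (f ⁻¹ᵁ U).ι
  suffices Set.range g = f ⁻¹' {p} by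
    rw [← this]
    exact isConnected_range g.continuous
  have ht : Set.range t = {pr} := by
    refine Set.eq_singleton_iff_nonempty_unique_mem.2 ⟨⟨_, ⟨⟨⊥, Ideal.isPrime_bot⟩, rfl⟩⟩, ?_⟩
    rintro _ ⟨z, rfl⟩
    refine PrimeSpectrum.ext ?_
    show Ideal.comap (ψ.comp φ) z.asIdeal = pr.asIdeal
    have hz : z.asIdeal = ⊥ := (Ideal.eq_bot_or_top z.asIdeal).resolve_right z.2.ne_top
    rw [hz, ← RingHom.ker_eq_comap_bot, ← RingHom.comap_ker, IsLocalRing.ker_residue]
    exact Localization.AtPrime.comap_maximalIdeal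
  show Set.range (pullback.fst q t ≫ (f ⁻¹ᵁ U).ι) = _
  rw [Scheme.Hom.comp_base, TopCat.coe_comp, Set.range_comp, Scheme.Pullback.range_fst, ht]
  have hsh : ∀ z : (f ⁻¹ᵁ U).toScheme, q z = pr ↔ f ((f ⁻¹ᵁ U).ι z) = p := by
    intro z
    have hz : U.ι ((f ∣_ U) z) = f ((f ⁻¹ᵁ U).ι z) := by
      rw [← Scheme.Hom.comp_apply, morphismRestrict_ι, Scheme.Hom.comp_apply]
    have hq' : hU.fromSpec (q z) = U.ι ((f ∣_ U) z) := by
      have e : q ≫ hU.fromSpec = (f ∣_ U) ≫ U.ι := by
        show ((f ∣_ U) ≫ hU.isoSpec.hom) ≫ hU.fromSpec = _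
        rw [Category.assoc, IsAffineOpen.isoSpec_hom_fromSpec]
      exact congrArg (fun φ : (f ⁻¹ᵁ U).toScheme ⟶ Y => φ z) e
    rw [← hz]
    have hp' : hU.fromSpec pr = p := hU.fromSpec_primeIdealOf ⟨p, hpU⟩
    constructor
    · intro h
      rw [← hq', h, hp']
    · intro h
      apply hU.fromSpec.isOpenEmbedding.injective
      exact (hq'.trans h).trans hp'.symm
  ext x
  constructor
  · rintro ⟨z, hz, rfl⟩
    exact (hsh z).1 hz
  · intro hx
    have hxU : x ∈ f ⁻¹ᵁ U := show f x ∈ U by rw [show f x = p from hx]; exact hpU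
    exact ⟨⟨x, hxU⟩, (hsh ⟨x, hxU⟩).2 hx, rfl⟩

end Groth.Agent.SurfInt
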