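import Mathlib.RingTheory.Localization.BaseChange
import Mathlib.RingTheory.TensorProduct.MvPolynomial
import Mathlib.RingTheory.Localization.FractionRing
import Mathlib.RingTheory.Localization.Ideal
import Mathlib.Algebra.MvPolynomial.CommRing

/-! The generic linear combination of functions on an affine domain. -/

noncomputable section

universe u

open MvPolynomial

namespace Groth.Agent.SurfInt.GenAlg

variable {A : Type u} [CommRing A] {κ : Type u} [Fintype κ]

theorem linear_ideal (c : κ → A) (j : κ) (hc : c j = 1) [IsDomain A] :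
    (Ideal.span {∑ i, C (c i) * X i}).IsPrime ∧ (∑ i, C (c i) * X i) ≠ 0 ∧
      (Ideal.span {∑ i, C (c i) * X i}).comap (C : A →+* MvPolynomial κ A) = ⊥ := by
  classical
  set e : MvPolynomial κ A := ∑ i, C (c i) * X i with hedef
  let ψ : MvPolynomial κ A →ₐ[A] MvPolynomial κ A :=
    aeval fun i => if i = j then X j - e else X i
  have he : ψ e = 0 := by
    have h1 : ∀ i, ψ (C (c i) * X i) = C (c i) * X i + (if i = j then C (c i) * (-e) else 0) := fun i => by
      by_cases h : i = j
      · subst h; simp [ψ]; ring
      · simp [ψ, h]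
    rw [hedef, map_sum, Finset.sum_congr rfl fun i _ => h1 i, Finset.sum_add_distrib,
      Finset.sum_ite_eq' Finset.univ j, if_pos (Finset.mem_univ _), hc, map_one, one_mul, add_neg_cancel]
  have hsub : ∀ p, p - ψ p ∈ Ideal.span {e} := fun p => by
    induction p using MvPolynomial.induction_on with
    | C a => simp [ψ]
    | add p q hp hq =>
      rw [map_add, show p + q - (ψ p + ψ q) = (p - ψ p) + (q - ψ q) by ring]
      exact add_mem hp hq
    | mul_X p i hp =>
      rw [map_mul, show p * X i - ψ p * ψ (X i) = (p - ψ p) * ψ (X i) + p * (X i - ψ (X i)) by ring]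
      refine add_mem (Ideal.mul_mem_right _ _ hp) (Ideal.mul_mem_left _ _ ?_)
      by_cases h : i = j
      · subst h; simpa [ψ] using Ideal.mem_span_singleton_self e
      · simp [ψ, h]
  have hker : Ideal.span {e} = RingHom.ker ψ := by
    refine le_antisymm ((Ideal.span_singleton_le_iff_mem _).2 he) fun p hp => ?_
    have h := hsub p
    rwa [(RingHom.mem_ker).1 hp, sub_zero] at h
  have hprime : (Ideal.span {e}).IsPrime := by
    rw [hker]; exact RingHom.ker_isPrime _
  refine ⟨hprime, fun h0 => ?_, eq_bot_iff.2 fun a ha => ?_⟩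
  · have h1 := hsub (X j)
    rw [h0, Ideal.span_singleton_eq_bot.2 rfl, Ideal.mem_bot] at h1
    have h2 := congrArg (MvPolynomial.eval fun i => if i = j then (1 : A) else 0) h0
    simp [e, hc] at h2
  · rw [Ideal.mem_comap, hker, RingHom.mem_ker] at ha
    simpa [ψ] using ha

attribute [local instance] MvPolynomial.algebraMvPolynomial

/-- Over the field of the coefficients. -/
theorem generic_linear {k : Type u} [Field k] [IsDomain A] [Algebra k A] (c : κ → A) (j : κ) (hc : c j = 1)
    (R : Type u) [CommRing R] [Algebra A R] [Algebra (FractionRing (MvPolynomial κ k)) R] [Algebra k R]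
    [IsScalarTower k A R] [IsScalarTower k (FractionRing (MvPolynomial κ k)) R]
    [Algebra.IsPushout k (FractionRing (MvPolynomial κ k)) A R] :
    IsDomain R ∧ Function.Injective (algebraMap A R) ∧
    let e := ∑ i, algebraMap A R (c i) * algebraMap (FractionRing (MvPolynomial κ k)) R (algebraMap (MvPolynomial κ k) _ (X i))
    e ≠ 0 ∧ ((Ideal.span {e}).IsPrime ∨ Ideal.span {e} = ⊤) ∧
      (Ideal.span {e} ≠ ⊤ → (Ideal.span {e}).comap (algebraMap A R) = ⊥) := by
  classical
  let P := MvPolynomial κ k
  let K := FractionRing P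
  letI : Algebra P R := ((algebraMap K R).comp (algebraMap P K)).toAlgebra
  letI : Algebra (MvPolynomial κ A) R :=
    (eval₂Hom (algebraMap A R) fun i => algebraMap P R (X i)).toAlgebra
  haveI : IsScalarTower P K R := .of_algebraMap_eq fun _ => rfl
  haveI : IsScalarTower A (MvPolynomial κ A) R := .of_algebraMap_eq fun a => by
    simp [RingHom.algebraMap_toAlgebra]
  haveI : IsScalarTower k P R := .of_algebraMap_eq fun a => by
    show algebraMap k R a = algebraMap K R (algebraMap P K (algebraMap k P a))
    rw [← IsScalarTower.algebraMap_apply k P K, ← IsScalarTower.algebraMap_apply k K R]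
  haveI : IsScalarTower P (MvPolynomial κ A) R := .of_algebraMap_eq fun p => by
    refine RingHom.congr_fun (f := algebraMap P R)
      (g := (algebraMap (MvPolynomial κ A) R).comp (algebraMap P (MvPolynomial κ A))) ?_ p
    refine MvPolynomial.ringHom_ext (fun a => ?_) fun i => ?_
    · show algebraMap P R (C a) = eval₂Hom (algebraMap A R) (fun i => algebraMap P R (X i))
        (MvPolynomial.map (algebraMap k A) (C a))
      rw [map_C, eval₂Hom_C, ← IsScalarTower.algebraMap_apply k A R, IsScalarTower.algebraMap_apply k P R]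
      rfl
    · show algebraMap P R (X i) = eval₂Hom (algebraMap A R) (fun i => algebraMap P R (X i))
        (MvPolynomial.map (algebraMap k A) (X i))
      rw [map_X, eval₂Hom_X']
  haveI : IsScalarTower k (MvPolynomial κ A) R := .of_algebraMap_eq fun a => by
    rw [IsScalarTower.algebraMap_apply k A (MvPolynomial κ A), ← IsScalarTower.algebraMap_apply A (MvPolynomial κ A) R,
      ← IsScalarTower.algebraMap_apply k A R]
  haveI : Algebra.IsPushout k P A (MvPolynomial κ A) := inferInstance
  haveI : Algebra.IsPushout P K (MvPolynomial κ A) R := (Algebra.IsPushout.comp_iff k P A (MvPolynomial κ A)).1 inferInstance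
  haveI hloc : IsLocalization (Algebra.algebraMapSubmonoid (MvPolynomial κ A) (nonZeroDivisors P)) R :=
    (Algebra.isLocalization_iff_isPushout (nonZeroDivisors P) (A := K)).2 (Algebra.IsPushout.symm inferInstance)
  have hM : Algebra.algebraMapSubmonoid (MvPolynomial κ A) (nonZeroDivisors P) ≤ nonZeroDivisors _ := by
    rintro _ ⟨p, hp, rfl⟩
    refine mem_nonZeroDivisors_of_ne_zero fun h => nonZeroDivisors.ne_zero hp ?_
    refine (MvPolynomial.map_injective (algebraMap k A) (algebraMap k A).injective) ?_
    rw [map_zero, ← h]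
    rfl
  have hdom : IsDomain R := IsLocalization.isDomain_of_le_nonZeroDivisors R hM
  have hinj : Function.Injective (algebraMap (MvPolynomial κ A) R) := IsLocalization.injective R hM
  refine ⟨hdom, ?_, ?_⟩
  · rw [IsScalarTower.algebraMap_eq A (MvPolynomial κ A) R]
    exact hinj.comp (C_injective κ A)
  intro e
  obtain ⟨hp, he0, hcomap⟩ := linear_ideal c j hc
  have he : e = algebraMap (MvPolynomial κ A) R (∑ i, C (c i) * X i) := by
    simp [e, RingHom.algebraMap_toAlgebra (R := MvPolynomial κ A)]
    rfl
  rw [he]
  refine ⟨fun h => he0 (hinj (h.trans (map_zero _).symm)), ?_⟩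
  set I := Ideal.span {∑ i, C (c i) * X i}
  have hmap : Ideal.span {algebraMap (MvPolynomial κ A) R (∑ i, C (c i) * X i)} = I.map (algebraMap _ R) := by
    rw [Ideal.map_span, Set.image_singleton]
  rw [hmap]
  by_cases hd : Disjoint (Algebra.algebraMapSubmonoid (MvPolynomial κ A) (nonZeroDivisors P) : Set (MvPolynomial κ A)) I
  · refine ⟨Or.inl (IsLocalization.isPrime_of_isPrime_disjoint _ R I hp hd), fun _ => ?_⟩
    rw [IsScalarTower.algebraMap_eq A (MvPolynomial κ A) R, ← Ideal.comap_comap,
      show Ideal.comap (algebraMap (MvPolynomial κ A) R) (I.map (algebraMap _ R)) = I from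
        IsLocalization.under_map_of_isPrime_disjoint _ R hp hd]
    exact hcomap
  · have htop : I.map (algebraMap (MvPolynomial κ A) R) = ⊤ := by
      obtain ⟨x, hxM, hxI⟩ := Set.not_disjoint_iff.1 hd
      exact Ideal.eq_top_of_isUnit_mem _ (Ideal.mem_map_of_mem _ hxI) (IsLocalization.map_units R ⟨x, hxM⟩)
    exact ⟨Or.inr htop, fun h => (h htop).elim⟩

end Groth.Agent.SurfInt.GenAlg
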