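import Groth.Agent.SurfInt.GenAlg
import Groth.Agent.SurfInt.Divisor
import Groth.Agent.InvX.GenLocusPull
import Groth.Agent.AmpleX.FiniteSet
import Groth.Agent.QCoh.FlatBC
import Groth.Agent.CurveEmbed.Pow

/-! A generic member of a base point free system, over the field of its coefficients, is integral. -/

noncomputable section

set_option linter.style.haveILetI false
set_option linter.unusedSectionVars false
set_option backward.isDefEq.respectTransparency false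
set_option backward.isDefEq.respectTransparency.types false

universe u

open CategoryTheory CategoryTheory.Limits AlgebraicGeometry TopologicalSpace Opposite

namespace Groth.Agent.SurfInt

open Groth.Agent

theorem isReduced_of_affine_cover {T : Scheme.{u}}
    (h : ∀ t : T, ∃ W : T.Opens, IsAffineOpen W ∧ t ∈ W ∧ _root_.IsReduced Γ(T, W)) : IsReduced T := by
  haveI : ∀ t : T, _root_.IsReduced (T.presheaf.stalk t) := fun t => by
    obtain ⟨W, hW, ht, hr⟩ := h t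
    letI := QCoh.stalkAlg (X := T) ht
    haveI := QCoh.isLocalization_stalk' hW ht
    exact isReduced_localizationPreserves (hW.primeIdealOf ⟨t, ht⟩).asIdeal.primeCompl (T.presheaf.stalk t) hr
  exact isReduced_of_isReduced_stalk T

theorem mem_support_iff_le {T : Scheme.{u}} (I : T.IdealSheafData) (W : T.affineOpens) {t : T} (ht : t ∈ W.1) :
    t ∈ (I.support : Set T) ↔ I.ideal W ≤ (W.2.primeIdealOf ⟨t, ht⟩).asIdeal := by
  show t ∈ I.supportSet ↔ _
  rw [Scheme.IdealSheafData.mem_supportSet_iff_of_mem ht, Scheme.mem_zeroLocus_iff]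
  exact ⟨fun h a ha => by_contra fun hn => h a ha ((QCoh.mem_basicOpen_iff_notMem W.2 ht a).2 hn),
    fun h a ha hm => (QCoh.mem_basicOpen_iff_notMem W.2 ht a).1 hm (h ha)⟩

theorem specializes_of_le {T : Scheme.{u}} {W : T.Opens} (hW : IsAffineOpen W) {a b : T} (ha : a ∈ W) (hb : b ∈ W)
    (h : (hW.primeIdealOf ⟨a, ha⟩).asIdeal ≤ (hW.primeIdealOf ⟨b, hb⟩).asIdeal) : a ⤳ b :=
  (AssPtX.primeIdealOf_le_iff hW ha hb).1 h

theorem irreducibleSpace_of_isGenericPoint {T : Type*} [TopologicalSpace T] {z : T} (hz : ∀ y, z ⤳ y) :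
    IrreducibleSpace T := by
  haveI : Nonempty T := ⟨z⟩
  refine @IrreducibleSpace.mk T _ ⟨?_⟩ inferInstance
  have : (Set.univ : Set T) = closure {z} :=
    (Set.eq_univ_of_forall fun y => specializes_iff_mem_closure.1 (hz y)).symm
  rw [this]
  exact isIrreducible_singleton.closure.2

/-- A closed set covered by opens, each having a generic point which lies in all of them. -/
theorem exists_generic_of_cover {T : Type*} [TopologicalSpace T] {ι : Type*} (S : Set T) (V : ι → Set T)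
    (hcov : ∀ y ∈ S, ∃ i, y ∈ V i) (hne : S.Nonempty)
    (h : ∀ i, (S ∩ V i).Nonempty → ∃ z ∈ S, (∀ j, (S ∩ V j).Nonempty → z ∈ V j) ∧ ∀ y ∈ S ∩ V i, z ⤳ y) :
    ∃ z ∈ S, ∀ y ∈ S, z ⤳ y := by
  obtain ⟨y₀, hy₀⟩ := hne
  obtain ⟨i, hi⟩ := hcov y₀ hy₀
  obtain ⟨z, hz, -, hzi⟩ := h i ⟨y₀, hy₀, hi⟩
  refine ⟨z, hz, fun y hy => ?_⟩
  obtain ⟨j, hj⟩ := hcov y hy
  obtain ⟨w, hw, hwV, hwj⟩ := h j ⟨y, hy, hj⟩
  exact (hzi w ⟨hw, hwV i ⟨y₀, hy₀, hi⟩⟩).trans (hwj y ⟨hy, hj⟩)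

variable {k : Type u} [Field k]

/-- Base change of an affine open is a pushout. -/
theorem isPushout_sections {B : Type u} [CommRing B] [Algebra k B] {X X' : Scheme.{u}}
    (φ : X' ⟶ X) (pA : X ⟶ Spec (CommRingCat.of k)) (pB : X' ⟶ Spec (CommRingCat.of B))
    (h : IsPullback φ pB pA (Spec.map (CommRingCat.ofHom (algebraMap k B)))) [IsAffineHom φ]
    {V : X.Opens} (hV : IsAffineOpen V) :
    letI : Algebra k Γ(X, V) := ((X.presheaf.map (homOfLE (le_top : V ≤ ⊤)).op).hom.comp (Coh.toGlobal pA)).toAlgebra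
    letI : Algebra B Γ(X', φ ⁻¹ᵁ V) :=
      ((X'.presheaf.map (homOfLE (le_top : φ ⁻¹ᵁ V ≤ ⊤)).op).hom.comp (Coh.toGlobal pB)).toAlgebra
    letI : Algebra k Γ(X', φ ⁻¹ᵁ V) :=
      (((X'.presheaf.map (homOfLE (le_top : φ ⁻¹ᵁ V ≤ ⊤)).op).hom.comp (Coh.toGlobal pB)).comp (algebraMap k B)).toAlgebra
    letI : Algebra Γ(X, V) Γ(X', φ ⁻¹ᵁ V) := (φ.appLE V (φ ⁻¹ᵁ V) le_rfl).hom.toAlgebra
    ∃ (_ : IsScalarTower k B Γ(X', φ ⁻¹ᵁ V)) (_ : IsScalarTower k Γ(X, V) Γ(X', φ ⁻¹ᵁ V)),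
      Algebra.IsPushout k B Γ(X, V) Γ(X', φ ⁻¹ᵁ V) := by
  let V' := φ ⁻¹ᵁ V
  let ρ := Coh.toGlobal pA
  let ρ' := Coh.toGlobal pB
  letI : Algebra k Γ(X, V) := ((X.presheaf.map (homOfLE (le_top : V ≤ ⊤)).op).hom.comp ρ).toAlgebra
  letI : Algebra B Γ(X', V') := ((X'.presheaf.map (homOfLE (le_top : V' ≤ ⊤)).op).hom.comp ρ').toAlgebra
  letI : Algebra k Γ(X', V') :=
    (((X'.presheaf.map (homOfLE (le_top : V' ≤ ⊤)).op).hom.comp ρ').comp (algebraMap k B)).toAlgebra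
  letI : Algebra Γ(X, V) Γ(X', V') := (φ.appLE V V' le_rfl).hom.toAlgebra
  haveI : IsScalarTower k B Γ(X', V') := IsScalarTower.of_algebraMap_eq' rfl
  haveI : IsScalarTower k Γ(X, V) Γ(X', V') := IsScalarTower.of_algebraMap_eq fun a => by
    show X'.presheaf.map (homOfLE (le_top : V' ≤ ⊤)).op (ρ' (algebraMap k B a)) =
      φ.appLE V V' le_rfl (X.presheaf.map (homOfLE (le_top : V ≤ ⊤)).op (ρ a))
    rw [Scheme.Hom.appLE_eq_app, QCoh.app_topRes, QCoh.toGlobal_comm pA pB φ h.w]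
  refine ⟨inferInstance, inferInstance, ?_⟩
  rw [← CommRingCat.isPushout_iff_isPushout]
  haveI : IsAffine (V : Scheme.{u}) := hV
  have h1 := (isPullback_morphismRestrict φ V).paste_vert h
  refine (isPushout_appTop_of_isPullback h1).flip.of_iso (Scheme.ΓSpecIso (CommRingCat.of k))
    (Scheme.ΓSpecIso (CommRingCat.of B)) V.topIso V'.topIso ?_ ?_ ?_ ?_
  · exact Scheme.ΓSpecIso_naturality (CommRingCat.ofHom (algebraMap k B))
  · ext a
    simp [RingHom.algebraMap_toAlgebra, ρ, Coh.toGlobal]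
    erw [← CommRingCat.comp_apply, ← Functor.map_comp]
    rfl
  · ext a
    simp [RingHom.algebraMap_toAlgebra, ρ', Coh.toGlobal]
    erw [← CommRingCat.comp_apply, ← Functor.map_comp]
    rfl
  · simp [RingHom.algebraMap_toAlgebra, Scheme.Hom.appLE_eq_app, V']
    rfl

variable {X : Scheme.{u}} [IsIntegral X]

/-- On each chart the generic member is the zero locus of a linear form in the coefficients. -/
theorem generic_member {κ : Type u} [Fintype κ] (pA : X ⟶ Spec (CommRingCat.of k)) {X' : Scheme.{u}}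
    (pB : X' ⟶ Spec (CommRingCat.of (FractionRing (MvPolynomial κ k)))) (g : X' ⟶ X)
    (h : IsPullback g pB pA (Spec.map (CommRingCat.ofHom (algebraMap k (FractionRing (MvPolynomial κ k))))))
    {G : X.Modules} (hG : PicF.IsInvertible G) (σ : κ → Γ(G, ⊤))
    (haff : ∀ j, IsAffineOpen (H23.TrivBasic.locus (σ j))) (hcov : ∀ x : X, ∃ j, x ∈ H23.TrivBasic.locus (σ j)) :
    IsIntegral X' ∧ ∃ s : Coh.structureModule X' ⟶ (Scheme.Modules.pullback g).obj G, s ≠ 0 ∧
      (IsEmpty (PicF2.zeroScheme _ s).subscheme ∨ IsIntegral (PicF2.zeroScheme _ s).subscheme) := by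
  classical
  let K := FractionRing (MvPolynomial κ k)
  haveI : IsAffineHom g := MorphismProperty.of_isPullback h.flip inferInstance
  haveI : Surjective g := MorphismProperty.of_isPullback h.flip
    ⟨fun x => ⟨IsLocalRing.closedPoint K, Subsingleton.elim _ _⟩⟩
  let G' := (Scheme.Modules.pullback g).obj G
  have hG' : PicF.IsInvertible G' := PicClLib.isInvertible_pullback g hG
  let α : κ → Γ(X', ⊤) := fun i => Coh.toGlobal pB (algebraMap (MvPolynomial κ k) K (MvPolynomial.X i))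
  let t : Γ(G', ⊤) := ∑ i, α i • (show Γ(G', ⊤) from InvX.pullElt g (σ i))
  let s : Coh.structureModule X' ⟶ G' := InvX.ofSect t
  let D := PicF2.zeroScheme G' s
  let U : κ → X.Opens := fun j => H23.TrivBasic.locus (σ j)
  have hV : ∀ j, IsAffineOpen (g ⁻¹ᵁ U j) := fun j => (haff j).preimage g
  have hchart : ∀ j, Nonempty (U j) →
      IsDomain Γ(X', g ⁻¹ᵁ U j) ∧ Function.Injective (g.appLE (U j) (g ⁻¹ᵁ U j) le_rfl) ∧
      ∃ e : Γ(X', g ⁻¹ᵁ U j), e ≠ 0 ∧ D.ideal ⟨_, hV j⟩ = Ideal.span {e} ∧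
        ((∃ (f : Γ(G', g ⁻¹ᵁ U j)), InvX.IsFrame f ∧ ZeroSchX.sv s (g ⁻¹ᵁ U j) = e • f)) ∧
        ((Ideal.span {e}).IsPrime ∨ Ideal.span {e} = ⊤) ∧
        (Ideal.span {e} ≠ ⊤ → (Ideal.span {e}).comap (g.appLE (U j) (g ⁻¹ᵁ U j) le_rfl).hom = ⊥) := by
    intro j hne
    haveI := hne
    let V' := g ⁻¹ᵁ U j
    letI : Algebra k Γ(X, U j) := ((X.presheaf.map (homOfLE (le_top : U j ≤ ⊤)).op).hom.comp (Coh.toGlobal pA)).toAlgebra
    letI : Algebra K Γ(X', V') :=
      ((X'.presheaf.map (homOfLE (le_top : V' ≤ ⊤)).op).hom.comp (Coh.toGlobal pB)).toAlgebra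
    letI : Algebra k Γ(X', V') :=
      (((X'.presheaf.map (homOfLE (le_top : V' ≤ ⊤)).op).hom.comp (Coh.toGlobal pB)).comp (algebraMap k K)).toAlgebra
    letI : Algebra Γ(X, U j) Γ(X', V') := (g.appLE (U j) V' le_rfl).hom.toAlgebra
    obtain ⟨i1, i2, hP⟩ := isPushout_sections g pA pB h (haff j)
    haveI := i1
    haveI := i2
    haveI := hP
    have hf : InvX.IsFrame (AModX.res G (le_top : U j ≤ ⊤) (σ j)) :=
      H23.TrivBasic.isFrame_res_of_le_locus le_rfl
    have hc : ∀ i, ∃ c : Γ(X, U j), AModX.res G (le_top : U j ≤ ⊤) (σ i) = c • AModX.res G (le_top : U j ≤ ⊤) (σ j) :=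
      fun i => by
        obtain ⟨c, hc⟩ := hf.exists_coord le_rfl (AModX.res G (le_top : U j ≤ ⊤) (σ i))
        exact ⟨c, by rw [hc, AModX.res_self]⟩
    choose c hc using hc
    have hcj : c j = 1 := hf.coord_unique le_rfl (by rw [AModX.res_self, one_smul]; exact (hc j).symm)
    obtain ⟨hd, hinj, hne0, hp, hcomap⟩ := GenAlg.generic_linear (k := k) c j hcj Γ(X', V')
    let f : Γ(G', V') := InvX.pullElt g (AModX.res G (le_top : U j ≤ ⊤) (σ j))
    have hff : InvX.IsFrame f := InvX.isFrame_pullElt g hf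
    let e : Γ(X', V') := ∑ i, algebraMap Γ(X, U j) Γ(X', V') (c i) *
      algebraMap K Γ(X', V') (algebraMap (MvPolynomial κ k) K (MvPolynomial.X i))
    have hsv : ZeroSchX.sv s V' = e • f := by
      show (InvX.ofSect t).app V' (1 : Γ(X', V')) = _
      rw [CurveEmbed.ofSect_app, one_smul, map_sum, Finset.sum_smul]
      refine Finset.sum_congr rfl fun i _ => ?_
      rw [AModX.res_smul, mul_comm, mul_smul]
      refine congrArg₂ (· • ·) rfl ?_
      refine (InvX.res_pullElt g (le_top : U j ≤ ⊤) (σ i)).trans ?_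
      rw [hc i, InvX.pullElt_smul]
      refine congrArg (· • f) ?_
      show g.app (U j) (c i) = g.appLE (U j) V' le_rfl (c i)
      rw [Scheme.Hom.appLE_eq_app]
    refine ⟨hd, hinj, e, hne0, ?_, ⟨f, hff, hsv⟩, hp, hcomap⟩
    rw [ZeroSchX.ideal_zeroScheme hG', ZeroSchX.zeroIdealOn_eq_span s hff hsv]
  -- points of a chart over the generic point
  have hover : ∀ j (z : X') (hz : z ∈ g ⁻¹ᵁ U j),
      ((hV j).primeIdealOf ⟨z, hz⟩).asIdeal.comap (g.appLE (U j) (g ⁻¹ᵁ U j) le_rfl).hom = ⊥ →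
        ∀ i, Nonempty (U i) → z ∈ g ⁻¹ᵁ U i := by
    intro j z hz hcomap i hi
    obtain ⟨⟨x, hx⟩⟩ := hi
    obtain ⟨y, hyj, hyi⟩ := nonempty_preirreducible_inter (U j).2 (U i).2 ⟨g z, hz⟩ ⟨x, hx⟩
    refine (specializes_of_le (haff j) hz hyj ?_).mem_open (U i).2 hyi
    refine le_of_eq_of_le ?_ bot_le
    rw [← IsAffineOpen.comap_primeIdealOf_appLE (U j) (haff j) (g ⁻¹ᵁ U j) (hV j) le_rfl hz]
    exact hcomap
  have hcov' : ∀ y : X', ∃ j, y ∈ g ⁻¹ᵁ U j ∧ Nonempty (U j) := fun y =>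
    let ⟨j, hj⟩ := hcov (g y)
    ⟨j, hj, ⟨⟨g y, hj⟩⟩⟩
  -- the scheme upstairs
  have hred : IsReduced X' := isReduced_of_affine_cover fun y => by
    obtain ⟨j, hj, hne⟩ := hcov' y
    haveI := (hchart j hne).1
    exact ⟨_, hV j, hj, inferInstance⟩
  haveI := hred
  have hX' : IrreducibleSpace X' := by
    obtain ⟨y₀, -⟩ := g.surjective (genericPoint X)
    obtain ⟨z, -, hz⟩ := exists_generic_of_cover (Set.univ : Set X')
      (fun j : {j // Nonempty (U j)} => ((g ⁻¹ᵁ U j.1 : X'.Opens) : Set X'))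
      (fun y _ => let ⟨j, hj, hne⟩ := hcov' y; ⟨⟨j, hne⟩, hj⟩) ⟨y₀, trivial⟩ fun j _ => by
        obtain ⟨hd, hinj, -⟩ := hchart j.1 j.2
        haveI := hd
        obtain ⟨z, hz, hzq⟩ := QCoh.exists_point (hV j.1) (⟨⊥, Ideal.isPrime_bot⟩ : PrimeSpectrum Γ(X', g ⁻¹ᵁ U j.1))
        have hzq' : ((hV j.1).primeIdealOf ⟨z, hz⟩).asIdeal = ⊥ := by rw [hzq]
        refine ⟨z, trivial, fun i _ => hover j.1 z hz ?_ i.1 i.2, fun y hy => ?_⟩
        · rw [hzq', eq_bot_iff]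
          exact fun a ha => hinj ((Ideal.mem_bot.1 (Ideal.mem_comap.1 ha)).trans (map_zero _).symm)
        · exact specializes_of_le (hV j.1) hz hy.2 (hzq'.le.trans bot_le)
    exact irreducibleSpace_of_isGenericPoint fun y => hz y trivial
  haveI := hX'
  have hint : IsIntegral X' := isIntegral_of_irreducibleSpace_of_isReduced X'
  haveI := hint
  refine ⟨hint, s, fun hs0 => ?_, ?_⟩
  · obtain ⟨y₀, -⟩ := g.surjective (genericPoint X)
    obtain ⟨j, hj, hne⟩ := hcov' y₀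
    obtain ⟨-, -, e, he0, -, ⟨f, hf, hsv⟩, -⟩ := hchart j hne
    refine he0 (hf.coord_unique le_rfl ?_)
    rw [AModX.res_self, zero_smul, ← hsv, hs0]
    rfl
  by_cases hemp : IsEmpty D.subscheme
  · exact Or.inl hemp
  right
  haveI : Nonempty D.subscheme := not_isEmpty_iff.1 hemp
  have hCred : IsReduced D.subscheme := isReduced_of_affine_cover fun y => by
    obtain ⟨j, hj, hne⟩ := hcov' (D.subschemeι y)
    obtain ⟨-, -, e, -, hid, -, hp, -⟩ := hchart j hne
    refine ⟨D.subschemeι ⁻¹ᵁ (g ⁻¹ᵁ U j), (hV j).preimage _, hj, ?_⟩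
    let φ := (D.subschemeObjIso ⟨_, hV j⟩).commRingCatIsoToRingEquiv
    haveI : _root_.IsReduced (Γ(X', g ⁻¹ᵁ U j) ⧸ D.ideal ⟨_, hV j⟩) := by
      rw [← Ideal.isRadical_iff_quotient_reduced, hid]
      rcases hp with hp | hp
      · exact hp.isRadical
      · rw [hp]; exact fun _ _ => trivial
    exact isReduced_of_injective φ.toRingHom φ.injective
  haveI := hCred
  have hCirr : IrreducibleSpace D.subscheme := by
    obtain ⟨d₀⟩ := (inferInstance : Nonempty D.subscheme)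
    have hd₀ : D.subschemeι d₀ ∈ (D.support : Set X') := by rw [← D.range_subschemeι]; exact ⟨d₀, rfl⟩
    obtain ⟨z, hz, hzy⟩ := exists_generic_of_cover (D.support : Set X')
      (fun j : {j // Nonempty (U j)} => ((g ⁻¹ᵁ U j.1 : X'.Opens) : Set X'))
      (fun y _ => let ⟨j, hj, hne⟩ := hcov' y; ⟨⟨j, hne⟩, hj⟩) ⟨_, hd₀⟩ fun j hjne => by
        obtain ⟨-, -, e, -, hid, -, hp, hcomap⟩ := hchart j.1 j.2
        obtain ⟨y, hyD, hy⟩ := hjne
        have hy' := (mem_support_iff_le D ⟨_, hV j.1⟩ hy).1 hyD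
        rw [hid] at hy'
        have hnt : Ideal.span {e} ≠ ⊤ := fun ht =>
          ((hV j.1).primeIdealOf ⟨y, hy⟩).isPrime.ne_top (top_le_iff.1 (ht ▸ hy'))
        obtain ⟨z, hz, hzq⟩ := QCoh.exists_point (hV j.1)
          (⟨Ideal.span {e}, hp.resolve_right hnt⟩ : PrimeSpectrum Γ(X', g ⁻¹ᵁ U j.1))
        have hzq' : ((hV j.1).primeIdealOf ⟨z, hz⟩).asIdeal = Ideal.span {e} := by rw [hzq]
        refine ⟨z, (mem_support_iff_le D ⟨_, hV j.1⟩ hz).2 (by rw [hid, hzq']),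
          fun i _ => hover j.1 z hz (by rw [hzq']; exact hcomap hnt) i.1 i.2, fun w hw => ?_⟩
        have hw' := (mem_support_iff_le D ⟨_, hV j.1⟩ hw.2).1 hw.1
        rw [hid] at hw'
        exact specializes_of_le (hV j.1) hz hw.2 (hzq'.le.trans hw')
    rw [← D.range_subschemeι] at hz
    obtain ⟨d, rfl⟩ := hz
    exact irreducibleSpace_of_isGenericPoint fun y =>
      (D.subschemeι.isClosedEmbedding.isInducing.specializes_iff).1
        (hzy _ (by rw [← D.range_subschemeι]; exact ⟨y, rfl⟩))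
  haveI := hCirr
  exact isIntegral_of_irreducibleSpace_of_isReduced _

end Groth.Agent.SurfInt
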