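import Groth.Agent.SurfInt.Hodge
import Groth.Prelude.Def_NumR
import Mathlib.RingTheory.Flat.Basic
import Mathlib.Topology.Instances.Rat

/-! The real Néron–Severi space of a surface as a Lorentzian space. -/

noncomputable section

set_option linter.style.haveILetI false
set_option linter.unusedSectionVars false
set_option backward.isDefEq.respectTransparency false
set_option backward.isDefEq.respectTransparency.types false

universe u

open CategoryTheory CategoryTheory.Limits AlgebraicGeometry TopologicalSpace Opposite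
open scoped TensorProduct

namespace Groth.Agent.SurfInt

open Groth.Agent

theorem dense_intScaled (ι : Type*) [Fintype ι] :
    Dense {v : ι → ℝ | ∃ (N : ℕ) (a : ι → ℤ), 0 < N ∧ v = (N : ℝ)⁻¹ • fun i => (a i : ℝ)} := by
  classical
  refine Dense.mono ?_ (DenseRange.piMap (fun _ : ι => Rat.denseRange_cast (𝕜 := ℝ)))
  rintro _ ⟨q, rfl⟩
  refine ⟨∏ i, (q i).den, fun i => (q i).num * ((∏ j ∈ Finset.univ.erase i, (q j).den : ℕ) : ℤ),
    Finset.prod_pos fun i _ => (q i).den_pos, funext fun i => ?_⟩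
  show ((q i : ℚ) : ℝ) = _
  rw [Pi.smul_apply, smul_eq_mul]
  have h : ((q i).den : ℝ) * ((∏ j ∈ Finset.univ.erase i, (q j).den : ℕ) : ℝ) = ((∏ j, (q j).den : ℕ) : ℝ) := by
    rw [← Finset.mul_prod_erase Finset.univ (fun j => (q j).den) (Finset.mem_univ i)]
    push_cast
    rfl
  have hd : ((q i).den : ℝ) ≠ 0 := Nat.cast_ne_zero.2 (q i).den_pos.ne'
  have hp : ((∏ j ∈ Finset.univ.erase i, (q j).den : ℕ) : ℝ) ≠ 0 :=
    Nat.cast_ne_zero.2 (Finset.prod_pos fun j _ => (q j).den_pos).ne'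
  rw [← h, Rat.cast_def]
  push_cast at hp ⊢
  field_simp

/-- A continuous function homogeneous of degree two which is non-positive at integral points is non-positive. -/
theorem nonpos_of_int {ι : Type*} [Fintype ι] (f : (ι → ℝ) → ℝ) (hf : Continuous f)
    (hhom : ∀ (c : ℝ) v, f (c • v) = c ^ 2 * f v) (h : ∀ a : ι → ℤ, f (fun i => (a i : ℝ)) ≤ 0) (v : ι → ℝ) :
    f v ≤ 0 := by
  refine (isClosed_le hf continuous_const).closure_subset_iff.2 ?_ ((dense_intScaled ι) v)
  rintro _ ⟨N, a, -, rfl⟩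
  rw [Set.mem_setOf_eq, hhom]
  exact mul_nonpos_of_nonneg_of_nonpos (sq_nonneg _) (h a)

variable {k : Type u} [Field k] {X : Scheme.{u}} [X.Over (Spec (CommRingCat.of k))] [PicGrp.Law X]

theorem exists_clR (x : NumR.N1 k X) :
    ∃ (L : X.Modules) (hL : PicF.IsInvertible L), NumR.toN1R k X x = NumR.clR k X L hL := by
  obtain ⟨L, hL, rfl⟩ := NumR.exists_eq_cl x
  exact ⟨L, hL, rfl⟩

theorem exists_form {B : NumR.N1R k X →ₗ[ℝ] NumR.N1R k X →ₗ[ℝ] ℝ} (hB : NumR.IsIntForm₂ k X B) (x y : NumR.N1 k X) :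
    ∃ (L M : X.Modules) (hL : PicF.IsInvertible L) (hM : PicF.IsInvertible M),
      NumR.toN1R k X x = NumR.clR k X L hL ∧ NumR.toN1R k X y = NumR.clR k X M hM ∧
        B (NumR.toN1R k X x) (NumR.toN1R k X y) = (dot k L M : ℝ) := by
  obtain ⟨L, hL, hx⟩ := exists_clR x
  obtain ⟨M, hM, hy⟩ := exists_clR y
  exact ⟨L, M, hL, hM, hx, hy, by rw [hx, hy, hB]⟩

variable [Module.Finite ℝ (NumR.N1R k X)]

/-- A finite family of integral classes spanning the real space. -/
theorem exists_spanning : ∃ (n : ℕ) (e : Fin n → NumR.N1 k X),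
    Function.Surjective (Fintype.linearCombination ℝ fun i => NumR.toN1R k X (e i)) := by
  have hspan : Submodule.span ℝ (Set.range (NumR.toN1R k X)) = ⊤ := by
    rw [eq_top_iff, ← NumR.span_clR]
    exact Submodule.span_mono fun x ⟨L, hL, hx⟩ => ⟨NumR.cl k X L hL, hx.symm⟩
  obtain ⟨T, hTsub, hT⟩ := Submodule.fg_span_iff_fg_span_finset_subset _ |>.1 (hspan ▸ Module.Finite.fg_top)
  choose e he using fun t : T => hTsub t.2
  refine ⟨T.card, fun i => e (T.equivFin.symm i), LinearMap.range_eq_top.1 ?_⟩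
  rw [Fintype.range_linearCombination, show Set.range (fun i => NumR.toN1R k X (e (T.equivFin.symm i))) = ↑T from ?_, ← hT, hspan]
  ext x
  constructor
  · rintro ⟨i, rfl⟩
    show NumR.toN1R k X (e _) ∈ (T : Set _)
    rw [he]
    exact (T.equivFin.symm i).2
  · intro hx
    exact ⟨T.equivFin ⟨x, hx⟩, by simp [he]⟩

theorem continuous_linearMap {E : Type*} [TopologicalSpace E] [AddCommGroup E] [Module ℝ E] [ContinuousAdd E]
    [ContinuousSMul ℝ E] (φ : NumR.N1R k X →ₗ[ℝ] E) : Continuous φ :=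
  IsModuleTopology.continuous_of_linearMap φ

theorem continuous_left (B : NumR.N1R k X →ₗ[ℝ] NumR.N1R k X →ₗ[ℝ] ℝ) (z : NumR.N1R k X) :
    Continuous fun x => B x z :=
  continuous_linearMap ((LinearMap.applyₗ z).comp B)

theorem continuous_quad (B : NumR.N1R k X →ₗ[ℝ] NumR.N1R k X →ₗ[ℝ] ℝ) : Continuous fun x => B x x := by
  let b := Module.Free.chooseBasis ℝ (NumR.N1R k X)
  have h : (fun x => B x x) = fun x => ∑ i, ∑ j, b.coord i x * (b.coord j x * B (b i) (b j)) := funext fun x => by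
    conv_lhs => rw [← b.sum_repr x]
    simp only [map_sum, map_smul, LinearMap.sum_apply, LinearMap.smul_apply, smul_eq_mul, Finset.mul_sum,
      Module.Basis.coord_apply]
    rw [Finset.sum_comm]
    exact Finset.sum_congr rfl fun i _ => Finset.sum_congr rfl fun j _ => by ring
  rw [h]
  exact continuous_finsetSum _ fun i _ => continuous_finsetSum _ fun j _ =>
    (continuous_linearMap (b.coord i)).mul ((continuous_linearMap (b.coord j)).mul continuous_const)

/-- Classes scaled down by integers are dense. -/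
theorem dense_rational :
    Dense {v : NumR.N1R k X | ∃ (N : ℕ) (x : NumR.N1 k X), 0 < N ∧ v = (N : ℝ)⁻¹ • NumR.toN1R k X x} := by
  obtain ⟨n, e, he⟩ := exists_spanning (k := k) (X := X)
  let Φ := Fintype.linearCombination ℝ fun i => NumR.toN1R k X (e i)
  have hΦ : Continuous Φ := IsModuleTopology.continuous_of_linearMap Φ
  refine Dense.mono ?_ (he.denseRange.dense_image hΦ (dense_intScaled (Fin n)))
  rintro _ ⟨_, ⟨N, a, hN, rfl⟩, rfl⟩
  refine ⟨N, ∑ i, a i • e i, hN, ?_⟩
  show Φ _ = _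
  rw [map_smul]
  congr 1
  show (∑ i, (a i : ℝ) • NumR.toN1R k X (e i)) = _
  rw [map_sum]
  exact Finset.sum_congr rfl fun i _ => by rw [map_zsmul, Int.cast_smul_eq_zsmul]

variable [IsProper (X ↘ Spec (CommRingCat.of k))] [AlgebraicGeometry.IsIntegral X] (hdim : topologicalKrullDim X = 2)
  {B : NumR.N1R k X →ₗ[ℝ] NumR.N1R k X →ₗ[ℝ] ℝ} (hB : NumR.IsIntForm₂ k X B)

include hdim hB

theorem form_comm (x y : NumR.N1R k X) : B x y = B y x := by
  have h : B = B.flip := by
    refine LinearMap.ext_on NumR.span_clR ?_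
    rintro _ ⟨L, hL, rfl⟩
    refine LinearMap.ext_on NumR.span_clR ?_
    rintro _ ⟨M, hM, rfl⟩
    rw [LinearMap.flip_apply, hB, hB]
    exact congrArg (fun z : ℤ => (z : ℝ)) (dot_comm k hdim.le hL hM)
  exact LinearMap.congr_fun (LinearMap.congr_fun h x) y

variable {H : X.Modules} (hH : CohB1.IsAmple H)

include hH

theorem form_self_pos : 0 < B (NumR.clR k X H hH.1) (NumR.clR k X H hH.1) := by
  rw [hB]; exact Int.cast_pos.2 (dot_self_pos_of_isAmple k hdim hH)

/-- The Hodge inequality for real classes. -/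
theorem hodge_inequality (x : NumR.N1R k X) :
    B (NumR.clR k X H hH.1) (NumR.clR k X H hH.1) * B x x ≤ (B x (NumR.clR k X H hH.1)) ^ 2 := by
  set h := NumR.clR k X H hH.1
  have hd := hdim.le
  refine (isClosed_le (continuous_const.mul (continuous_quad B)) ((continuous_left B h).pow 2)).closure_subset_iff.2
    ?_ (dense_rational x)
  rintro _ ⟨N, y, -, rfl⟩
  obtain ⟨L, hL, hy⟩ := exists_clR y
  obtain ⟨W, hW, hWd⟩ := exists_comb k hd hL hH.1 (dot k H H) (-(dot k L H))
  have hWW := dot_self_nonpos_of_dot_ample k hdim hW hH (by rw [hWd H hH.1]; ring)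
  rw [hWd W hW, dot_comm k hd hL hW, dot_comm k hd hH.1 hW, hWd L hL, hWd H hH.1, dot_comm k hd hH.1 hL] at hWW
  have h1 : dot k H H * (dot k H H * dot k L L - dot k L H ^ 2) ≤ 0 := by linarith
  have h2 : dot k H H * dot k L L - dot k L H ^ 2 ≤ 0 :=
    nonpos_of_mul_nonpos_right (by rw [mul_comm]; exact mul_comm (dot k H H) _ ▸ h1) (dot_self_pos_of_isAmple k hdim hH)
  have h3 : B h h * B (NumR.toN1R k X y) (NumR.toN1R k X y) ≤ (B (NumR.toN1R k X y) h) ^ 2 := by
    rw [hy, hB, hB, hB]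
    exact_mod_cast (by linarith : dot k H H * dot k L L ≤ dot k L H ^ 2)
  show B h h * B ((N : ℝ)⁻¹ • NumR.toN1R k X y) ((N : ℝ)⁻¹ • NumR.toN1R k X y) ≤
    (B ((N : ℝ)⁻¹ • NumR.toN1R k X y) h) ^ 2
  simp only [map_smul, LinearMap.smul_apply, smul_eq_mul]
  nlinarith [mul_le_mul_of_nonneg_left h3 (sq_nonneg ((N : ℝ)⁻¹))]

omit hH

variable (hreg : ∀ x : X, IsRegularLocalRing (X.presheaf.stalk x))

include hreg

theorem toN1_eq_zero {x : NumR.N1 k X} (h : ∀ y, B (NumR.toN1R k X x) (NumR.toN1R k X y) = 0) : x = 0 := by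
  obtain ⟨L, hL, rfl⟩ := NumR.exists_eq_cl x
  refine NumR.cl_eq_zero hL fun Y i _ hY hY1 => ?_
  haveI := hY
  letI := overComp k i
  obtain ⟨e, -⟩ := exists_iso_subscheme i
  haveI : AlgebraicGeometry.IsIntegral i.ker.subscheme :=
    haveI : Nonempty i.ker.subscheme := ⟨e.hom (genericPoint Y)⟩
    isIntegral_of_isOpenImmersion e.inv
  have hC : topologicalKrullDim (i.ker.support : Set X) = 1 := by
    rw [← dim_subscheme i.ker, ← hY1]
    exact IsHomeomorph.topologicalKrullDim_eq _ (Scheme.homeoOfIso e.symm).isHomeomorph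
  have hI := isInvertible_curve k hdim hreg i.ker hC
  rw [curveDeg_eq k i rfl hY1.le hL, ← degOn_congr_left k (nonempty_quotMod_iso i).some]
  have h0 := h (NumR.cl k X (ClSub.idealMod i.ker) hI)
  rw [← NumR.clR_def, ← NumR.clR_def, hB, Int.cast_eq_zero] at h0
  have h1 : dot k (ClSub.idealMod i.ker) L = 0 := (dot_comm k hdim.le hI hL).trans h0
  rw [dot_ideal_left k hdim.le i.ker hI hL] at h1
  omega

/-- The intersection form is non-degenerate. -/
theorem eq_zero_of_form_eq_zero (x : NumR.N1R k X) (h : ∀ y, B x y = 0) : x = 0 := by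
  classical
  obtain ⟨n, e, he⟩ := exists_spanning (k := k) (X := X)
  choose val hval using fun a b => (exists_form hB a b).imp fun L hh => hh.imp fun M hh => hh.2.2.2.2
  let φ : NumR.N1 k X →ₗ[ℤ] Fin n → ℝ :=
    (AddMonoidHom.mk' (fun a i => B (NumR.toN1R k X a) (NumR.toN1R k X (e i)))
      fun a b => funext fun i => by simp).toIntLinearMap
  let ψ : NumR.N1 k X →+ (Fin n → ℤ) := AddMonoidHom.mk'
    (fun a i => ⌊B (NumR.toN1R k X a) (NumR.toN1R k X (e i))⌋) fun a b => funext fun i => by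
      obtain ⟨_, _, _, _, -, -, ha⟩ := exists_form hB a (e i)
      obtain ⟨_, _, _, _, -, -, hb⟩ := exists_form hB b (e i)
      simp [map_add, ha, hb]
  have hψ : ∀ a i, B (NumR.toN1R k X a) (NumR.toN1R k X (e i)) = (ψ a i : ℝ) := fun a i => by
    obtain ⟨_, _, _, _, -, -, ha⟩ := exists_form hB a (e i)
    show _ = ((⌊B (NumR.toN1R k X a) (NumR.toN1R k X (e i))⌋ : ℤ) : ℝ)
    rw [ha, Int.floor_intCast]
  have hinj : Function.Injective ψ.toIntLinearMap := (injective_iff_map_eq_zero _).2 fun a ha => by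
    refine toN1_eq_zero hdim hB hreg fun y => ?_
    obtain ⟨c, hc⟩ := he (NumR.toN1R k X y)
    rw [← hc, Fintype.linearCombination_apply, map_sum]
    refine Finset.sum_eq_zero fun i _ => ?_
    rw [map_smul, hψ, show ψ a = 0 from ha]
    simp
  have hT : Function.Injective (LinearMap.lTensor ℝ ψ.toIntLinearMap) :=
    Module.Flat.lTensor_preserves_injective_linearMap _ hinj
  let x' : ℝ ⊗[ℤ] NumR.N1 k X := x
  let E : ℝ ⊗[ℤ] (Fin n → ℤ) ≃ₗ[ℝ] Fin n → ℝ := TensorProduct.piScalarRight ℤ ℝ ℝ (Fin n)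
  have key : ∀ (z : ℝ ⊗[ℤ] NumR.N1 k X) i,
      E (LinearMap.lTensor ℝ ψ.toIntLinearMap z) i = B (z : NumR.N1R k X) (NumR.toN1R k X (e i)) := by
    intro z i
    induction z using TensorProduct.induction_on with
    | zero =>
      rw [map_zero, map_zero]
      show (0 : ℝ) = B (0 : NumR.N1R k X) _
      simp
    | tmul r a =>
      rw [LinearMap.lTensor_tmul]
      show (ψ a i : ℤ) • r = B ((r ⊗ₜ[ℤ] a : ℝ ⊗[ℤ] NumR.N1 k X) : NumR.N1R k X) _
      rw [show ((r ⊗ₜ[ℤ] a : ℝ ⊗[ℤ] NumR.N1 k X) : NumR.N1R k X) = r • NumR.toN1R k X a from ?_]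
      · rw [map_smul, LinearMap.smul_apply, hψ, zsmul_eq_mul, smul_eq_mul, mul_comm]
      · show (r ⊗ₜ[ℤ] a : ℝ ⊗[ℤ] NumR.N1 k X) = r • ((1 : ℝ) ⊗ₜ[ℤ] a)
        rw [TensorProduct.smul_tmul', smul_eq_mul, mul_one]
    | add z w hz hw =>
      rw [map_add, map_add, Pi.add_apply, hz, hw]
      exact (LinearMap.congr_fun (map_add B (z : NumR.N1R k X) w) _).symm
  have hx : E (LinearMap.lTensor ℝ ψ.toIntLinearMap x') = 0 := funext fun i => (key x' i).trans (h _)
  have h0 : LinearMap.lTensor ℝ ψ.toIntLinearMap x' = 0 := E.injective (hx.trans (map_zero _).symm)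
  exact hT (h0.trans (map_zero _).symm)

include hH

/-- The form is negative definite orthogonally to an ample class. -/
theorem eq_zero_of_orthogonal (x : NumR.N1R k X) (hxh : B x (NumR.clR k X H hH.1) = 0) (hxx : 0 ≤ B x x) : x = 0 := by
  set h := NumR.clR k X H hH.1
  have hc := form_comm hdim hB
  have hhh := form_self_pos hdim hB hH
  have hxx0 : B x x = 0 := by
    have h1 := hodge_inequality hdim hB hH x
    rw [hxh] at h1
    nlinarith
  refine eq_zero_of_form_eq_zero hdim hB hreg x fun y => ?_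
  by_contra hne
  set c := B x y
  set z := y - (B y h / B h h) • h with hz
  have hzh : B z h = 0 := by
    simp only [z, map_sub, map_smul, LinearMap.sub_apply, LinearMap.smul_apply, smul_eq_mul]
    rw [div_mul_cancel₀ _ hhh.ne', sub_self]
  have hxz : B x z = c := by
    simp only [z, map_sub, map_smul, smul_eq_mul, hxh, mul_zero, sub_zero, c]
  set t := (1 - B z z) / c
  have ht : t * c = 1 - B z z := div_mul_cancel₀ _ hne
  have hw : B (t • x + z) h = 0 := by simp [map_add, map_smul, hxh, hzh]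
  have h2 := hodge_inequality hdim hB hH (t • x + z)
  rw [hw] at h2
  simp only [map_add, map_smul, LinearMap.add_apply, LinearMap.smul_apply, smul_eq_mul, hc z x, hxz, hxx0] at h2
  have h3 := hodge_inequality hdim hB hH z
  rw [hzh] at h3
  have h4 : B z z ≤ 0 := by nlinarith
  nlinarith

end Groth.Agent.SurfInt
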