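import Groth.Agent.SurfInt.Residual
import Groth.Agent.SurfInt.Asymp
import Groth.Agent.SurfInt.Decomp
import Groth.Agent.SurfInt.Conn

/-! Sections of invertible modules on effective divisors of a regular surface. -/

noncomputable section

set_option linter.style.haveILetI false
set_option linter.unusedSectionVars false
set_option backward.isDefEq.respectTransparency false
set_option backward.isDefEq.respectTransparency.types false

universe u

open CategoryTheory CategoryTheory.Limits AlgebraicGeometry TopologicalSpace Opposite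

namespace Groth.Agent.SurfInt

open Groth.Agent
open Groth.Agent.PnCoh.Finite (mapLin)

variable (k : Type u) [Field k] {X : Scheme.{u}} [X.Over (Spec (CommRingCat.of k))]
  [IsProper (X ↘ Spec (CommRingCat.of k))]

/-- `h⁰(Z, N|_Z)`. -/
def hZ (Z : X.IdealSheafData) (N : X.Modules) : ℕ :=
  Module.finrank k (Coh.HH X (CohB1.tensorMod (ClSub.quotMod Z) N) 0)

include k in
theorem isCoh_twist_quot (Z : X.IdealSheafData) {N : X.Modules} (hN : PicF.IsInvertible N) :
    Coh.IsCoh (CohB1.tensorMod (ClSub.quotMod Z) N) := by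
  haveI := noeth k (X := X)
  exact isCoh_congr (H23.PicMul.comm N (ClSub.quotMod Z)).some (isCoh_inv_tensor hN (isCoh_quotMod k Z))

include k in
theorem finite_twist_quot (Z : X.IdealSheafData) {N : X.Modules} (hN : PicF.IsInvertible N) (n : ℕ) :
    Module.Finite k (Coh.HH X (CohB1.tensorMod (ClSub.quotMod Z) N) n) := by
  haveI := noeth k (X := X)
  exact CurveCohLib.finite_HH (k := k) (isCoh_twist_quot k Z hN) n

theorem hZ_congr (Z : X.IdealSheafData) {N N' : X.Modules} (e : N ≅ N') : hZ k Z N = hZ k Z N' :=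
  finrank_congr k (((DCoh.tensorBi (X := X)).obj (ClSub.quotMod Z)).mapIso e) 0

theorem dim_support_top : topologicalKrullDim (((⊤ : X.IdealSheafData).support) : Set X) = ⊥ := by
  haveI : IsEmpty (((⊤ : X.IdealSheafData).support) : Set X) := ⟨fun x => by
    have := x.2
    exact this.elim⟩
  haveI : IsEmpty (IrreducibleCloseds (((⊤ : X.IdealSheafData).support) : Set X)) :=
    ⟨fun Z => IsEmpty.false Z.isIrreducible.nonempty.some⟩
  exact Order.krullDim_eq_bot

theorem isZero_twist {Z N : X.Modules} (hN : PicF.IsInvertible N) (hz : IsZero Z) :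
    IsZero (CohB1.tensorMod Z N) := by
  haveI := AmpleVan.isEquivalence_tw hN
  haveI : (AmpleVan.tw N).Additive := Functor.additive_of_preserves_binary_products _
  exact (AmpleVan.tw N).map_isZero hz

theorem mul_top_ideal (Z : X.IdealSheafData) : Z * ⊤ = Z := by
  ext U : 2
  simp [Scheme.IdealSheafData.ideal_mul, Pi.mul_apply, Ideal.mul_top]

theorem hZ_top {N : X.Modules} (hN : PicF.IsInvertible N) : hZ k (⊤ : X.IdealSheafData) N = 0 := by
  have hz : IsZero (ClSub.quotMod (⊤ : X.IdealSheafData)) :=
    CurveCohLib.isZero_of_subsingleton_stalks fun x =>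
      ParShLib.subsingleton_stalk_quotMod ⊤ (fun hx => by rw [Scheme.IdealSheafData.support_top] at hx; exact hx)
  have hz' : IsZero (CohB1.tensorMod (ClSub.quotMod (⊤ : X.IdealSheafData)) N) :=
    isZero_twist hN hz
  haveI := Euler.subsingleton_HH_of_isZero hz' 0
  exact Module.finrank_zero_of_subsingleton

theorem hZ_mul_le {A B : X.IdealSheafData} (hA : BlowUp.IsEffCartierIdeal A)
    (hB : BlowUp.IsEffCartierIdeal B) {N : X.Modules} (hN : PicF.IsInvertible N) :
    hZ k (A * B) N ≤ hZ k B (CohB1.tensorMod (ClSub.idealMod A) N) + hZ k A N := by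
  obtain ⟨i, q, w, hS⟩ := exists_residual_twist hA hB hN
  have hAN := InvX.isInvertible_tensorMod (ArSurfX.isInvertible_idealMod hA) hN
  haveI := finite_twist_quot k B hAN 0
  haveI := finite_twist_quot k A hN 0
  haveI := finite_twist_quot k (A * B) hN 0
  have h := (mapLin k q 0).finrank_range_add_finrank_ker
  have hle := (mapLin k q 0).range.finrank_le
  have hker : LinearMap.ker (mapLin k q 0) = LinearMap.range (mapLin k i 0) :=
    CurveCohLib.ker_mapLin_g (A := k) hS 0
  rw [hker] at h
  have := LinearMap.finrank_range_le (mapLin k i 0)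
  unfold hZ
  omega

theorem degOn_quot_mul {A B : X.IdealSheafData} (hd : topologicalKrullDim X ≤ 2)
    (hA : BlowUp.IsEffCartierIdeal A) (hB : BlowUp.IsEffCartierIdeal B) {N : X.Modules} (hN : PicF.IsInvertible N) :
    degOn k (ClSub.quotMod (A * B)) N = degOn k (ClSub.quotMod A) N + degOn k (ClSub.quotMod B) N := by
  have iA := ArSurfX.isInvertible_idealMod hA
  have iB := ArSurfX.isInvertible_idealMod hB
  have iAB := ArSurfX.isInvertible_idealMod (ArSurfX.isEffCartier_mul hA hB)
  have h := dot_idealMod_mul k hd hN hA hB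
  rw [dot_comm k hd hN iAB, dot_comm k hd hN iA, dot_comm k hd hN iB, dot_ideal_left k hd _ iAB hN,
    dot_ideal_left k hd _ iA hN, dot_ideal_left k hd _ iB hN] at h
  omega

variable [IsIntegral X] (hdim : topologicalKrullDim X = 2)
  (hreg : ∀ x : X, IsRegularLocalRing (X.presheaf.stalk x))

theorem hZ_curve_eq_zero (C : X.IdealSheafData) [IsIntegral C.subscheme]
    (hC : topologicalKrullDim (C.support : Set X) = 1) {N : X.Modules} (hN : PicF.IsInvertible N)
    (h : degOn k (ClSub.quotMod C) N < 0) : hZ k C N = 0 := by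
  obtain ⟨B, hB⟩ := exists_h_curve_le k C hC
  rw [hZ, finrank_congr k (H23.PicMul.comm (ClSub.quotMod C) N).some 0]
  exact (hB N hN).1 h

include k hdim hreg

/-- A divisor is a curve plus a larger divisor. -/
theorem exists_peel {Z : X.IdealSheafData} (hZe : BlowUp.IsEffCartierIdeal Z) (C : X.IdealSheafData)
    [IsIntegral C.subscheme] (hC : topologicalKrullDim (C.support : Set X) = 1) (hle : Z ≤ C) :
    ∃ Z' : X.IdealSheafData, BlowUp.IsEffCartierIdeal Z' ∧ Z = C * Z' ∧ Z < Z' := by
  have hCe := isEffCartier_curve k hdim hreg C hC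
  have hne : C ≠ ⊤ := fun h => by
    subst h
    rw [dim_support_top] at hC
    exact absurd hC (by simp)
  let Z' := ModPairLib.colon Z C (ModPairLib.isLocPrincipal_of_isEffCartier hCe)
  have hmul : Z' * C = Z := ModPairLib.colon_mul hCe hle
  have hZ' : BlowUp.IsEffCartierIdeal Z' := ModPairLib.isEffCartier_of_mul hCe (hmul.symm ▸ hZe)
  refine ⟨Z', hZ', by rw [mul_comm, hmul], lt_of_le_of_ne (hmul ▸ mul_le_left' Z' C) fun e => hne ?_⟩
  refine ModPairLib.eq_of_mul_eq_mul hZ' ?_
  rw [mul_comm, hmul, e]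
  exact (one_mul Z').symm

/-- Non-negative degree on all curves of a divisor. -/
theorem degOn_quot_nonneg {N : X.Modules} (hN : PicF.IsInvertible N) {Z : X.IdealSheafData}
    (hZe : BlowUp.IsEffCartierIdeal Z)
    (h : ∀ C : X.IdealSheafData, IsIntegral C.subscheme → topologicalKrullDim (C.support : Set X) = 1 → Z ≤ C →
      0 ≤ degOn k (ClSub.quotMod C) N) : 0 ≤ degOn k (ClSub.quotMod Z) N := by
  haveI := noeth k (X := X)
  haveI := wellFoundedGT_ideals (X := X)
  induction Z using WellFoundedGT.induction with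
  | ind Z ih =>
    by_cases hne : Z = ⊤
    · subst hne
      refine (degOn_eq_zero_of_dim k (isCoh_quotMod k ⊤) ?_ hN).ge
      exact dim_support_quotMod (n := 0) (by rw [dim_support_top]; exact bot_le)
    · obtain ⟨C, hCi, hC, hle⟩ := exists_curve_le k hdim hZe hne
      haveI := hCi
      obtain ⟨Z', hZ', he, hlt⟩ := exists_peel k hdim hreg hZe C hC hle
      have h1 := h C hCi hC hle
      have h2 := ih Z' hlt hZ' fun D hDi hD hD' => h D hDi hD (hlt.le.trans hD')
      rw [he, degOn_quot_mul k hdim.le (isEffCartier_curve k hdim hreg C hC) hZ' hN]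
      omega

/-- A non-zero section on a divisor is non-zero at every curve of some part, up to a shift. -/
theorem exists_decomp_section {Z : X.IdealSheafData} (hZe : BlowUp.IsEffCartierIdeal Z) {N : X.Modules}
    (hN : PicF.IsInvertible N) (h : hZ k Z N ≠ 0) :
    ∃ Z₁ Z₂ : X.IdealSheafData, BlowUp.IsEffCartierIdeal Z₁ ∧ BlowUp.IsEffCartierIdeal Z₂ ∧ Z₂ ≠ ⊤ ∧
      Z = Z₁ * Z₂ ∧ dot k (ClSub.idealMod Z₁) (ClSub.idealMod Z₂) ≤ degOn k (ClSub.quotMod Z₂) N := by
  have hd := hdim.le
  haveI := noeth k (X := X)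
  haveI := wellFoundedGT_ideals (X := X)
  induction Z using WellFoundedGT.induction generalizing N with
  | ind Z ih =>
    by_cases hkill : ∃ (C : X.IdealSheafData) (Z' : X.IdealSheafData), IsIntegral C.subscheme ∧
        topologicalKrullDim (C.support : Set X) = 1 ∧ BlowUp.IsEffCartierIdeal Z' ∧ Z = C * Z' ∧ Z < Z' ∧
        hZ k Z' (CohB1.tensorMod (ClSub.idealMod C) N) ≠ 0
    · obtain ⟨C, Z', hCi, hC, hZ', he, hlt, hne⟩ := hkill
      haveI := hCi
      have hCe := isEffCartier_curve k hdim hreg C hC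
      have iC := ArSurfX.isInvertible_idealMod hCe
      obtain ⟨Y₁, Y₂, h1, h2, h3, h4, h5⟩ := ih Z' hlt hZ' (InvX.isInvertible_tensorMod iC hN) hne
      refine ⟨C * Y₁, Y₂, ArSurfX.isEffCartier_mul hCe h1, h2, h3, by rw [he, h4, mul_assoc], ?_⟩
      have i1 := ArSurfX.isInvertible_idealMod h1
      have i2 := ArSurfX.isInvertible_idealMod h2
      have iC1 := ArSurfX.isInvertible_idealMod (ArSurfX.isEffCartier_mul hCe h1)
      rw [degOn_tensor k (isCoh_quotMod k Y₂) (dim_support_quotMod (dim_support_effCartier k hdim h2)) iC hN] at h5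
      rw [dot_comm k hd iC1 i2, dot_idealMod_mul k hd i2 hCe h1, dot_comm k hd i2 i1, dot_ideal_left k hd Y₂ i2 iC]
      omega
    · push Not at hkill
      have htop : Z ≠ ⊤ := fun e => h (e ▸ hZ_top k hN)
      refine ⟨⊤, Z, BlowUpLib.isEffCartier_top X, hZe, htop, by rw [mul_comm, mul_top_ideal], ?_⟩
      have iZ := ArSurfX.isInvertible_idealMod hZe
      have h0 : dot k (ClSub.idealMod (⊤ : X.IdealSheafData)) (ClSub.idealMod Z) = 0 := by
        rw [dot_ideal_left k hd _ (ArSurfX.isInvertible_idealMod (BlowUpLib.isEffCartier_top X)) iZ,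
          degOn_eq_zero_of_dim k (isCoh_quotMod k ⊤)
            (dim_support_quotMod (n := 0) (by rw [dim_support_top]; exact bot_le)) iZ, neg_zero]
      rw [h0]
      refine degOn_quot_nonneg k hdim hreg hN hZe fun C hCi hC hle => ?_
      haveI := hCi
      obtain ⟨Z', hZ', he, hlt⟩ := exists_peel k hdim hreg hZe C hC hle
      have hk := hkill C Z' hCi hC hZ' he hlt
      have h1 := hZ_mul_le k (isEffCartier_curve k hdim hreg C hC) hZ' hN
      rw [← he, hk, zero_add] at h1
      by_contra hneg
      push Not at hneg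
      have := hZ_curve_eq_zero k C hC hN hneg
      omega

end Groth.Agent.SurfInt
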