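import Groth.Agent.SurfInt.Positive
import Groth.Agent.ArSurfX.IdealFrame
import Groth.Agent.AmpleVan.Mul

/-! The residual sequence `0 → O_B(-A) → O_{A+B} → O_A → 0` of two effective divisors. -/

noncomputable section

set_option linter.style.haveILetI false
set_option linter.unusedSectionVars false
set_option backward.isDefEq.respectTransparency false
set_option backward.isDefEq.respectTransparency.types false

universe u

open CategoryTheory CategoryTheory.Limits AlgebraicGeometry TopologicalSpace Opposite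

namespace Groth.Agent.SurfInt

open Groth.Agent Groth.Agent.AModX Groth.Agent.InvX

variable {X : Scheme.{u}}

theorem mul_le_left' (A B : X.IdealSheafData) : A * B ≤ A := by
  intro U
  simp only [Scheme.IdealSheafData.ideal_mul, Pi.mul_apply]
  exact Ideal.mul_le_left (I := A.ideal U) (J := B.ideal U)

/-- A morphism sending frames to frames is an isomorphism. -/
theorem isIso_of_frames' {M N : X.Modules} (φ : M ⟶ N) {ι : Type u} (U : ι → X.Opens)
    (hcov : ∀ x, ∃ a, x ∈ U a) (e : ∀ a, Γ(M, U a)) (he : ∀ a, IsFrame (e a))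
    (h : ∀ a, IsFrame (φ.app (U a) (e a))) : IsIso φ := by
  refine QCoh.isIso_of_isBasis φ (B := {V : X.Opens | ∃ a, V ≤ U a}) ?_ fun V ⟨a, ha⟩ => ?_
  · refine Opens.isBasis_iff_nbhd.2 fun {W x} hx => ?_
    obtain ⟨a, ha⟩ := hcov x
    exact ⟨W ⊓ U a, ⟨a, inf_le_right⟩, ⟨hx, ha⟩, inf_le_left⟩
  · constructor
    · intro y z hyz
      obtain ⟨r, hr⟩ := (he a).exists_coord ha y
      obtain ⟨s, hs⟩ := (he a).exists_coord ha z
      rw [hr, hs, Scheme.Modules.Hom.app_smul, Scheme.Modules.Hom.app_smul, app_res] at hyz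
      rw [hr, hs, (h a).coord_unique ha hyz]
    · intro y
      obtain ⟨r, hr⟩ := (h a).exists_coord ha y
      exact ⟨r • res M ha (e a), by rw [Scheme.Modules.Hom.app_smul, app_res]; exact hr.symm⟩

set_option maxHeartbeats 1000000 in
/-- The residual sequence. -/
theorem exists_residual {A B : X.IdealSheafData} (hA : BlowUp.IsEffCartierIdeal A)
    (hB : BlowUp.IsEffCartierIdeal B) :
    ∃ (i : CohB1.tensorMod (ClSub.quotMod B) (ClSub.idealMod A) ⟶ ClSub.quotMod (A * B))
      (q : ClSub.quotMod (A * B) ⟶ ClSub.quotMod A) (w : i ≫ q = 0),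
      (ShortComplex.mk i q w).ShortExact ∧ ClSub.toSubscheme (A * B) ≫ q = ClSub.toSubscheme A := by
  choose U hU a b ha hb using ArSurfX.exists_isGen₂ hA hB
  choose k hk hk' using fun x => ArSurfX.exists_frame_of_isGen (ha x)
  choose l hl hl' using fun x => ArSurfX.exists_frame_of_isGen (hb x)
  choose c hc hc' using fun x => ArSurfX.exists_frame_of_isGen ((ha x).mul (hb x))
  let O := Coh.structureModule X
  let IA := ClSub.idealMod A
  let one' : ∀ x, Γ(O, (U x).1) := fun x => (show Γ(Coh.structureModule X, (U x).1) from (1 : Γ(X, (U x).1)))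
  let f : ∀ x, Γ((AmpleVan.tw IA).obj O, (U x).1) := fun x => tmul (one' x) (k x)
  let f' : ∀ x, Γ((AmpleVan.tw IA).obj (ClSub.idealMod B), (U x).1) := fun x => tmul (l x) (k x)
  have hcov : ∀ z : X, ∃ x, z ∈ (U x).1 := fun z => ⟨z, hU z⟩
  have hf : ∀ x, IsFrame (f x) := fun x => isFrame_tmul (isFrame_one _) (hk' x)
  have hf' : ∀ x, IsFrame (f' x) := fun x => isFrame_tmul (hl' x) (hk' x)
  have hone : ∀ (x : X) (W : X.Opens) (hx : W ≤ (U x).1),
      res O hx (one' x) = (show Γ(Coh.structureModule X, W) from (1 : Γ(X, W))) := fun x W hx => map_one (resR hx)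
  -- `O ⊗ I_A ≅ I_A`
  let u : (AmpleVan.tw IA).obj O ⟶ IA := ofFrames (M := (AmpleVan.tw IA).obj O) (N := IA)
    (U := fun x => (U x).1) (e := f) (n := k) hcov hf (fun x y W hx hy g hg => by
      obtain ⟨p, hp⟩ := (hk' x).exists_coord hx (res IA hy (k y))
      have : g = p := (hf x).coord_unique hx (by
        rw [← hg]
        show res (CohB1.tensorMod O IA) hy (tmul _ _) = p • res (CohB1.tensorMod O IA) hx (tmul _ _)
        rw [res_tmul, res_tmul, hone, hone, hp, tmul_smul_right])
      exact this ▸ hp)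
  have hu : ∀ x, u.app (U x).1 (f x) = k x := fun x => ofFrames_app _ _ _ x
  haveI : IsIso u := isIso_of_frames' u _ hcov f hf fun x => (hu x).symm ▸ hk' x
  let v : (AmpleVan.tw IA).obj O ⟶ O := u ≫ ClSub.idealModι A
  have hAB : A * B ≤ A := mul_le_left' A B
  obtain ⟨q, hqe, hq⟩ := exists_quotMod_epi hAB
  have hv : ∀ x, v.app (U x).1 (f x) = (show Γ(Coh.structureModule X, (U x).1) from a x) := fun x => by
    show (ClSub.idealModι A).app _ (u.app (U x).1 (f x)) = _
    rw [hu]
    exact hk x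
  let ι' := (AmpleVan.tw IA).map (ClSub.idealModι B)
  have hι' : ∀ x, ι'.app (U x).1 (f' x) = b x • f x := fun x => by
    show ((AmpleVan.tw IA).map _).app _ (tmul _ _) = _
    rw [AmpleVan.map_tmul_left, ← tmul_smul_left]
    refine congrArg (fun z => tmul z (k x)) ?_
    show OmegaSh.idealSect B (U x).1 (l x) = b x * (1 : Γ(X, (U x).1))
    rw [hl, mul_one]
  have hw : ι' ≫ v ≫ ClSub.toSubscheme (A * B) = 0 := hom_ext_of_frames _ hcov f' hf' fun x => by
    show (ClSub.toSubscheme (A * B)).app _ (v.app (U x).1 (ι'.app (U x).1 (f' x))) = 0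
    rw [hι', Scheme.Modules.Hom.app_smul, hv]
    show (A * B).subschemeι.app (U x).1 (b x * a x) = 0
    rw [show b x * a x = OmegaSh.idealSect (A * B) (U x).1 (c x) from (mul_comm _ _).trans (hc x).symm]
    exact OmegaLib.subschemeι_app_idealSect _ _ _
  let z : (AmpleVan.tw IA).obj (ClSub.idealMod B) ⟶ ClSub.idealMod (A * B) :=
    kernel.lift (ClSub.toSubscheme (A * B)) (ι' ≫ v) (by rw [Category.assoc, hw])
  have hzι : z ≫ ClSub.idealModι (A * B) = ι' ≫ v := kernel.lift_ι _ _ _
  have hz : ∀ x, z.app (U x).1 (f' x) = c x := fun x => by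
    apply OmegaLib.idealSect_injective (A * B)
    rw [hc]
    refine (show _ = (ι' ≫ v).app (U x).1 (f' x) from congr(($hzι).app (U x).1 (f' x))).trans ?_
    show v.app (U x).1 (ι'.app (U x).1 (f' x)) = _
    rw [hι', Scheme.Modules.Hom.app_smul, hv]
    exact mul_comm (b x) (a x)
  haveI : IsIso z := isIso_of_frames' z _ hcov f' hf' fun x => (hz x).symm ▸ hc' x
  have hAi := ArSurfX.isInvertible_idealMod hA
  haveI := AmpleVan.isEquivalence_tw hAi
  haveI : (AmpleVan.tw IA).Additive := Functor.additive_of_preserves_binary_products _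
  have hS := (shortExact_ideal B).map_of_exact (AmpleVan.tw IA)
  haveI := hS.epi_g
  let π := (AmpleVan.tw IA).map (ClSub.toSubscheme B)
  haveI : Epi π := hS.epi_g
  let i : CohB1.tensorMod (ClSub.quotMod B) IA ⟶ ClSub.quotMod (A * B) :=
    hS.exact.desc (v ≫ ClSub.toSubscheme (A * B)) hw
  have hπ : π ≫ i = v ≫ ClSub.toSubscheme (A * B) := hS.exact.g_desc _ _
  have hiq : i ≫ q = 0 := by
    rw [← cancel_epi π, ← Category.assoc, hπ, Category.assoc, hq, comp_zero, Category.assoc,
      show ClSub.idealModι A ≫ ClSub.toSubscheme A = 0 from kernel.condition _, comp_zero]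
  haveI : Mono (ClSub.idealModι A) := (shortExact_ideal A).mono_f
  haveI : Mono (ClSub.idealModι (A * B)) := (shortExact_ideal (A * B)).mono_f
  have hmono : Mono i := Preadditive.mono_of_cancel_zero _ fun {Z} x hx => by
    obtain ⟨P, e, he, y, hy⟩ := surjective_up_to_refinements_of_epi π x
    have h0 : (y ≫ v) ≫ ClSub.toSubscheme (A * B) = 0 := by
      rw [Category.assoc, ← hπ, ← Category.assoc, ← hy, Category.assoc, hx, comp_zero]
    obtain ⟨t, ht⟩ := KernelFork.IsLimit.lift' (kernelIsKernel (ClSub.toSubscheme (A * B))) _ h0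
    have h1 : y = (t ≫ inv z) ≫ ι' := by
      rw [← cancel_mono v, Category.assoc _ ι' v, ← hzι, Category.assoc t (inv z), IsIso.inv_hom_id_assoc]
      exact ht.symm
    rw [← cancel_epi e, comp_zero, hy, h1, Category.assoc]
    exact (congrArg (fun g => (t ≫ inv z) ≫ g) (show ι' ≫ π = 0 from ((ShortComplex.mk (ClSub.idealModι B) (ClSub.toSubscheme B) (kernel.condition _)).map (AmpleVan.tw IA)).zero)).trans comp_zero
  refine ⟨i, q, hiq, { exact := ?_, mono_f := hmono, epi_g := hqe }, hq⟩
  rw [ShortComplex.exact_iff_exact_up_to_refinements]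
  intro Z x hx
  haveI : Epi (ClSub.toSubscheme (A * B)) := (shortExact_ideal (A * B)).epi_g
  obtain ⟨P, e, he, y, hy⟩ := surjective_up_to_refinements_of_epi (ClSub.toSubscheme (A * B)) x
  have h0 : y ≫ ClSub.toSubscheme A = 0 := by
    rw [← hq, ← Category.assoc, ← hy, Category.assoc]
    exact (congrArg (e ≫ ·) hx).trans comp_zero
  obtain ⟨t, ht⟩ := KernelFork.IsLimit.lift' (kernelIsKernel (ClSub.toSubscheme A)) _ h0
  refine ⟨P, e, he, (t ≫ inv u) ≫ π, ?_⟩
  show e ≫ x = ((t ≫ inv u) ≫ π) ≫ i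
  rw [Category.assoc (t ≫ inv u), hπ, hy, ← Category.assoc (t ≫ inv u)]
  congr 1
  show y = (t ≫ inv u) ≫ u ≫ ClSub.idealModι A
  rw [Category.assoc, IsIso.inv_hom_id_assoc]
  exact ht.symm

theorem shortExact_conj {C D : Type*} [Category C] [Abelian C] [Category D] [Abelian D] (F : C ⥤ D)
    [PreservesFiniteLimits F] [PreservesFiniteColimits F] [F.Additive] {S : ShortComplex C} (hS : S.ShortExact)
    {Y : D} (e : F.obj S.X₁ ≅ Y) :
    ∃ (i : Y ⟶ F.obj S.X₂) (q : F.obj S.X₂ ⟶ F.obj S.X₃) (w : i ≫ q = 0), (ShortComplex.mk i q w).ShortExact := by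
  refine ⟨e.inv ≫ F.map S.f, F.map S.g, by rw [Category.assoc, ← Functor.map_comp, S.zero, Functor.map_zero,
    comp_zero], ShortComplex.shortExact_of_iso ?_ (hS.map_of_exact F)⟩
  exact ShortComplex.isoMk e (Iso.refl _) (Iso.refl _) (by simp [ShortComplex.map]) (by simp [ShortComplex.map])

/-- The residual sequence twisted by an invertible module. -/
theorem exists_residual_twist {A B : X.IdealSheafData} (hA : BlowUp.IsEffCartierIdeal A)
    (hB : BlowUp.IsEffCartierIdeal B) {N : X.Modules} (hN : PicF.IsInvertible N) :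
    ∃ (i : CohB1.tensorMod (ClSub.quotMod B) (CohB1.tensorMod (ClSub.idealMod A) N) ⟶
        CohB1.tensorMod (ClSub.quotMod (A * B)) N)
      (q : CohB1.tensorMod (ClSub.quotMod (A * B)) N ⟶ CohB1.tensorMod (ClSub.quotMod A) N) (w : i ≫ q = 0),
      (ShortComplex.mk i q w).ShortExact := by
  obtain ⟨i, q, w, hS, -⟩ := exists_residual hA hB
  haveI := AmpleVan.isEquivalence_tw hN
  haveI : (AmpleVan.tw N).Additive := Functor.additive_of_preserves_binary_products _
  exact shortExact_conj (AmpleVan.tw N) hS (AmpleVan.assocT (ClSub.quotMod B) (ClSub.idealMod A) N)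

end Groth.Agent.SurfInt
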