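import Groth.Agent.SurfInt.FibreCurve
import Groth.Agent.SurfInt.FibreConn
import Groth.Agent.SurfInt.InterSeq
import Groth.Agent.AvramovLib.Ps

/-! Zariski's lemma for curves in fibres. -/

noncomputable section

set_option linter.style.haveILetI false
set_option linter.unusedSectionVars false
set_option backward.isDefEq.respectTransparency false
set_option backward.isDefEq.respectTransparency.types false

universe u

open CategoryTheory CategoryTheory.Limits AlgebraicGeometry TopologicalSpace Opposite

namespace Groth.Agent.SurfInt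

open Groth.Agent

/-- A closed subset of a Noetherian scheme all of whose points are closed is finite. -/
theorem finite_of_closed_points {X : Scheme.{u}} [IsNoetherian X] {S : Set X} (hS : IsClosed S)
    (h : ∀ x ∈ S, IsClosed ({x} : Set X)) : S.Finite := by
  obtain ⟨T, hTf, hTirr, hT⟩ := TopologicalSpace.NoetherianSpace.exists_finite_set_closeds_irreducible
    (⟨S, hS⟩ : Closeds X)
  have hsub : ∀ Z ∈ T, (Z : Set X) ⊆ S := fun Z hZ => by
    have h1 : Z ≤ (⟨S, hS⟩ : Closeds X) := hT.symm ▸ le_sSup hZ
    exact h1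
  have hS' : S ⊆ ⋃ Z ∈ T, (Z : Set X) := fun x hx => by
    by_contra hc
    let C : Closeds X := ⟨⋃ Z ∈ T, (Z : Set X), hTf.isClosed_biUnion fun Z _ => Z.isClosed⟩
    have h1 : (⟨S, hS⟩ : Closeds X) ≤ C := by
      rw [hT]
      exact sSup_le fun Z hZ y hy => Set.mem_biUnion hZ hy
    exact hc (h1 hx)
  refine (hTf.biUnion fun Z hZ => ?_).subset hS'
  obtain ⟨η, hη⟩ := QuasiSober.sober (hTirr Z hZ) Z.isClosed
  refine (Set.finite_singleton η).subset fun z hz => ?_
  rw [← hη.def, (h η (hsub Z hZ hη.mem)).closure_eq] at hz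
  exact hz

variable (k : Type u) [Field k] [IsAlgClosed k] {X : Scheme.{u}} [X.Over (Spec (CommRingCat.of k))]
  [IsProper (X ↘ Spec (CommRingCat.of k))] [IsIntegral X] (hdim : topologicalKrullDim X = 2)
  (hreg : ∀ x : X, IsRegularLocalRing (X.presheaf.stalk x))
  {Y : Scheme.{u}} [Y.Over (Spec (CommRingCat.of k))] [IsProper (Y ↘ Spec (CommRingCat.of k))] [IsIntegral Y]

include k hdim hreg

/-- A curve meets an effective divisor not containing it in a finite set. -/
theorem finite_inter_curve (D : X.IdealSheafData) [IsIntegral D.subscheme]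
    (hD : topologicalKrullDim (D.support : Set X) = 1) {R : X.IdealSheafData}
    (hg : genC D ∉ (R.support : Set X)) : ((D ⊔ R).support : Set X).Finite := by
  haveI := noeth k (X := X)
  refine finite_of_closed_points (D ⊔ R).support.isClosed fun x hx => ?_
  rw [Scheme.IdealSheafData.support_sup] at hx
  obtain ⟨hxD, hxR⟩ := hx
  have hsp : genC D ⤳ x := specializes_iff_mem_closure.2 ((closure_genC D).symm ▸ hxD)
  have hne : x ≠ genC D := fun e => hg (e ▸ hxR)
  have hlt : x < genC D := lt_iff_le_not_ge.2 ⟨hsp, fun h' => hne (hsp.antisymm h').eq.symm⟩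
  have h1 := VarDim.deg_strictMono (X ↘ Spec (CommRingCat.of k)) hlt
  rw [deg_genC k D hD] at h1
  exact (VarDim.closedPoint_iff_deg_eq_zero (X ↘ Spec (CommRingCat.of k)) x).2 (by omega)

/-- A curve and a divisor not containing it with intersection number zero are disjoint. -/
theorem disjoint_of_dot_eq_zero (D : X.IdealSheafData) [IsIntegral D.subscheme]
    (hD : topologicalKrullDim (D.support : Set X) = 1) {R : X.IdealSheafData} (hR : BlowUp.IsEffCartierIdeal R)
    (hg : genC D ∉ (R.support : Set X)) (h : dot k (ClSub.idealMod D) (ClSub.idealMod R) = 0) :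
    Disjoint (D.support : Set X) (R.support : Set X) := by
  haveI := noeth k (X := X)
  have hcomp : ∀ Z ∈ irreducibleComponents (X : Type u), topologicalKrullDim Z = 2 := fun Z hZ => by
    rw [irreducibleComponents_eq_singleton (X := (X : Type u)), Set.mem_singleton_iff] at hZ
    subst hZ
    rw [← hdim]
    exact IsHomeomorph.topologicalKrullDim_eq _ (Homeomorph.Set.univ _).isHomeomorph
  rw [dot_eq_finrank_inter k hcomp (fun x => haveI := hreg x; AvramovLib.isCM_of_regular _)
    (isEffCartier_curve k hdim hreg D hD) hR (finite_inter_curve k hdim hreg D hD hg)] at h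
  refine Set.disjoint_left.2 fun x hxD hxR => ?_
  haveI := CurveCohLib.finite_HH (k := k) (isCoh_quotMod k (D ⊔ R)) 0
  haveI : Epi (ClSub.toSubscheme (D ⊔ R)) := (shortExact_ideal (D ⊔ R)).epi_g
  have hne0 : ClSub.toSubscheme (D ⊔ R) ≠ 0 := fun h0 => by
    have hx : x ∈ (D ⊔ R).support := by
      rw [Scheme.IdealSheafData.support_sup]
      exact ⟨hxD, hxR⟩
    refine CurveCohLib.GlobGen.nontrivial_stalk_quotMod (D ⊔ R) hx (subsingleton_of_forall_eq 0 fun v => ?_)
    obtain ⟨w, rfl⟩ := st_surjective (ClSub.toSubscheme (D ⊔ R)) v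
    rw [h0]
    simp [st]
    rfl
  haveI := nontrivial_H0_of_hom hne0
  have := Module.finrank_pos (R := k) (M := Coh.HH X (ClSub.quotMod (D ⊔ R)) 0)
  omega

/-- Zariski's lemma for one component: `D² ≤ 0`, with equality only if the fibre is a multiple of `D`. -/
theorem zariski_curve (f : X ⟶ Y) [IsProper f] [Surjective f] (hconn : IsIso (ClSub.unitToPush f))
    (hdimY : topologicalKrullDim Y = 1) {p : Y} (hp : IsClosed ({p} : Set Y))
    (hn : IsIntegrallyClosed (Y.presheaf.stalk p)) (D : X.IdealSheafData) [IsIntegral D.subscheme]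
    (hD : topologicalKrullDim (D.support : Set X) = 1) (hDv : ∀ x ∈ (D.support : Set X), f x = p) :
    dot k (ClSub.idealMod D) (ClSub.idealMod D) ≤ 0 ∧
      (dot k (ClSub.idealMod D) (ClSub.idealMod D) = 0 →
        ∃ m : ℕ, 0 < m ∧ (f.fiberι p).ker = D ^ m) := by
  classical
  haveI := noeth k (X := X)
  haveI := noeth k (X := Y)
  have hd := hdim.le
  obtain ⟨hF, ⟨eF⟩, hs⟩ := fibre_effCartier k f hdimY hp hn
  set F := (f.fiberι p).ker
  have hDe := isEffCartier_curve k hdim hreg D hD
  have iD := ArSurfX.isInvertible_idealMod hDe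
  have hDne : D ≠ ⊤ := fun e => by
    rw [e, dim_support_top] at hD
    exact absurd hD (by simp)
  obtain ⟨e, R, hR, hFR, hRD⟩ := exists_decomp (fun _ : Fin 1 => D) (fun _ => hDe) (fun _ => hDne) F hF
  rw [Fin.prod_univ_one] at hFR
  have hg : genC D ∉ (R.support : Set X) := fun hh => hRD 0 ((le_curve_iff D).2 hh)
  have hpos : 0 < e 0 := by
    rcases Nat.eq_zero_or_pos (e 0) with h0 | h0
    · exfalso
      apply hg
      rw [h0, pow_zero, one_mul] at hFR
      rw [← hFR, hs]
      exact hDv _ (genC_mem D)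
    · exact h0
  have iR := ArSurfX.isInvertible_idealMod hR
  have hDR := dot_ideal_nonneg k hd D hD iD iR hg
  have h0 : dot k (ClSub.idealMod D) (ClSub.idealMod F) = 0 := by
    rw [dot_ideal_left k hd D iD (ArSurfX.isInvertible_idealMod hF), ← degOn_congr k eF,
      degOn_pullback_const k f (ArSurfX.isInvertible_idealMod (CurveEmbed.isEffCartier_point k hdimY hp hn)) p D hDv,
      neg_zero]
  rw [hFR, dot_idealMod_mul k hd iD (isEffCartier_pow hDe _) hR, dot_idealMod_pow k hd iD hDe] at h0
  refine ⟨?_, fun hDD => ⟨e 0, hpos, ?_⟩⟩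
  · by_contra hc
    push Not at hc
    have := mul_pos (Int.natCast_pos.2 hpos) hc
    omega
  · rw [hDD, mul_zero, zero_add] at h0
    have hdis := disjoint_of_dot_eq_zero k hdim hreg D hD hR hg h0
    have hu : (D.support : Set X) ∪ (R.support : Set X) = f ⁻¹' {p} := by
      rw [← hs, hFR, Scheme.IdealSheafData.support_mul, Scheme.IdealSheafData.support_pow _ _ (by omega)]
      rfl
    have hpc := (isConnected_fibre f hconn p).isPreconnected
    have hRempty : (R.support : Set X) = ∅ := by
      rw [← Set.not_nonempty_iff_eq_empty]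
      rintro ⟨y, hy⟩
      obtain ⟨z, -, hz1, hz2⟩ := isPreconnected_closed_iff.1 hpc _ _ D.support.isClosed R.support.isClosed
        hu.ge ⟨genC D, hu ▸ Or.inl (genC_mem D), genC_mem D⟩ ⟨y, hu ▸ Or.inr hy, hy⟩
      exact Set.disjoint_left.1 hdis hz1 hz2
    have hRtop : R = ⊤ := (Scheme.IdealSheafData.support_eq_bot_iff R).1 (Closeds.ext hRempty)
    rw [hFR, hRtop, mul_top_ideal]

end Groth.Agent.SurfInt
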